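import Cfsg.Agent.H513.NilpThAbs
import Cfsg.Agent.ThFive.Main
import Cfsg.Agent.H502.ThFiveP
import Cfsg.Agent.H687.EqD.ProdL

/-!
# Row Th of S2242: orders of nilpotent subgroups (helper513)
-/

set_option autoImplicit false
set_option maxRecDepth 100000
set_option linter.unusedSectionVars false

namespace Cfsg.Agent.H513.NilpTh

open Subgroup Cfsg
open Cfsg.Agent.Th.Base Cfsg.Agent.Th.Word Cfsg.Agent.Th.RelWords Cfsg.Agent.Th.PermTab
  Cfsg.Agent.Th.KOracle Cfsg.Agent.Th.KPerm Cfsg.Agent.Th.NineAct Cfsg.Agent.Th.CStruct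
  Cfsg.Agent.Th.COracleDef Cfsg.Agent.Th.COracleSound Cfsg.Agent.Th.IndexUpper
open Cfsg.Agent.KFacts.Th.Mask Cfsg.Agent.KFacts.Th.Struct
open Cfsg.Agent.CpAutTh.Data Cfsg.Agent.CpAutTh.Alt Cfsg.Agent.CpAutTh.RankOne Cfsg.Agent.CpAutTh.Local
  Cfsg.Agent.CpAutTh.Mid Cfsg.Agent.CpAutTh.ThreePerm Cfsg.Agent.CpAutTh.ThreeE
open Cfsg.Agent.BpSpor.ThCent Cfsg.Agent.BpSpor.ThThree
open Cfsg.Agent.ThFive.Five Cfsg.Agent.ThFive
open Cfsg.Agent.H972 Cfsg.Agent.H972.NSm Cfsg.Agent.H513.NilpTools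

universe u

section Gen

variable {G : Type u} [Group G] {γ : ℕ → G} (h : Ctx γ)
  {f : sub γ isC →* alternatingGroup (Fin 9)} (F : Epi γ f)
include h F

/-- the elements of order 3 of `A4` -/
theorem exists_m : ∃ m : alternatingGroup (Fin 4), m ≠ 1 ∧ m ^ 3 = 1 := by decide +kernel

/-- `γ 1` is a commutator in `C(X5) ∩ C(γ 1)` -/
theorem s_mem_comm : sx h c5 ∈ commutator ↥(centralizer ({ev γ X5} : Set G)) := by
  have hfin := h.fin
  have h2F : Fact (Nat.Prime 2) := ⟨Nat.prime_two⟩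
  -- in the copy of `A4`
  have e0 : ↥S4 ≃ Fin 4 := (Fintype.equivFinOfCardEq (by rw [Fintype.card_coe, card_S4]))
  let e : alternatingGroup ↥S4 ≃* alternatingGroup (Fin 4) := e0.altCongrHom
  obtain ⟨m, hm1, hm3⟩ := exists_m h F
  obtain ⟨g, hg1, hg2⟩ := prod_two m hm1 hm3
  -- lifts
  obtain ⟨a, ha⟩ := (psi h c5 f).rangeRestrict_surjective (jj5 h F (e.symm g))
  obtain ⟨b, hb⟩ := (psi h c5 f).rangeRestrict_surjective (jj5 h F (e.symm m))
  have hab : (psi h c5 f).rangeRestrict (a * b * a⁻¹ * b⁻¹) = jj5 h F (e.symm (g * m * g⁻¹ * m⁻¹)) := by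
    simp only [map_mul, map_inv, ha, hb]
  set c := a * b * a⁻¹ * b⁻¹ with hc
  -- `c` has even order
  have h2 : 2 ∣ orderOf c := by
    have h3 : orderOf (g * m * g⁻¹ * m⁻¹) = 2 := orderOf_eq_prime (by rw [pow_two]; exact hg2) hg1
    have h4 : orderOf ((psi h c5 f).rangeRestrict c) = 2 := by
      rw [hab, orderOf_injective _ (jj5_inj h F), MulEquiv.orderOf_eq, h3]
    rw [← h4]
    exact orderOf_map_dvd _ c
  obtain ⟨k, hk⟩ := h2
  have hk0 : k ≠ 0 := by
    rintro rfl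
    exact (orderOf_pos c).ne' (by rw [hk])
  have h5 : orderOf (c ^ k) = 2 := by
    rw [orderOf_pow_of_dvd hk0 (by rw [hk]; exact dvd_mul_left _ _), hk]
    exact Nat.mul_div_cancel _ (Nat.pos_of_ne_zero hk0)
  -- it is `s`
  have h6 : ((c ^ k : ↥(centralizer ({sx h c5} : Set _))) : ↥(centralizer ({ev γ X5} : Set G))) = sx h c5 :=
    (sit5 h F).uniq _ (by rw [Subgroup.orderOf_coe, h5]) (mem_centralizer_singleton_iff.1 (c ^ k).2)
  have h7 : ((c : ↥(centralizer ({sx h c5} : Set _))) : ↥(centralizer ({ev γ X5} : Set G))) ∈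
      commutator ↥(centralizer ({ev γ X5} : Set G)) := by
    have h8 := Subgroup.commutator_mem_commutator (G := ↥(centralizer ({ev γ X5} : Set G))) (H₁ := ⊤) (H₂ := ⊤)
      (g₁ := (a : ↥(centralizer ({ev γ X5} : Set G)))) (g₂ := (b : ↥(centralizer ({ev γ X5} : Set G))))
      (mem_top _) (mem_top _)
    rw [commutator_def]
    exact h8
  rw [← h6]
  exact pow_mem h7 k

/-- `|C(X5) ∩ C(γ 1)|` -/
theorem card_C5 : ∃ n, 1 ≤ n ∧ Nat.card ↥(centralizer ({sx h c5} : Set _)) = 2 ^ n * 60 := by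
  have hfin := h.fin
  have h2F : Fact (Nat.Prime 2) := ⟨Nat.prime_two⟩
  obtain ⟨n, hn⟩ := IsPGroup.iff_card.1 (ker_two_psi h F c5)
  refine ⟨n, ?_, ?_⟩
  · by_contra h0
    have h1 : n = 0 := by omega
    rw [h1, pow_zero] at hn
    have h2 := Subgroup.card_eq_one.1 hn
    have h3 : (⟨sx h c5, mem_centralizer_singleton_iff.2 rfl⟩ : ↥(centralizer ({sx h c5} : Set _))) ∈
        (psi h c5 f).ker := by
      rw [mem_ker_psi h F c5]
      exact h.a_mem
    rw [h2, mem_bot] at h3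
    have h4 := order_sx h c5
    have h5 : sx h c5 = 1 := congrArg Subtype.val h3
    rw [h5, orderOf_one] at h4
    norm_num at h4
  · rw [← card_mul_index (psi h c5 f).ker, index_ker, hn, range_card5 h F]

variable (hone : ∀ u : G, orderOf u = 2 → ∃ g : G, g * u * g⁻¹ = γ 1)
include hone

/-- primes not dividing the order of the centralizer of an element of order 5 -/
theorem not_dvd_five {x s : G} (hx : orderOf x = 5) (hs : orderOf s = 2) (hxs : x * s = s * x) {r : ℕ} (hr : r.Prime)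
    (hrC : ¬ r ∣ 92897280) (hr2 : ¬ r * r ∣ 90745943887872000) : ¬ r ∣ Nat.card ↥(centralizer ({x} : Set G)) := by
  have hfin := h.fin
  obtain ⟨g, h1, h2⟩ := exists_pair h hone hx hs hxs.symm (P := fun z => z = ev γ X5) (fun y hy => by
      obtain ⟨c, hc⟩ := exists_rep_five h F hy
      exact ⟨c, congrArg Subtype.val hc⟩)
  rw [Nat.card_congr (centConj g h2).toEquiv]
  obtain ⟨N, hN⟩ := (sit5 h F).core
  refine (Cr.of_core hN).not_dvd hr ?_ ?_ (s_mem_comm h F)
  · intro hd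
    apply hr2
    rw [← h.card]
    exact hd.trans (card_subgroup_dvd_card _)
  · intro hd
    apply hrC
    rw [← h.cardC, ← h.cent]
    have h3 : (centralizer ({sx h c5} : Set ↥(centralizer ({ev γ X5} : Set G)))).map
        (centralizer ({ev γ X5} : Set G)).subtype ≤ centralizer ({γ 1} : Set G) := by
      rintro _ ⟨y, hy, rfl⟩
      exact mem_centralizer_singleton_iff.2 (congrArg Subtype.val (mem_centralizer_singleton_iff.1 hy))
    have h4 := card_dvd_of_le h3
    rw [card_map_of_injective (centralizer ({ev γ X5} : Set G)).subtype_injective] at h4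
    exact hd.trans h4

/-- the elements of order 5 commute with involutions -/
theorem exists_inv' {x y w : G} (hx5 : x ^ 5 = 1) (hy5 : y ^ 5 = 1) (hxz : x * ev γ X5 = ev γ X5 * x)
    (hyz : y * ev γ X5 = ev γ X5 * y) (hxy : x * y = y * x * ev γ X5) (hax : γ 1 * x * (γ 1)⁻¹ = x⁻¹)
    (hay : γ 1 * y * (γ 1)⁻¹ = y⁻¹) (hw : orderOf w = 2) (hwy : w * y = y * w) (u : G) (hu : orderOf u = 5) :
    ∃ t : G, orderOf t = 2 ∧ t * u = u * t := by
  have hfin := h.fin
  have h5F : Fact (Nat.Prime 5) := ⟨Nat.prime_five⟩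
  obtain ⟨N, hN⟩ := (sit5 h F).core
  have hcr := Cr.of_core hN
  have hZ := hcr.normalZ
  set X : ↥(centralizer ({ev γ X5} : Set G)) := ⟨x, mem_centralizer_singleton_iff.2 hxz⟩ with hX
  set Y : ↥(centralizer ({ev γ X5} : Set G)) := ⟨y, mem_centralizer_singleton_iff.2 hyz⟩ with hY
  have hXN : X ∈ N := hN.mem_of_inv (m := 5) (Subtype.ext hax) (by decide) (Subtype.ext hx5)
  have hYN : Y ∈ N := hN.mem_of_inv (m := 5) (Subtype.ext hay) (by decide) (Subtype.ext hy5)
  have hXY' : X * Y = Y * X * xx γ X5 := Subtype.ext hxy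
  have hz1 : xx γ X5 ≠ 1 := by
    intro h1
    have h2 := hcr.oz
    rw [h1, orderOf_one] at h2
    norm_num at h2
  have hXY : X * Y ≠ Y * X := by
    rw [hXY']
    intro h1
    exact hz1 (mul_eq_left.1 h1)
  obtain ⟨-, hcomm⟩ := hcr.quot
  have hA25 := hcr.card_A (fun hd => by
    have h1 := hd.trans (card_subgroup_dvd_card _)
    rw [h.card] at h1
    revert h1
    norm_num) hXN (Subtype.ext hx5) hYN (Subtype.ext hy5) hXY hcomm
  obtain ⟨n, hn1, hn⟩ := card_C5 h F
  have hn9 : Nat.card ↥(centralizer ({sx h c5} : Set ↥(centralizer ({ev γ X5} : Set G)))) ∣ 92897280 := by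
    rw [← h.cardC, ← h.cent]
    have h3 : (centralizer ({sx h c5} : Set ↥(centralizer ({ev γ X5} : Set G)))).map
        (centralizer ({ev γ X5} : Set G)).subtype ≤ centralizer ({γ 1} : Set G) := by
      rintro _ ⟨y, hy, rfl⟩
      exact mem_centralizer_singleton_iff.2 (congrArg Subtype.val (mem_centralizer_singleton_iff.1 hy))
    have h4 := card_dvd_of_le h3
    rwa [card_map_of_injective (centralizer ({ev γ X5} : Set G)).subtype_injective] at h4
  set π := QuotientGroup.mk' (zpowers (xx γ X5)) with hπ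
  set A := ThFive.tors (N.map π) hcomm 5 with hA
  -- the Sylow subgroup
  set Q := A.comap π with hQ
  have hQcard : Nat.card ↥Q = 5 ^ 3 := by
    have h1 := card_comap_mk (zpowers (xx γ X5)) A
    rw [hcr.cardZ, hA25] at h1
    rw [hQ, hπ, h1]
    norm_num
  have hQ'card : Nat.card ↥(Q.map (centralizer ({ev γ X5} : Set G)).subtype) = 5 ^ 3 := by
    rw [card_map_of_injective (centralizer ({ev γ X5} : Set G)).subtype_injective, hQcard]
  have hQ'p : IsPGroup 5 ↥(Q.map (centralizer ({ev γ X5} : Set G)).subtype) := IsPGroup.of_card hQ'card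
  obtain ⟨P, hP⟩ := hQ'p.exists_le_sylow
  have hPQ : Q.map (centralizer ({ev γ X5} : Set G)).subtype = P := by
    refine eq_of_le_of_card_ge hP ?_
    obtain ⟨k, hk⟩ := IsPGroup.iff_card.1 P.isPGroup'
    rw [hk, hQ'card]
    refine Nat.pow_le_pow_right (by norm_num) ?_
    by_contra hlt
    have h8 := card_subgroup_dvd_card (P : Subgroup G)
    rw [hk, h.card] at h8
    have h9 : 5 ^ 4 ∣ 90745943887872000 := (pow_dvd_pow 5 (by omega)).trans h8
    revert h9
    norm_num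
  have hup : IsPGroup 5 ↥(zpowers u) := IsPGroup.of_card (n := 1) (by rw [Nat.card_zpowers, hu, pow_one])
  obtain ⟨P2, hP2⟩ := hup.exists_le_sylow
  obtain ⟨g, hg⟩ := MulAction.exists_smul_eq G P2 P
  have hgu : g * u * g⁻¹ ∈ Q.map (centralizer ({ev γ X5} : Set G)).subtype := by
    rw [hPQ, ← hg]
    exact ⟨u, hP2 (mem_zpowers u), rfl⟩
  obtain ⟨q, hqQ, hqu⟩ := hgu
  have hqu' : (q : G) = g * u * g⁻¹ := hqu
  -- it is enough to find an involution commuting with `q`
  suffices hs : ∃ t : G, orderOf t = 2 ∧ t * q = q * t by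
    obtain ⟨t, ht, htq⟩ := hs
    refine ⟨g⁻¹ * t * g, ?_, ?_⟩
    · rw [← ht]
      have := MulEquiv.orderOf_eq (MulAut.conj g⁻¹) t
      rwa [MulAut.conj_apply, inv_inv] at this
    · rw [hqu'] at htq
      calc g⁻¹ * t * g * u = g⁻¹ * (t * (g * u * g⁻¹)) * g := by group
        _ = g⁻¹ * (g * u * g⁻¹ * t) * g := by rw [htq]
        _ = _ := by group
  by_cases hq1 : π q = 1
  · refine ⟨γ 1, ?_, ?_⟩
    · have := order_sx h c5
      rwa [← Subgroup.orderOf_coe] at this
    · have h1 : q ∈ zpowers (xx γ X5) := (QuotientGroup.eq_one_iff q).1 hq1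
      exact congrArg Subtype.val (hcr.zc_comm h1 (sx h c5))
  · obtain ⟨c, -, hc⟩ := exists_conj_A (sit5 h F) hcr (by
      rw [hn]
      have : 2 ^ 1 ≤ 2 ^ n := Nat.pow_le_pow_right (by norm_num) hn1
      omega) (by
      intro hd
      have h1 := hd.trans hn9
      revert h1
      norm_num) (by
      intro r hr hrd
      rw [hn] at hrd
      rcases (Nat.Prime.dvd_mul hr).1 hrd with h1 | h1
      · left
        exact (Nat.prime_dvd_prime_iff_eq hr Nat.prime_two).1 (hr.dvd_of_dvd_pow h1)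
      · have h2 : r ∈ Nat.primeFactors 60 := Nat.mem_primeFactors.2 ⟨hr, h1, by norm_num⟩
        have h3 : Nat.primeFactors 60 = {2, 3, 5} := by decide +kernel
        rw [h3] at h2
        simpa using h2) hcomm hA25 (v := π q) (w := π Y) hqQ hq1
        ⟨⟨Y, hYN, rfl⟩, by rw [← map_pow, show Y ^ 5 = 1 from Subtype.ext hy5, map_one]⟩ (by
          intro h1
          exact hXY (hcr.zc_comm ((QuotientGroup.eq_one_iff Y).1 h1) X))
    rw [← map_inv, ← map_mul, ← map_mul] at hc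
    have h1 : Y⁻¹ * (c * q * c⁻¹) ∈ zpowers (xx γ X5) := QuotientGroup.eq.1 hc.symm
    obtain ⟨i, hi⟩ := (Submonoid.mem_powers_iff _ _).1 ((mem_powers_iff_mem_zpowers).2 h1)
    have hpow : ∀ j : ℕ, X ^ j * Y = Y * X ^ j * xx γ X5 ^ j := by
      intro j
      induction j with
      | zero => simp
      | succ j ih =>
        have h2 := ((show Commute X (xx γ X5) from hcr.z_comm X).pow_left j).eq
        calc X ^ (j + 1) * Y = X * (X ^ j * Y) := by rw [pow_succ', mul_assoc]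
          _ = X * Y * X ^ j * xx γ X5 ^ j := by rw [ih]; simp only [mul_assoc]
          _ = Y * X * (xx γ X5 * X ^ j) * xx γ X5 ^ j := by rw [hXY']; simp only [mul_assoc]
          _ = Y * X * (X ^ j * xx γ X5) * xx γ X5 ^ j := by rw [h2]
          _ = Y * X ^ (j + 1) * xx γ X5 ^ (j + 1) := by
            rw [pow_succ' X, pow_succ' (xx γ X5)]; simp only [mul_assoc]
    have h2 : c * q * c⁻¹ = X ^ i * Y * (X ^ i)⁻¹ := by
      have h3 : c * q * c⁻¹ = Y * xx γ X5 ^ i := by rw [hi]; group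
      rw [h3, hpow i]
      have h4 := ((show Commute (X ^ i) (xx γ X5) from hcr.z_comm (X ^ i)).pow_right i).eq
      rw [mul_assoc Y, h4]
      group
    have h3 : q = (c⁻¹ * X ^ i) * Y * (c⁻¹ * X ^ i)⁻¹ := by
      calc q = c⁻¹ * (c * q * c⁻¹) * c := by group
        _ = _ := by rw [h2]; group
    set e : G := ((c⁻¹ * X ^ i : ↥(centralizer ({ev γ X5} : Set G))) : G) with he
    have h4 : (q : G) = e * y * e⁻¹ := congrArg Subtype.val h3
    refine ⟨e * w * e⁻¹, ?_, ?_⟩
    · rw [← hw]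
      exact MulEquiv.orderOf_eq (MulAut.conj e) w
    · rw [h4]
      calc e * w * e⁻¹ * (e * y * e⁻¹) = e * (w * y) * e⁻¹ := by group
        _ = e * (y * w) * e⁻¹ := by rw [hwy]
        _ = _ := by group

theorem exists_inv {x y z w a : G} (hz : orderOf z = 5) (ha : orderOf a = 2) (haz : a * z = z * a)
    (hx5 : x ^ 5 = 1) (hy5 : y ^ 5 = 1) (hxz : x * z = z * x)
    (hyz : y * z = z * y) (hxy : x * y = y * x * z) (hax : a * x * a⁻¹ = x⁻¹)
    (hay : a * y * a⁻¹ = y⁻¹) (hw : orderOf w = 2) (hwy : w * y = y * w) (u : G) (hu : orderOf u = 5) :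
    ∃ t : G, orderOf t = 2 ∧ t * u = u * t := by
  obtain ⟨g, h1, h2⟩ := exists_pair h hone hz ha haz (P := fun z => z = ev γ X5) (fun y hy => by
      obtain ⟨c, hc⟩ := exists_rep_five h F hy
      exact ⟨c, congrArg Subtype.val hc⟩)
  have hcj : ∀ b c : G, MulAut.conj g (b * c) = MulAut.conj g b * MulAut.conj g c := map_mul _
  have e1 : MulAut.conj g a = γ 1 := h1
  have e2 : MulAut.conj g z = ev γ X5 := h2
  refine exists_inv' h F hone (x := MulAut.conj g x) (y := MulAut.conj g y) (w := MulAut.conj g w) ?_ ?_ ?_ ?_ ?_ ?_ ?_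
    ?_ ?_ u hu
  · rw [← map_pow, hx5, map_one]
  · rw [← map_pow, hy5, map_one]
  · rw [← e2, ← map_mul, ← map_mul, hxz]
  · rw [← e2, ← map_mul, ← map_mul, hyz]
  · rw [← e2, ← map_mul, ← map_mul, ← map_mul, hxy]
  · rw [← e1, ← map_inv, ← map_mul, ← map_mul, hax, map_inv]
  · rw [← e1, ← map_inv, ← map_mul, ← map_mul, hay, map_inv]
  · rw [← hw]
    exact MulEquiv.orderOf_eq (MulAut.conj g) w
  · rw [← map_mul, ← map_mul, hwy]

end Gen

/-! ### The group `Th` -/

section Th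

open Cfsg.Agent.H502.ThFiveP

theorem k_z1 : Nat.beq (Cfsg.Agent.Th.Words248.expd H502.ThFivePData.mz) Cfsg.Agent.Th.Words248.idm = false := by
  decide +kernel

theorem z1 : z ≠ 1 := rz.ne_of H502.ThFivePCheck.Rep.one k_z1

theorem involution (u : Spor.Th) (hu : orderOf u = 5) : ∃ t : Spor.Th, orderOf t = 2 ∧ t * u = u * t := by
  obtain ⟨f, F⟩ := CpAutTh.Local.exists_epi KFacts.Th.Main.ctx
  have h5F : Fact (Nat.Prime 5) := ⟨Nat.prime_five⟩
  have h2F : Fact (Nat.Prime 2) := ⟨Nat.prime_two⟩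
  have hi : a⁻¹ = a := inv_eq_of_mul_eq_one_right aa
  refine exists_inv KFacts.Th.Main.ctx F hone (x := x) (y := y) (z := z) (w := w) (a := a)
    (orderOf_eq_prime z5 z1) (orderOf_eq_prime (by rw [pow_two]; exact aa) a1) az x5 y5 xz yz xy ?_ ?_
    (orderOf_eq_prime (by rw [pow_two]; exact ww) w1) wy u hu
  · rw [hi, ← mul_eq_one_iff_eq_inv, mul_assoc]
    exact ax
  · rw [hi, ← mul_eq_one_iff_eq_inv, mul_assoc]
    exact ay

theorem finite : Finite Spor.Th := KFacts.Th.Main.ctx.fin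

theorem card : Nat.card Spor.Th = 90745943887872000 := KFacts.Th.Main.ctx.card

theorem card_inv {s : Spor.Th} (hs : orderOf s = 2) : Nat.card ↥(centralizer ({s} : Set Spor.Th)) = 92897280 :=
  card_cent KFacts.Th.Main.ctx hone hs

theorem not_dvd_cent5 {x : Spor.Th} (hx : orderOf x = 5) {r : ℕ} (hr : r.Prime)
    (hrC : ¬ r ∣ 92897280) (hr2 : ¬ r * r ∣ 90745943887872000) :
    ¬ r ∣ Nat.card ↥(centralizer ({x} : Set Spor.Th)) := by
  obtain ⟨f, F⟩ := CpAutTh.Local.exists_epi KFacts.Th.Main.ctx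
  obtain ⟨s, hs, hsx⟩ := involution x hx
  exact not_dvd_five KFacts.Th.Main.ctx F hone hx hs hsx.symm hr hrC hr2

/-- the centralizers of the elements of order 13, 19, 31 -/
theorem cent_dvd {x : Spor.Th} {r : ℕ} (hr : r.Prime) (hx : orderOf x = r)
    (hrC : ¬ r ∣ 92897280) (hr2 : ¬ r * r ∣ 90745943887872000) :
    Nat.card ↥(centralizer ({x} : Set Spor.Th)) ∣ 3 ^ 10 * 7 ^ 2 * 13 * 19 * 31 := by
  have := finite
  have h2 : ¬ 2 ∣ Nat.card ↥(centralizer ({x} : Set Spor.Th)) :=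
    odd_cent' hx fun t ht => by rw [card_inv ht]; exact hrC
  have h5 : ¬ 5 ∣ Nat.card ↥(centralizer ({x} : Set Spor.Th)) := by
    intro hd
    have h5F : Fact (Nat.Prime 5) := ⟨Nat.prime_five⟩
    obtain ⟨u, hu⟩ := exists_prime_orderOf_dvd_card' 5 hd
    have h1 : (u : Spor.Th) * x = x * u := mem_centralizer_singleton_iff.1 u.2
    apply not_dvd_cent5 (x := (u : Spor.Th)) (by rw [Subgroup.orderOf_coe, hu]) hr hrC hr2
    have h3 := orderOf_dvd_natCard (⟨x, mem_centralizer_singleton_iff.2 h1.symm⟩ :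
      ↥(centralizer ({(u : Spor.Th)} : Set Spor.Th)))
    rwa [Subgroup.orderOf_mk, hx] at h3
  have h6 := card_subgroup_dvd_card (centralizer ({x} : Set Spor.Th))
  rw [card, show (90745943887872000 : ℕ) = 2 ^ 15 * (5 ^ 3 * (3 ^ 10 * 7 ^ 2 * 13 * 19 * 31)) by norm_num] at h6
  exact dvd_drop Nat.prime_five h5 (dvd_drop Nat.prime_two h2 h6)

theorem chk19 : allDiv [(3, 10), (7, 2), (13, 1), (31, 1)] 19
    (fun c => !(admB 90745943887872000 19 c) || Nat.blt (c * c) 90745943887872000) = true := by decide +kernel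

theorem chk13 : allDiv [(3, 10), (7, 2), (19, 1), (31, 1)] 13
    (fun c => !(admB 90745943887872000 13 c) || allDiv [(3, 10), (7, 2), (31, 1)] 13
      (fun n => !(Nat.beq (c % n) 0) || Nat.blt (n * n) 90745943887872000)) = true := by decide +kernel

theorem small : NSm.Small Spor.Th := by
  have := finite
  have hsimp : IsSimpleGroup Spor.Th := Cfsg.Agent.Th.Main1700.isTh.1
  intro N hN
  rw [card]
  by_cases h2 : 2 ∣ Nat.card ↥N
  · obtain ⟨x, hx, -, hle⟩ := exists_le_centralizer hN Nat.prime_two h2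
    have h1 := Nat.le_of_dvd Nat.card_pos (card_dvd_of_le hle)
    rw [card_inv hx] at h1
    exact (Nat.pow_le_pow_left h1 2).trans_lt (by norm_num)
  have hd := card_subgroup_dvd_card N
  rw [card, show (90745943887872000 : ℕ) = 2 ^ 15 * (5 ^ 3 * (3 ^ 10 * 7 ^ 2 * 13 * 19 * 31)) by norm_num] at hd
  have hd := dvd_drop Nat.prime_two h2 hd
  by_cases h5 : 5 ∣ Nat.card ↥N
  · obtain ⟨x, hx, -, hle⟩ := exists_le_centralizer hN Nat.prime_five h5
    have h1 := card_dvd_of_le hle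
    have h13 : ¬ 13 ∣ Nat.card ↥N := fun h =>
      not_dvd_cent5 hx (by norm_num) (by norm_num) (by norm_num) (h.trans h1)
    have h19 : ¬ 19 ∣ Nat.card ↥N := fun h =>
      not_dvd_cent5 hx (by norm_num) (by norm_num) (by norm_num) (h.trans h1)
    have h31 : ¬ 31 ∣ Nat.card ↥N := fun h =>
      not_dvd_cent5 hx (by norm_num) (by norm_num) (by norm_num) (h.trans h1)
    have hd : Nat.card ↥N ∣ 13 ^ 1 * (19 ^ 1 * (31 ^ 1 * (5 ^ 3 * (3 ^ 10 * 7 ^ 2)))) := by
      refine hd.trans (dvd_of_eq ?_)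
      norm_num
    have hd := dvd_drop (by norm_num) h31 (dvd_drop (by norm_num) h19 (dvd_drop (by norm_num) h13 hd))
    have h9 : ¬ 3 ^ 2 ∣ Nat.card ↥N := by
      intro h
      obtain ⟨s, hs, hsx⟩ := involution x hx
      exact ThFive.not_nine hx hs hsx.symm (h.trans h1)
    obtain ⟨c, b, hc, hb, hcb⟩ := (Nat.dvd_mul).1 (hd.trans (dvd_of_eq
      (show 5 ^ 3 * (3 ^ 10 * 7 ^ 2) = 3 ^ 10 * (5 ^ 3 * 7 ^ 2) by norm_num)))
    obtain ⟨i, hi, rfl⟩ := (Nat.dvd_prime_pow Nat.prime_three).1 hc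
    have hi1 : i ≤ 1 := by
      by_contra hlt
      exact h9 ((pow_dvd_pow 3 (by omega)).trans (hcb ▸ dvd_mul_right _ _))
    have h3 : Nat.card ↥N ≤ 3 ^ 1 * (5 ^ 3 * 7 ^ 2) := by
      rw [← hcb]
      exact Nat.mul_le_mul (Nat.pow_le_pow_right (by norm_num) hi1) (Nat.le_of_dvd (by norm_num) hb)
    exact (Nat.pow_le_pow_left h3 2).trans_lt (by norm_num)
  have hd := dvd_drop Nat.prime_five h5 hd
  by_contra hcon
  push Not at hcon
  by_cases h19 : 19 ∣ Nat.card ↥N
  · have hp : Nat.Prime 19 := by norm_num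
    obtain ⟨x, hx, -, hle⟩ := exists_le_centralizer hN hp h19
    have h1 := cent_dvd hp hx (by norm_num) (by norm_num)
    obtain ⟨m, hm, hmd, hadm⟩ := adm_cent hp hx card (by norm_num) (by norm_num) [(3, 10), (7, 2), (13, 1), (31, 1)]
      (h1.trans (dvd_of_eq (by norm_num [prodL])))
    have h3 := allDiv_spec (by norm_num) chk19 hmd
    rw [hadm, Bool.not_true, Bool.false_or] at h3
    have h4 : 19 * m * (19 * m) < 90745943887872000 := Eq.mp Nat.blt_eq h3
    have h5 := Nat.le_of_dvd Nat.card_pos (card_dvd_of_le hle)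
    rw [hm] at h5
    have h6 := Nat.mul_le_mul h5 h5
    rw [pow_two] at hcon
    omega
  by_cases h13 : 13 ∣ Nat.card ↥N
  · have hp : Nat.Prime 13 := by norm_num
    obtain ⟨x, hx, -, hle⟩ := exists_le_centralizer hN hp h13
    have h1 := cent_dvd hp hx (by norm_num) (by norm_num)
    obtain ⟨m, hm, hmd, hadm⟩ := adm_cent hp hx card (by norm_num) (by norm_num) [(3, 10), (7, 2), (19, 1), (31, 1)]
      (h1.trans (dvd_of_eq (by norm_num [prodL])))
    have h3 := allDiv_spec (by norm_num) chk13 hmd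
    rw [hadm, Bool.not_true, Bool.false_or] at h3
    obtain ⟨n, hn⟩ := h13
    have hnd : n ∣ prodL [(3, 10), (7, 2), (31, 1)] := by
      have h4 : Nat.card ↥N ∣ 19 ^ 1 * (13 * prodL [(3, 10), (7, 2), (31, 1)]) :=
        hd.trans (dvd_of_eq (by norm_num [prodL]))
      have h5 := dvd_drop (by norm_num) h19 h4
      rw [hn] at h5
      exact Nat.dvd_of_mul_dvd_mul_left (by norm_num) h5
    have h4 := allDiv_spec (by norm_num) h3 hnd
    have h5 := card_dvd_of_le hle
    rw [hm, hn] at h5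
    have h6 : Nat.beq (13 * m % (13 * n)) 0 = true := by rw [Nat.mod_eq_zero_of_dvd h5]; rfl
    rw [h6, Bool.not_true, Bool.false_or] at h4
    have h7 : 13 * n * (13 * n) < 90745943887872000 := Eq.mp Nat.blt_eq h4
    rw [pow_two, hn] at hcon
    omega
  have hd : Nat.card ↥N ∣ 19 ^ 1 * (13 ^ 1 * (3 ^ 10 * 7 ^ 2 * 31)) := hd.trans (dvd_of_eq (by norm_num))
  have h8 := Nat.le_of_dvd (by norm_num) (dvd_drop (by norm_num) h13 (dvd_drop (by norm_num) h19 hd))
  have h9 := Nat.pow_le_pow_left h8 2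
  have h10 : (3 ^ 10 * 7 ^ 2 * 31) ^ 2 < 90745943887872000 := by norm_num
  omega

end Th

/-- **row Th of S2242** -/
theorem small_Th {G : Type u} [Group G] [Finite G] (h : Cfsg.Spor.IsoTh G)
    (_hI : ∀ (H : Type u) [Group H] [Finite H], IsSimpleGroup H → ¬ IsMulCommutative H → Nat.card H < Nat.card G →
      NSm.Small H) : NSm.Small G := by
  obtain ⟨e⟩ := h
  exact small.congr e.symm

end Cfsg.Agent.H513.NilpTh
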