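import Cfsg.Agent.H513.NilpTools

/-!
# Rows HN, Ly of S2242: the local structure at a central element of order `p` (helper513)

* `Cr.comm_N` : `N` is abelian if `p ^ 2 ∤ |H|`;
* `Cr.mem_of_big` : if `|H|_p = p ^ 6` and `C_H(s)` acts on the elementary abelian sections of `N / ⟨z⟩` with orbits of
  size at least `p ^ 4`, every `p`-subgroup of `H` of order at least `p ^ 4` contains `z`;
* `exists_conj_mem_of_big` : the version for the group containing `H = C(z)`;
* `small_comm` : nilpotent subgroups of odd order divisible by `q` where `|C(t) ∩ C(y)| = 2 q`.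
-/

set_option autoImplicit false
set_option linter.unusedSectionVars false

namespace Cfsg.Agent.H513.NilpTools

open Subgroup
open Cfsg.Agent.H972 Cfsg.Agent.H972.NSm

universe u

section Basic

variable {H : Type u} [Group H] [Finite H]

theorem card_sup_mul_card_inf (B K : Subgroup H) [hK : K.Normal] :
    Nat.card ↥(B ⊔ K) * Nat.card ↥(B ⊓ K) = Nat.card ↥B * Nat.card ↥K := by
  have h1 : Nat.card ↥B = Nat.card ↥(B ⊓ K) * K.relIndex B := by
    have h3 := Subgroup.card_mul_index (K.subgroupOf B)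
    have h4 : Nat.card ↥(K.subgroupOf B) = Nat.card ↥(B ⊓ K) := by
      rw [inf_comm, ← Subgroup.inf_subgroupOf_right]
      exact Nat.card_congr (Subgroup.subgroupOfEquivOfLe inf_le_right).toEquiv
    rw [h4] at h3
    exact h3.symm
  have h2 : Nat.card ↥(B ⊔ K) = Nat.card ↥K * K.relIndex (B ⊔ K) := by
    have h4 := Subgroup.card_mul_index (K.subgroupOf (B ⊔ K))
    have h5 : Nat.card ↥(K.subgroupOf (B ⊔ K)) = Nat.card ↥K :=
      Nat.card_congr (Subgroup.subgroupOfEquivOfLe le_sup_right).toEquiv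
    rw [h5] at h4
    exact h4.symm
  have h3 : K.relIndex (B ⊔ K) = K.relIndex B := relIndex_sup_right B K
  rw [h2, h3, h1]
  ring

theorem card_comap_mk (Z : Subgroup H) [Z.Normal] (A : Subgroup (H ⧸ Z)) :
    Nat.card ↥(A.comap (QuotientGroup.mk' Z)) = Nat.card ↥Z * Nat.card ↥A := by
  rw [← Nat.card_prod]
  exact Nat.card_congr (QuotientGroup.preimageMkEquivSubgroupProdSet Z (A : Set (H ⧸ Z)))

end Basic

namespace Cr

variable {H : Type u} [Group H] [Finite H] {s z : H} {p : ℕ} {N : Subgroup H} (h : Cr s z p N)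
include h

/-- a nontrivial element of `⟨z⟩` generates -/
theorem z_mem_of {B : Subgroup H} {c : H} (hc : c ∈ zpowers z) (hc1 : c ≠ 1) (hcB : c ∈ B) : z ∈ B := by
  have : Fact p.Prime := ⟨h.prime⟩
  have h1 : zpowers c = zpowers z := by
    refine eq_of_le_of_card_ge (zpowers_le.2 hc) ?_
    rw [h.cardZ, Nat.card_zpowers, orderOf_eq_prime (h.c_pow hc) hc1]
  have h2 : z ∈ zpowers c := by rw [h1]; exact mem_zpowers z
  exact (zpowers_le.2 hcB) h2

theorem comm_mod {a b : H} (ha : a ∈ N) (hb : b ∈ N) : (b * a)⁻¹ * (a * b) ∈ zpowers z := by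
  have hZ := h.normalZ
  have h1 := h.quot.2 (QuotientGroup.mk' (zpowers z) a) ⟨a, ha, rfl⟩ (QuotientGroup.mk' (zpowers z) b) ⟨b, hb, rfl⟩
  rw [← map_mul, ← map_mul] at h1
  exact QuotientGroup.eq.1 h1.symm

/-- **`N` abelian** -/
theorem comm_N (hsq : ¬ p * p ∣ Nat.card H) : ∀ a ∈ N, ∀ b ∈ N, a * b = b * a := by
  intro a ha b hb
  have hZ := h.normalZ
  set c := (b * a)⁻¹ * (a * b) with hc
  have hcZ : c ∈ zpowers z := h.comm_mod ha hb
  have hab : a * b = b * a * c := by rw [hc]; group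
  -- `a ^ n b = b a ^ n c ^ n`
  have hpow : ∀ n : ℕ, a ^ n * b = b * a ^ n * c ^ n := by
    intro n
    induction n with
    | zero => simp
    | succ n ih =>
      have h1 : c ^ n * a = a * c ^ n := ((show Commute a c from h.zc_comm hcZ a).pow_right n).eq.symm
      calc a ^ (n + 1) * b = a * (a ^ n * b) := by rw [pow_succ', mul_assoc]
        _ = a * b * a ^ n * c ^ n := by rw [ih]; simp only [mul_assoc]
        _ = b * a * (c * a ^ n) * c ^ n := by rw [hab]; simp only [mul_assoc]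
        _ = b * a * (a ^ n * c) * c ^ n := by rw [(h.zc_comm hcZ (a ^ n)).symm]
        _ = b * a ^ (n + 1) * c ^ (n + 1) := by rw [pow_succ' a, pow_succ' c]; simp only [mul_assoc]
  set n := Nat.card (H ⧸ zpowers z) with hn
  have hcard : Nat.card H = n * p := by
    rw [card_eq_card_quotient_mul_card_subgroup (zpowers z), h.cardZ]
  have hpn : ¬ p ∣ n := by
    rintro ⟨k, hk⟩
    apply hsq
    rw [hcard, hk]
    exact ⟨k, by ring⟩
  have h1 : a ^ n ∈ zpowers z := by
    have h2 : (QuotientGroup.mk' (zpowers z) a) ^ n = 1 := pow_card_eq_one'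
    rw [← map_pow] at h2
    exact (QuotientGroup.eq_one_iff _).1 h2
  have h2 := hpow n
  rw [← h.zc_comm h1 b] at h2
  have h3 : c ^ n = 1 := by
    have h4 : b * a ^ n * 1 = b * a ^ n * c ^ n := by rw [mul_one]; exact h2
    exact (mul_left_cancel h4).symm
  have h4 : c ^ Nat.gcd n p = 1 := pow_gcd_eq_one.2 ⟨h3, h.c_pow hcZ⟩
  have h5 : Nat.gcd n p = 1 := Nat.Coprime.symm ((Nat.Prime.coprime_iff_not_dvd h.prime).2 hpn)
  rw [h5, pow_one] at h4
  rw [hab, h4, mul_one]

/-- **large `p`-subgroups contain `z`** -/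
theorem mem_of_big [hZ : (zpowers z).Normal] (h7 : ¬ p ^ 7 ∣ Nat.card H)
    (hC : p ^ 2 ∣ Nat.card ↥(centralizer ({s} : Set H)))
    (irr : ∀ W : Subgroup (H ⧸ zpowers z), W.Normal → W ≤ N.map (QuotientGroup.mk' (zpowers z)) → (∀ w ∈ W, w ^ p = 1) →
      W ≠ ⊥ → p ^ 4 ∣ Nat.card ↥W)
    {c d : H} (hcN : c ∈ N) (hcp : c ^ p = 1) (hdN : d ∈ N) (hdp : d ^ p = 1) (hcd : c * d ≠ d * c) :
    p ^ 6 ∣ Nat.card H ∧ ∀ B : Subgroup H, IsPGroup p ↥B → p ^ 4 ∣ Nat.card ↥B → z ∈ B := by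
  classical
  have : Fact p.Prime := ⟨h.prime⟩
  have hp1 := h.prime.one_lt
  have hp0 : 0 < p := h.prime.pos
  obtain ⟨-, hcomm⟩ := h.quot
  set π := QuotientGroup.mk' (zpowers z) with hπ
  have hn := h.normal
  have hNb : (N.map π).Normal := hn.map _ (QuotientGroup.mk'_surjective _)
  set A := ThFive.tors (N.map π) hcomm p with hA
  have hAn : A.Normal := ThFive.tors_normal hNb
  have hAle : A ≤ N.map π := fun a ha => ha.1
  have hcA : π c ∈ A := ⟨⟨c, hcN, rfl⟩, by rw [← map_pow, hcp, map_one]⟩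
  have hdA : π d ∈ A := ⟨⟨d, hdN, rfl⟩, by rw [← map_pow, hdp, map_one]⟩
  have hc1 : π c ≠ 1 := by
    intro h1
    exact hcd (h.zc_comm ((QuotientGroup.eq_one_iff c).1 h1) d).symm
  have hA1 : A ≠ ⊥ := by
    intro h1
    rw [h1, mem_bot] at hcA
    exact hc1 hcA
  have hA4 : p ^ 4 ∣ Nat.card ↥A := irr A hAn hAle (fun w hw => hw.2) hA1
  have hPA : IsPGroup p ↥A := fun a => ⟨1, Subtype.ext (by rw [pow_one]; exact a.2.2)⟩
  -- `|H| = |N̄| |C|`
  have hcardN : Nat.card ↥N = p * Nat.card ↥(N.map π) := by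
    have h1 : (N.map π).comap π = N := by
      rw [comap_map_eq, QuotientGroup.ker_mk', sup_eq_left, zpowers_le]
      exact h.zN
    have h2 := card_comap_mk (zpowers z) (N.map π)
    rw [h.cardZ] at h2
    rw [← h2]
    exact congrArg (fun K : Subgroup H => Nat.card ↥K) h1.symm
  have hcardH : Nat.card H = Nat.card ↥(N.map π) * Nat.card ↥(centralizer ({s} : Set H)) := by
    have h1 := h.card_mul
    rw [hcardN] at h1
    have h2 : Nat.card H * p = Nat.card ↥(N.map π) * Nat.card ↥(centralizer ({s} : Set H)) * p := by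
      rw [h1]; ring
    exact Nat.eq_of_mul_eq_mul_right hp0 h2
  have hAH : Nat.card ↥A * p ^ 2 ∣ Nat.card H := by
    rw [hcardH]
    exact Nat.mul_dvd_mul (card_dvd_of_le hAle) hC
  have h6 : p ^ 6 ∣ Nat.card H := by
    rw [show (6 : ℕ) = 4 + 2 from rfl, pow_add]
    exact (Nat.mul_dvd_mul_right hA4 _).trans hAH
  have hAcard : Nat.card ↥A = p ^ 4 := by
    obtain ⟨k, hk⟩ := IsPGroup.iff_card.1 hPA
    rw [hk] at hA4 hAH ⊢
    have h1 : 4 ≤ k := (Nat.pow_dvd_pow_iff_le_right hp1).1 hA4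
    have h2 : k < 5 := by
      by_contra h3
      apply h7
      rw [← pow_add] at hAH
      exact (pow_dvd_pow p (by omega)).trans hAH
    rw [show k = 4 by omega]
  refine ⟨h6, fun B hB hB4 => ?_⟩
  by_contra hzB
  -- `Q`
  set Q := A.comap π with hQ
  have hQn : Q.Normal := hAn.comap π
  have hQcard : Nat.card ↥Q = p ^ 5 := by
    have h1 := card_comap_mk (zpowers z) A
    rw [h.cardZ, hAcard] at h1
    rw [hQ, hπ, h1]
    ring
  have hQp : IsPGroup p ↥Q := IsPGroup.of_card hQcard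
  have hZQ : zpowers z ≤ Q := by
    rw [zpowers_le]
    change π z ∈ A
    have h1 : π z = 1 := (QuotientGroup.eq_one_iff z).2 (mem_zpowers z)
    rw [h1]
    exact one_mem _
  have hcQ : c ∈ Q := hcA
  have hdQ : d ∈ Q := hdA
  -- commutators of elements of `Q`
  have hQc : ∀ a ∈ Q, ∀ b ∈ Q, (b * a)⁻¹ * (a * b) ∈ zpowers z := by
    intro a ha b hb
    have h1 : π a * π b = π b * π a := hcomm _ ha.1 _ hb.1
    rw [← map_mul, ← map_mul] at h1
    exact QuotientGroup.eq.1 h1.symm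
  -- `|B ⊓ Q| ≥ p ^ 3`
  set A0 := B ⊓ Q with hA0
  have hA0p : IsPGroup p ↥A0 := hB.to_le inf_le_left
  have hA03 : p ^ 3 ∣ Nat.card ↥A0 := by
    have h1 := card_sup_mul_card_inf B Q
    have h2 : IsPGroup p ↥(B ⊔ Q) := hB.to_sup_of_normal_right hQp
    obtain ⟨j, hj⟩ := IsPGroup.iff_card.1 h2
    obtain ⟨i, hi⟩ := IsPGroup.iff_card.1 hA0p
    obtain ⟨b, hb⟩ := IsPGroup.iff_card.1 hB
    rw [← hA0, hj, hi, hb, hQcard, ← pow_add, ← pow_add] at h1
    have h3 : j + i = b + 5 := Nat.pow_right_injective h.prime.two_le h1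
    rw [hb] at hB4
    have h4 : 4 ≤ b := (Nat.pow_dvd_pow_iff_le_right hp1).1 hB4
    have h5 : j ≤ 6 := by
      by_contra h6
      apply h7
      have h8 := card_subgroup_dvd_card (B ⊔ Q)
      rw [hj] at h8
      exact (pow_dvd_pow p (by omega)).trans h8
    rw [hi]
    exact pow_dvd_pow p (by omega)
  -- `A0` is abelian
  have hA0c : ∀ a ∈ A0, ∀ b ∈ A0, a * b = b * a := by
    intro a ha b hb
    have h1 := hQc a ha.2 b hb.2
    have h2 : (b * a)⁻¹ * (a * b) ∈ B := mul_mem (inv_mem (mul_mem hb.1 ha.1)) (mul_mem ha.1 hb.1)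
    by_contra hne
    apply hzB
    refine h.z_mem_of h1 ?_ h2
    intro h3
    apply hne
    have h4 := inv_mul_eq_one.1 h3
    exact h4.symm
  have hinf : A0 ⊓ zpowers z = ⊥ := by
    rw [eq_bot_iff]
    rintro x ⟨hx, hxz⟩
    rw [mem_bot]
    by_contra hx1
    exact hzB (h.z_mem_of hxz hx1 hx.1)
  set A1 := A0 ⊔ zpowers z with hA1'
  have hA1card : Nat.card ↥A1 = Nat.card ↥A0 * p := by
    have h1 := card_sup_mul_card_inf A0 (zpowers z)
    rw [hinf, Subgroup.card_bot, mul_one, h.cardZ] at h1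
    exact h1
  have hA1Q : A1 ≤ Q := sup_le inf_le_right hZQ
  have hA1c : ∀ a ∈ A1, ∀ b ∈ A1, a * b = b * a := by
    intro a ha b hb
    obtain ⟨a0, ha0, za, hza, rfl⟩ := mem_sup_of_normal_right.1 ha
    obtain ⟨b0, hb0, zb, hzb, rfl⟩ := mem_sup_of_normal_right.1 hb
    have h1 := hA0c a0 ha0 b0 hb0
    calc a0 * za * (b0 * zb) = a0 * (za * b0) * zb := by simp only [mul_assoc]
      _ = a0 * b0 * (za * zb) := by rw [← h.zc_comm hza b0]; simp only [mul_assoc]
      _ = b0 * a0 * (zb * za) := by rw [h1, h.zc_comm hzb za]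
      _ = b0 * (zb * a0) * za := by rw [← h.zc_comm hzb a0]; simp only [mul_assoc]
      _ = b0 * zb * (a0 * za) := by simp only [mul_assoc]
  obtain ⟨g, hgQ, hgA1⟩ : ∃ g ∈ Q, g ∉ A1 := by
    by_contra hcon
    push Not at hcon
    exact hcd (hA1c c (hcon c hcQ) d (hcon d hdQ))
  -- `⟨A1, g⟩ = Q`
  have hM : A1 ⊔ zpowers g = Q := by
    have hle : A1 ⊔ zpowers g ≤ Q := sup_le hA1Q (zpowers_le.2 hgQ)
    refine eq_of_le_of_card_ge hle ?_
    have hMp : IsPGroup p ↥(A1 ⊔ zpowers g) := hQp.to_le hle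
    obtain ⟨m, hm⟩ := IsPGroup.iff_card.1 hMp
    obtain ⟨k, hk⟩ := IsPGroup.iff_card.1 (hQp.to_le hA1Q)
    obtain ⟨i, hi⟩ := IsPGroup.iff_card.1 hA0p
    have h1 : 3 ≤ i := by
      rw [hi] at hA03
      exact (Nat.pow_dvd_pow_iff_le_right hp1).1 hA03
    have h2 : k = i + 1 := by
      rw [hA1card, hi, ← pow_succ] at hk
      exact (Nat.pow_right_injective h.prime.two_le hk).symm
    have h3 : k < m := by
      by_contra h4
      have h5 : Nat.card ↥(A1 ⊔ zpowers g) ≤ Nat.card ↥A1 := by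
        rw [hm, hk]
        exact Nat.pow_le_pow_right hp0 (by omega)
      have h6 := eq_of_le_of_card_ge (le_sup_left : A1 ≤ A1 ⊔ zpowers g) h5
      apply hgA1
      rw [h6]
      exact mem_sup_right (mem_zpowers g)
    rw [hm, hQcard]
    exact Nat.pow_le_pow_right hp0 (by omega)
  -- a nontrivial element of `A0` commuting with `g`
  obtain ⟨a, haA0, ha1, hag⟩ : ∃ a ∈ A0, a ≠ 1 ∧ a * g = g * a := by
    let f : ↥A0 → ↥(zpowers z) := fun a => ⟨((g : H) * a)⁻¹ * (a * g), hQc a a.2.2 g hgQ⟩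
    have hlt : Nat.card ↥(zpowers z) < Nat.card ↥A0 := by
      rw [h.cardZ]
      have h1 := Nat.le_of_dvd Nat.card_pos hA03
      have h2 : p < p ^ 3 := by
        calc p = p ^ 1 := (pow_one p).symm
          _ < p ^ 3 := Nat.pow_lt_pow_right hp1 (by norm_num)
      omega
    have hninj : ¬ Function.Injective f := fun hinj => by
      have := Nat.card_le_card_of_injective f hinj
      omega
    rw [Function.Injective] at hninj
    push Not at hninj
    obtain ⟨a, b, hab, hne⟩ := hninj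
    have h1 : ((g : H) * a)⁻¹ * (a * g) = (g * (b : H))⁻¹ * (b * g) := congrArg Subtype.val hab
    set c0 := ((g : H) * a)⁻¹ * (a * g) with hc0
    have hcz : c0 ∈ zpowers z := hQc a a.2.2 g hgQ
    have h2 : (a : H) * g = g * a * c0 := by rw [hc0]; group
    have h3 : (b : H) * g = g * b * c0 := by rw [h1]; group
    refine ⟨(b : H)⁻¹ * a, mul_mem (inv_mem b.2) a.2, ?_, ?_⟩
    · intro h4
      exact hne (Subtype.ext (inv_mul_eq_one.1 h4).symm)
    · rw [mul_assoc, h2]
      have h5 : (b : H)⁻¹ * g = g * c0⁻¹ * (b : H)⁻¹ := by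
        rw [inv_mul_eq_iff_eq_mul]
        have h6 : c0⁻¹ ∈ zpowers z := inv_mem hcz
        calc g = (b : H) * g * (b : H)⁻¹ * ((b : H) * g⁻¹ * (b : H)⁻¹ * g) := by group
          _ = g := by group
          _ = (g * (b : H) * c0) * c0⁻¹ * (b : H)⁻¹ := by group
          _ = (b : H) * g * c0⁻¹ * (b : H)⁻¹ := by rw [← h3]
          _ = (b : H) * (g * c0⁻¹ * (b : H)⁻¹) := by simp only [mul_assoc]
      calc (b : H)⁻¹ * (g * a * c0) = ((b : H)⁻¹ * g) * a * c0 := by simp only [mul_assoc]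
        _ = g * c0⁻¹ * (b : H)⁻¹ * a * c0 := by rw [h5]
        _ = g * (c0⁻¹ * ((b : H)⁻¹ * a)) * c0 := by simp only [mul_assoc]
        _ = g * ((b : H)⁻¹ * a * c0⁻¹) * c0 := by rw [← h.zc_comm (inv_mem hcz) ((b : H)⁻¹ * a)]
        _ = g * ((b : H)⁻¹ * a) := by group
  -- it is central in `Q`
  have haQ : ∀ x ∈ Q, a * x = x * a := by
    have h1 : Q ≤ centralizer ({a} : Set H) := by
      rw [← hM, sup_le_iff, zpowers_le]
      refine ⟨fun x hx => mem_centralizer_singleton_iff.2 ?_, mem_centralizer_singleton_iff.2 hag.symm⟩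
      exact hA1c x hx a (le_sup_left (a := A0) haA0)
    intro x hx
    exact (mem_centralizer_singleton_iff.1 (h1 hx)).symm
  -- the centre of `Q`
  let ZQ : Subgroup H := Q ⊓ centralizer (Q : Set H)
  have hZQn : ZQ.Normal := by
    refine ⟨fun x hx g => ⟨hQn.conj_mem x hx.1 g, ?_⟩⟩
    change g * x * g⁻¹ ∈ centralizer (Q : Set H)
    rw [mem_centralizer_iff]
    intro y hy
    have h1 : g⁻¹ * y * g ∈ Q := by
      have := hQn.conj_mem y hy g⁻¹
      rwa [inv_inv] at this
    have h2 := (mem_centralizer_iff.1 hx.2) _ h1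
    calc y * (g * x * g⁻¹) = g * (g⁻¹ * y * g * x) * g⁻¹ := by group
      _ = g * (x * (g⁻¹ * y * g)) * g⁻¹ := by rw [h2]
      _ = g * x * g⁻¹ * y := by group
  have haZQ : a ∈ ZQ := ⟨haA0.2, mem_centralizer_iff.2 fun y hy => (haQ y hy).symm⟩
  have hWA : ZQ.map π ≤ A := by
    rintro _ ⟨x, hx, rfl⟩
    exact hx.1
  by_cases hW : ZQ.map π = ⊥
  · have h1 : π a ∈ ZQ.map π := ⟨a, haZQ, rfl⟩
    rw [hW, mem_bot] at h1
    exact hzB (h.z_mem_of ((QuotientGroup.eq_one_iff a).1 h1) ha1 haA0.1)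
  · have h1 := irr (ZQ.map π) (hZQn.map _ (QuotientGroup.mk'_surjective _)) (hWA.trans hAle)
      (fun w hw => (hWA hw).2) hW
    have h2 : ZQ.map π = A := by
      refine eq_of_le_of_card_ge hWA ?_
      rw [hAcard]
      exact Nat.le_of_dvd Nat.card_pos h1
    have h3 : π c ∈ ZQ.map π := by rw [h2]; exact hcA
    obtain ⟨x, hx, hxc⟩ := h3
    have h4 : x⁻¹ * c ∈ zpowers z := QuotientGroup.eq.1 hxc
    apply hcd
    have h5 : c = x * (x⁻¹ * c) := by group
    have h6 := (mem_centralizer_iff.1 hx.2) d hdQ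
    rw [h5]
    calc x * (x⁻¹ * c) * d = x * ((x⁻¹ * c) * d) := by rw [mul_assoc]
      _ = x * (d * (x⁻¹ * c)) := by rw [← h.zc_comm h4 d]
      _ = (x * d) * (x⁻¹ * c) := by rw [mul_assoc]
      _ = (d * x) * (x⁻¹ * c) := by rw [h6]
      _ = d * (x * (x⁻¹ * c)) := by rw [mul_assoc]

end Cr

section Up

variable {G : Type u} [Group G] [Finite G]

/-- `p`-subgroups of a group with a Sylow subgroup in `H` -/
theorem exists_conj_mem_of_big {p : ℕ} (hp : p.Prime) {H : Subgroup G} {z : G} (h6 : p ^ 6 ∣ Nat.card ↥H)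
    (h7 : ¬ p ^ 7 ∣ Nat.card G)
    (hbig : ∀ B : Subgroup G, B ≤ H → IsPGroup p ↥B → p ^ 4 ∣ Nat.card ↥B → z ∈ B) {B : Subgroup G} (hB : IsPGroup p ↥B)
    (hB4 : p ^ 4 ∣ Nat.card ↥B) : ∃ g : G, g * z * g⁻¹ ∈ B := by
  have : Fact p.Prime := ⟨hp⟩
  obtain ⟨P⟩ : Nonempty (Sylow p ↥H) := inferInstance
  have h1 : p ^ 6 ∣ Nat.card ↥(P : Subgroup ↥H) := by
    rw [P.card_eq_multiplicity]
    exact pow_dvd_pow p ((hp.pow_dvd_iff_le_factorization Nat.card_pos.ne').1 h6)
  have h2 : p ^ 6 ∣ Nat.card ↥((P : Subgroup ↥H).map H.subtype) := by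
    rw [card_map_of_injective H.subtype_injective]
    exact h1
  have h3 : IsPGroup p ↥((P : Subgroup ↥H).map H.subtype) := P.isPGroup'.map _
  obtain ⟨S, hS⟩ := h3.exists_le_sylow
  have h4 : (S : Subgroup G) ≤ H := by
    have h5 : (P : Subgroup ↥H).map H.subtype = S := by
      refine eq_of_le_of_card_ge hS ?_
      have h6' := Nat.le_of_dvd Nat.card_pos h2
      obtain ⟨k, hk⟩ := IsPGroup.iff_card.1 S.isPGroup'
      refine le_trans ?_ h6'
      rw [hk]
      refine Nat.pow_le_pow_right hp.pos ?_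
      by_contra hlt
      apply h7
      have h8 := card_subgroup_dvd_card (S : Subgroup G)
      rw [hk] at h8
      exact (pow_dvd_pow p (by omega)).trans h8
    rw [← h5]
    exact map_subtype_le _
  obtain ⟨S', hS'⟩ := hB.exists_le_sylow
  obtain ⟨g, hg⟩ := MulAction.exists_smul_eq G S' S
  have h5 : B.map (MulAut.conj g).toMonoidHom ≤ H := by
    rintro _ ⟨b, hb, rfl⟩
    apply h4
    rw [← hg]
    exact ⟨b, hS' hb, rfl⟩
  have h8 := hbig (B.map (MulAut.conj g).toMonoidHom) h5 (hB.map _) (by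
    rw [card_map_of_injective (MulAut.conj g).injective]
    exact hB4)
  obtain ⟨b, hb, hbz⟩ := h8
  refine ⟨g⁻¹, ?_⟩
  have h9 : g * b * g⁻¹ = z := hbz
  rw [← h9]
  have e : g⁻¹ * (g * b * g⁻¹) * g⁻¹⁻¹ = b := by group
  rw [e]
  exact hb

/-- a prime not dividing `|C(z)|` -/
theorem not_dvd_cent {p r : ℕ} [hp : Fact p.Prime] {z x : G}
    (hbig : ∀ B : Subgroup G, IsPGroup p ↥B → p ^ 4 ∣ Nat.card ↥B → ∃ g : G, g * z * g⁻¹ ∈ B)
    (hx : orderOf x = r) (hr : ¬ r ∣ Nat.card ↥(centralizer ({z} : Set G))) :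
    ¬ p ^ 4 ∣ Nat.card ↥(centralizer ({x} : Set G)) := by
  intro hd
  obtain ⟨P⟩ : Nonempty (Sylow p ↥(centralizer ({x} : Set G))) := inferInstance
  have h1 : p ^ 4 ∣ Nat.card ↥(P : Subgroup ↥(centralizer ({x} : Set G))) := by
    rw [P.card_eq_multiplicity]
    exact pow_dvd_pow p ((hp.out.pow_dvd_iff_le_factorization Nat.card_pos.ne').1 hd)
  obtain ⟨g, hg⟩ := hbig ((P : Subgroup ↥(centralizer ({x} : Set G))).map (centralizer ({x} : Set G)).subtype)
    (P.isPGroup'.map _) (by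
      rw [card_map_of_injective (centralizer ({x} : Set G)).subtype_injective]
      exact h1)
  have h2 : g * z * g⁻¹ ∈ centralizer ({x} : Set G) := map_subtype_le _ hg
  have h3 : g * z * g⁻¹ * x = x * (g * z * g⁻¹) := mem_centralizer_singleton_iff.1 h2
  have h4 : (g⁻¹ * x * g) * z = z * (g⁻¹ * x * g) := by
    calc (g⁻¹ * x * g) * z = g⁻¹ * (x * (g * z * g⁻¹)) * g := by group
      _ = g⁻¹ * (g * z * g⁻¹ * x) * g := by rw [h3]
      _ = _ := by group
  have h5 := orderOf_dvd_natCard (⟨g⁻¹ * x * g, mem_centralizer_singleton_iff.2 h4⟩ : ↥(centralizer ({z} : Set G)))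
  rw [Subgroup.orderOf_mk] at h5
  have h6 : orderOf (g⁻¹ * x * g) = r := by
    rw [← hx]
    have := MulEquiv.orderOf_eq (MulAut.conj g⁻¹) x
    rwa [MulAut.conj_apply, inv_inv] at this
  rw [h6] at h5
  exact hr h5

theorem mem_zpowers_two {C : Type*} [Group C] {u x : C} (hu : orderOf u = 2) (hx : x ∈ zpowers u) : x = 1 ∨ x = u := by
  have hu2 : u * u = 1 := by rw [← pow_two, ← hu, pow_orderOf_eq_one]
  obtain ⟨k, rfl⟩ := mem_zpowers_iff.1 hx
  rcases Int.even_or_odd' k with ⟨m, rfl | rfl⟩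
  · left
    rw [zpow_mul, zpow_two, hu2, one_zpow]
  · right
    rw [zpow_add, zpow_mul, zpow_two, hu2, one_zpow, one_mul, zpow_one]

/-- two commuting involutions, one central -/
theorem four_dvd_of {C : Type u} [Group C] [Finite C] {u t : C} (hu : orderOf u = 2) (ht : orderOf t = 2)
    (hc : ∀ g : C, g * t = t * g) (hne : u ≠ t) : 4 ∣ Nat.card C := by
  have hn : (zpowers t).Normal := by
    refine ⟨fun x hx g => ?_⟩
    obtain ⟨k, rfl⟩ := mem_zpowers_iff.1 hx
    rw [((show Commute g t from hc g).zpow_right k).eq, mul_inv_cancel_right]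
    exact hx
  have h1 := card_sup_mul_card_inf (zpowers u) (zpowers t)
  have h2 : zpowers u ⊓ zpowers t = ⊥ := by
    rw [eq_bot_iff]
    rintro x ⟨hx1, hx2⟩
    rw [mem_bot]
    rcases mem_zpowers_two hu hx1 with h | h
    · exact h
    · rcases mem_zpowers_two ht hx2 with h' | h'
      · exact h'
      · exact absurd (h.symm.trans h') hne
  rw [h2, Subgroup.card_bot, mul_one, Nat.card_zpowers, Nat.card_zpowers, hu, ht] at h1
  have h3 := card_subgroup_dvd_card (zpowers u ⊔ zpowers t)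
  rw [h1] at h3
  exact h3

/-- nilpotent subgroups of odd order of `C(y)`, `|C(t) ∩ C(y)| = 2 q` -/
theorem comm_of_cent {q : ℕ} (hq : q.Prime) (hq2 : q ≠ 2) (hsq : ¬ q * q ∣ Nat.card G) {y t : G} (hy : orderOf y = q)
    (ht : orderOf t = 2) (hty : t * y = y * t)
    (hc : Nat.card ↥(centralizer ({y} : Set G) ⊓ centralizer ({t} : Set G) : Subgroup G) ∣ 2 * q)
    {M : Subgroup G} (hM : M ≤ centralizer ({y} : Set G)) (hodd : ¬ 2 ∣ Nat.card ↥M) : ∀ a ∈ M, ∀ b ∈ M, a * b = b * a := by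
  have hqo : Odd q := hq.odd_of_ne_two hq2
  have htC : t ∈ centralizer ({y} : Set G) := mem_centralizer_singleton_iff.2 hty
  have hyC : y ∈ centralizer ({y} : Set G) := mem_centralizer_singleton_iff.2 rfl
  let t' : ↥(centralizer ({y} : Set G)) := ⟨t, htC⟩
  let y' : ↥(centralizer ({y} : Set G)) := ⟨y, hyC⟩
  have hC : Nat.card ↥(centralizer ({t'} : Set ↥(centralizer ({y} : Set G)))) ∣ 2 * q := by
    have h1 : (centralizer ({t'} : Set ↥(centralizer ({y} : Set G)))).map (centralizer ({y} : Set G)).subtype ≤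
        centralizer ({y} : Set G) ⊓ centralizer ({t} : Set G) := by
      rintro _ ⟨x, hx, rfl⟩
      exact ⟨x.2, mem_centralizer_singleton_iff.2 (congrArg Subtype.val (mem_centralizer_singleton_iff.1 hx))⟩
    have h2 := card_dvd_of_le h1
    rw [card_map_of_injective (centralizer ({y} : Set G)).subtype_injective] at h2
    exact h2.trans hc
  have hoy : orderOf y' = q := by
    rw [← hy]
    exact Subgroup.orderOf_mk _ _
  have hot : orderOf t' = 2 := by
    rw [← ht]
    exact Subgroup.orderOf_mk _ _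
  have hsit : ThFive.Sit t' y' q := {
    prime := hq
    ne_two := hq2
    os := hot
    uniq := by
      intro u hu hut
      by_contra hne
      have hu' : u ∈ centralizer ({t'} : Set ↥(centralizer ({y} : Set G))) := mem_centralizer_singleton_iff.2 hut
      have ht' : t' ∈ centralizer ({t'} : Set ↥(centralizer ({y} : Set G))) := mem_centralizer_singleton_iff.2 rfl
      have h4 := four_dvd_of (C := ↥(centralizer ({t'} : Set ↥(centralizer ({y} : Set G))))) (u := ⟨u, hu'⟩)
        (t := ⟨t', ht'⟩) (by rw [Subgroup.orderOf_mk, hu]) (by rw [Subgroup.orderOf_mk, hot])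
        (fun g => Subtype.ext (mem_centralizer_singleton_iff.1 g.2)) (fun h => hne (congrArg Subtype.val h))
      have h5 := h4.trans hC
      rw [show (4 : ℕ) = 2 * 2 from rfl] at h5
      exact (Nat.not_even_iff_odd.2 hqo) (even_iff_two_dvd.2 (Nat.dvd_of_mul_dvd_mul_left (by norm_num) h5))
    cen := by
      rw [mem_center_iff]
      intro g
      exact Subtype.ext (mem_centralizer_singleton_iff.1 g.2)
    oz := hoy
    odd := by
      intro K _ hK
      have h1 : Nat.card ↥K ∣ 2 * q := (card_subgroup_dvd_card K).trans hC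
      exact (Nat.coprime_two_right.2 hK).dvd_of_dvd_mul_left h1 }
  obtain ⟨N, hN⟩ := hsit.core
  have hcr := Cr.of_core hN
  have hcomm := hcr.comm_N (fun hd => hsq (hd.trans (card_subgroup_dvd_card _)))
  -- `N` contains the elements of odd order
  have hmem : ∀ a (ha : a ∈ M), (⟨a, hM ha⟩ : ↥(centralizer ({y} : Set G))) ∈ N := by
    intro a ha
    have hn := hcr.normal
    have hord : (⟨a, hM ha⟩ : ↥(centralizer ({y} : Set G))) ^ (Nat.card ↥M) = 1 := by
      apply Subtype.ext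
      have h1 : (⟨a, ha⟩ : ↥M) ^ Nat.card ↥M = 1 := pow_card_eq_one'
      have h2 : a ^ Nat.card ↥M = 1 := congrArg Subtype.val h1
      exact h2
    have hMo : Odd (Nat.card ↥M) := by
      rw [← Nat.not_even_iff_odd, even_iff_two_dvd]
      exact hodd
    refine ThFive.odd_pow_mem hMo ?_ hord
    have h2 : N.index = 2 := by
      have h3 := hcr.card_mul
      have h4 := Subgroup.card_mul_index N
      obtain ⟨k, hk⟩ := hC
      have h5 : N.index ∣ 2 * q := by
        rw [hcr.index_N]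
        exact (relIndex_dvd_card _ _).trans ⟨k, hk⟩
      have h6 : ¬ q ∣ N.index := by
        rintro ⟨l, hl⟩
        obtain ⟨m, hm⟩ := hcr.p_dvd_N
        apply hsq
        refine Dvd.dvd.trans ?_ (card_subgroup_dvd_card (centralizer ({y} : Set G)))
        rw [← h4, hl, hm]
        exact ⟨m * l, by ring⟩
      have h7 : N.index ∣ 2 := (Nat.Coprime.symm ((Nat.Prime.coprime_iff_not_dvd hq).2 h6)).dvd_of_dvd_mul_right h5
      rcases (Nat.dvd_prime Nat.prime_two).1 h7 with h8 | h8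
      · exfalso
        have h9 : N = ⊤ := index_eq_one.1 h8
        have h10 := hcr.oddN
        rw [h9, Subgroup.card_top] at h10
        have h11 := orderOf_dvd_natCard t'
        rw [hot] at h11
        exact (Nat.not_even_iff_odd.2 h10) (even_iff_two_dvd.2 h11)
      · exact h8
    exact Subgroup.sq_mem_of_index_two h2 _
  intro a ha b hb
  exact congrArg Subtype.val (hcomm _ (hmem a ha) _ (hmem b hb))

/-- **nilpotent subgroups of odd order divisible by `q`** -/
theorem small_comm [IsSimpleGroup G] (hG : ¬ IsMulCommutative G) {q : ℕ} (hq : q.Prime) (hq2 : q ≠ 2)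
    (hsq : ¬ q * q ∣ Nat.card G)
    (hc : ∀ y : G, orderOf y = q → ∃ t : G, orderOf t = 2 ∧ t * y = y * t ∧
      Nat.card ↥(centralizer ({y} : Set G) ⊓ centralizer ({t} : Set G) : Subgroup G) ∣ 2 * q)
    {M : Subgroup G} (hM : Group.IsNilpotent ↥M) (hodd : ¬ 2 ∣ Nat.card ↥M) (hd : q ∣ Nat.card ↥M) :
    Nat.card ↥M ^ 2 < Nat.card G := by
  obtain ⟨y, hy, -, hle⟩ := exists_le_centralizer hM hq hd
  obtain ⟨t, ht, hty, h⟩ := hc y hy
  have h1 := comm_of_cent hq hq2 hsq hy ht hty h hle hodd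
  exact H956.CDelgado.card_sq_lt_of_comm hG M h1

end Up

end Cfsg.Agent.H513.NilpTools
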