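import Cfsg.Agent.H513.AbCr
import Cfsg.Agent.H513.NilpExt
import Cfsg.Agent.J2Type.FourSelfCent

/-!
# Elements of odd prime order `p` commuting with involutions with `|C(y) ∩ C(t)| = 4 p` (helper513)
-/

set_option autoImplicit false
set_option linter.unusedSectionVars false

namespace Cfsg.Agent.H513.FourCent

open Subgroup Cfsg.Agent.H513.NilpTools Cfsg.Agent.H513.CentTools Cfsg.Agent.H513.AbCr

universe u

variable {G : Type u} [Group G] [Finite G]

/-- the quotient by a central subgroup of odd order -/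
theorem comm_of_quot {C : Type u} [Group C] {z : C} {p : ℕ} (hp : Odd p) (hz : z ∈ center C) (hoz : z ^ p = 1)
    [hZ : (zpowers z).Normal] {g v : C} (hv : v * v = 1)
    (h : QuotientGroup.mk' (zpowers z) g * QuotientGroup.mk' (zpowers z) v =
      QuotientGroup.mk' (zpowers z) v * QuotientGroup.mk' (zpowers z) g) : g * v = v * g := by
  rw [← map_mul, ← map_mul] at h
  have h1 : (v * g)⁻¹ * (g * v) ∈ zpowers z := QuotientGroup.eq.1 h.symm
  set c := (v * g)⁻¹ * (g * v) with hc
  obtain ⟨k, hk⟩ := mem_zpowers_iff.1 h1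
  have hcc : ∀ x : C, c * x = x * c := by
    intro x
    rw [← hk]
    exact ((show Commute z x from (mem_center_iff.1 hz x).symm).zpow_left k).eq
  have hcp : c ^ p = 1 := by
    rw [← hk, ← zpow_natCast, ← zpow_mul, mul_comm, zpow_mul, zpow_natCast, hoz, one_zpow]
  have h2 : g * v = v * g * c := by rw [hc]; group
  have h3 : c * c = 1 := by
    have h4 : g = g * (c * c) := by
      calc g = g * (v * v) := by rw [hv, mul_one]
        _ = (g * v) * v := by group
        _ = v * g * c * v := by rw [h2]
        _ = v * (g * v) * c := by rw [mul_assoc, hcc v]; group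
        _ = v * (v * g * c) * c := by rw [h2]
        _ = (v * v) * g * (c * c) := by group
        _ = g * (c * c) := by rw [hv, one_mul]
    exact (mul_eq_left.1 h4.symm)
  obtain ⟨j, hj⟩ := hp
  rw [hj, pow_succ, pow_mul, pow_two, h3, one_pow, one_mul] at hcp
  rw [h2, hcp, mul_one]

/-- **the order of `C(y)`** -/
theorem card_cent {y : G} {p : ℕ} (hp : p.Prime) (hp2 : p ≠ 2) (hy : orderOf y = p)
    (h : ∀ t : G, orderOf t = 2 → t * y = y * t →
      Nat.card ↥(centralizer ({y} : Set G) ⊓ centralizer ({t} : Set G) : Subgroup G) = 4 * p ∧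
      ∀ a b : G, a * y = y * a → a * t = t * a → b * y = y * b → b * t = t * b → a * b = b * a ∧ a ^ (2 * p) = 1)
    {t : G} (ht : orderOf t = 2) (hty : t * y = y * t) :
    Nat.card ↥(centralizer ({y} : Set G)) = 4 * p ∨ Nat.card ↥(centralizer ({y} : Set G)) = 12 * p ∨
      Nat.card ↥(centralizer ({y} : Set G)) = 60 * p := by
  have hpo : Odd p := hp.odd_of_ne_two hp2
  set C := ↥(centralizer ({y} : Set G)) with hC
  let z : C := yH y
  have hzc : z ∈ center C := mem_center_iff.2 fun g => Subtype.ext (mem_centralizer_singleton_iff.1 g.2)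
  have hoz : orderOf z = p := by
    rw [← Subgroup.orderOf_coe]
    exact hy
  have hzp : z ^ p = 1 := by rw [← hoz, pow_orderOf_eq_one]
  have hZ : (zpowers z).Normal := by
    refine ⟨fun x hx g => ?_⟩
    rw [mem_center_iff.1 ((zpowers_le.2 hzc) hx) g, mul_inv_cancel_right]
    exact hx
  have hcardZ : Nat.card ↥(zpowers z) = p := by rw [Nat.card_zpowers, hoz]
  set π := QuotientGroup.mk' (zpowers z) with hπ
  -- the centralizers of the involutions
  have hD : ∀ v : C, orderOf v = 2 → Nat.card ↥(centralizer ({v} : Set C)) = 4 * p ∧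
      ∀ a b : C, a * v = v * a → b * v = v * b → a * b = b * a ∧ a ^ (2 * p) = 1 := by
    intro v hv
    have hv' : orderOf (v : G) = 2 := by rw [Subgroup.orderOf_coe]; exact hv
    have hvy : (v : G) * y = y * v := mem_centralizer_singleton_iff.1 v.2
    obtain ⟨h1, h2⟩ := h (v : G) hv' hvy
    constructor
    · rw [← h1]
      exact card_cent_tH hvy
    · intro a b ha hb
      obtain ⟨h3, h4⟩ := h2 (a : G) (b : G) (mem_centralizer_singleton_iff.1 a.2) (congrArg Subtype.val ha)
        (mem_centralizer_singleton_iff.1 b.2) (congrArg Subtype.val hb)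
      exact ⟨Subtype.ext h3, Subtype.ext h4⟩
  let t0 : C := tH hty
  have ht0 : orderOf t0 = 2 := by rw [← Subgroup.orderOf_coe]; exact ht
  obtain ⟨hcard, hcomm⟩ := hD t0 ht0
  set D := centralizer ({t0} : Set C) with hDdef
  have hZD : zpowers z ≤ D := zpowers_le.2 (mem_centralizer_singleton_iff.2 (mem_center_iff.1 hzc t0).symm)
  set U := D.map π with hU
  have hcardU : Nat.card ↥U = 4 := by
    have h1 : U.comap π = D := by
      rw [hU, comap_map_eq, QuotientGroup.ker_mk', sup_eq_left]
      exact hZD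
    have h2 := card_comap_mk (zpowers z) U
    have h3 : Nat.card ↥(U.comap π) = Nat.card ↥D := congrArg (fun K : Subgroup C => Nat.card ↥K) h1
    rw [← hπ, h3, hcard, hcardZ, mul_comm] at h2
    exact (Nat.eq_of_mul_eq_mul_left hp.pos h2).symm
  have hsq : ∀ u ∈ U, u * u = 1 := by
    rintro _ ⟨d, hd, rfl⟩
    have hd' : d * t0 = t0 * d := mem_centralizer_singleton_iff.1 hd
    have h1 : (π d * π d) ^ p = 1 := by
      rw [← pow_two, ← pow_mul, ← map_pow, (hcomm d d hd' hd').2, map_one]
    have h2 : (π d) ^ 4 = 1 := by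
      have h3 := pow_card_eq_one' (x := (⟨π d, mem_map_of_mem π hd⟩ : ↥U))
      rw [hcardU] at h3
      exact congrArg Subtype.val h3
    have h3 : (π d * π d) ^ 2 = 1 := by rw [← pow_two, ← pow_mul]; exact h2
    have h4 := pow_gcd_eq_one.2 ⟨h1, h3⟩
    rwa [(Nat.coprime_two_right).2 hpo, pow_one] at h4
  have hyp : J2Type.FourSelfCent.Hyp U := by
    refine ⟨hcardU, hsq, ?_⟩
    rintro _ ⟨d, hd, rfl⟩ hu1 x hx
    have hd' : d * t0 = t0 * d := mem_centralizer_singleton_iff.1 hd
    set v := d ^ p with hv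
    have hvv : v * v = 1 := by
      rw [hv, ← pow_add, ← two_mul]
      exact (hcomm d d hd' hd').2
    have hπv : π v = π d := by
      obtain ⟨j, hj⟩ := hpo
      rw [hv, map_pow, hj, pow_succ, pow_mul, pow_two, hsq _ ⟨d, hd, rfl⟩, one_pow, one_mul]
    have hv1 : v ≠ 1 := by
      intro h1
      rw [h1, map_one] at hπv
      exact hu1 hπv.symm
    have hv2 : orderOf v = 2 := orderOf_eq_prime (by rw [pow_two]; exact hvv) hv1
    obtain ⟨g, rfl⟩ := QuotientGroup.mk'_surjective (zpowers z) x
    have h1 : g * v = v * g := by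
      refine comm_of_quot hpo hzc hzp hvv ?_
      change π g * π v = π v * π g
      rw [hπv]
      exact hx
    have h2 : t0 * v = v * t0 := ((show Commute t0 d from hd'.symm).pow_right p).eq
    have h3 := ((hD v hv2).2 g t0 h1 h2).1
    exact ⟨g, mem_centralizer_singleton_iff.2 h3, rfl⟩
  have hcK : Nat.card C = Nat.card (C ⧸ zpowers z) * p := by
    rw [card_eq_card_quotient_mul_card_subgroup (zpowers z), hcardZ]
  rcases hyp.card_cases with h1 | h1 | h1
  · left
    rw [hcK, h1]
  · right; left
    rw [hcK, h1]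
  · right; right
    rw [hcK, h1]

end Cfsg.Agent.H513.FourCent
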