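import Cfsg.Agent.H513.HNTau
import Cfsg.Agent.H513.FourCent
import Cfsg.Agent.H513.AbLy

/-!
# Elements of order 7 and 11 of `HN` (helper513)
-/

set_option autoImplicit false
set_option maxRecDepth 100000

namespace Cfsg.Agent.H513.HNSeven

open Subgroup
open Cfsg.Agent.HN.Pres Cfsg.Agent.HN.H0Basic
open Cfsg.Agent.HN.P1408 hiding ψ card_H0
open Cfsg.Agent.HN.XWords (W0 W0_sq)
open Cfsg.Agent.HN.NormalH (ψ)
open Cfsg Cfsg.Agent
open Cfsg.Agent.KFacts.HN
open Cfsg.Agent.CpAutHNFive.TFive
open Cfsg.Agent.H513.HNH0 Cfsg.Agent.H513.NilpHN Cfsg.Agent.H513.HNTau Cfsg.Agent.H513.CentTools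
open Cfsg.Agent.H513.NilpTools

theorem simple : IsSimpleGroup G := Cfsg.Agent.S1701.result.1

theorem order_ψ {y : H0} {n : ℕ} (h : orderOf y = n) : orderOf (ψ y) = n := by
  rw [orderOf_injective _ emb.inj, h]

theorem ψτ_comm (y : H0) : ψ τ * ψ y = ψ y * ψ τ := by rw [← map_mul, ← map_mul, τ_comm]

theorem order_ψτ : orderOf (ψ τ) = 2 := order_ψ CpAutHNFive.HFacts.order_τ

/-- **the centralizer of an element of order 7** -/
theorem cent_seven {y : G} (hy : orderOf y = 7) : Nat.card ↥(centralizer ({y} : Set G)) ∣ 420 := by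
  have hc : Nat.card ↥(centralizer ({y} : Set G)) = Nat.card ↥(centralizer ({ψ (hw w7)} : Set G)) :=
    card_cent_eq (by norm_num) hy (order_ψ order_w7) (by rw [card_G]; norm_num)
  rw [hc]
  have h := FourCent.card_cent (y := ψ (hw w7)) (p := 7) (by norm_num) (by norm_num) (order_ψ order_w7) ?_
    order_ψτ (ψτ_comm _)
  · rcases h with h | h | h
    · rw [h]; norm_num
    · rw [h]; norm_num
    · rw [h]
  · intro t ht hty
    obtain ⟨c, y', hc', hy'⟩ := conj_of_tau (conj_tau (order_ψ order_w7) (by norm_num) ht hty) hty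
    have ho : orderOf y' = 7 := by rw [order_of_conj hy', order_ψ order_w7]
    constructor
    · rw [card_inf hc' hy', card_seven' ho]
    · intro a b ha hat hb hbt
      obtain ⟨a', ha'⟩ := exists_of_comm hc' hat
      obtain ⟨b', hb'⟩ := exists_of_comm hc' hbt
      obtain ⟨h1, h2⟩ := comm_seven' ho (comm_of_conj hy' ha' ha) (comm_of_conj hy' hb' hb)
      constructor
      · have h3 : c * (a * b) * c⁻¹ = c * (b * a) * c⁻¹ := by
          calc c * (a * b) * c⁻¹ = c * a * c⁻¹ * (c * b * c⁻¹) := by group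
            _ = ψ (a' * b') := by rw [ha', hb', map_mul]
            _ = c * b * c⁻¹ * (c * a * c⁻¹) := by rw [h1, map_mul, ha', hb']
            _ = _ := by group
        exact mul_left_cancel (mul_right_cancel h3)
      · have h3 : c * a ^ (2 * 7) * c⁻¹ = 1 := by
          rw [← conj_pow, ha', ← map_pow, show 2 * 7 = 14 from rfl, h2, map_one]
        exact conj_eq_one_iff.1 h3

/-- `|C(y) ∩ C(t)| = 22`, `y` of order 11 -/
theorem inf_eleven {y t : G} (hy : orderOf y = 11) (ht : orderOf t = 2) (hty : t * y = y * t) :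
    Nat.card ↥(centralizer ({y} : Set G) ⊓ centralizer ({t} : Set G) : Subgroup G) = 22 := by
  obtain ⟨c, y', hc', hy'⟩ := conj_of_tau (conj_tau hy (by norm_num) ht hty) hty
  rw [card_inf hc' hy', card_eleven' (by rw [order_of_conj hy', hy])]

end Cfsg.Agent.H513.HNSeven
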