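import Cfsg.Agent.H513.NilpExtra
import Cfsg.Agent.H513.NilpArith
import Cfsg.Agent.SporRec.LyFiveFinal
import Cfsg.Agent.TypeM.FactsLy
import Cfsg.Agent.CpAut.LyFiveRow
import Cfsg.Agent.H687.EqD.ProdL

/-!
# Row Ly of S2242: orders of nilpotent subgroups (helper513)
-/

set_option autoImplicit false
set_option maxRecDepth 100000
set_option linter.unusedSectionVars false

namespace Cfsg.Agent.H513.NilpLy

open Subgroup Equiv Cfsg
open Cfsg.Agent.SporRec Cfsg.Agent.SporRec.TwoAn Cfsg.Agent.SporRec.LyType Cfsg.Agent.SporRec.LyFiveCore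
open Cfsg.Agent.H972 Cfsg.Agent.H972.NSm Cfsg.Agent.H513.NilpTools

universe u

section Gen

variable {G : Type u} [Group G] [Finite G] (L : LyType G)
include L

theorem order_t : orderOf L.t = 2 := orderOf_eq_prime (by rw [pow_two, L.t_mul_t]) L.t_ne

theorem card_inv {s : G} (hs : orderOf s = 2) : Nat.card ↥(centralizer ({s} : Set G)) = 39916800 := by
  have h1 : s * s = 1 := by rw [← pow_two, ← hs, pow_orderOf_eq_one]
  have h2 : s ≠ 1 := by
    intro h
    rw [h, orderOf_one] at hs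
    norm_num at hs
  obtain ⟨g, hg⟩ := L.one s h1 h2
  rw [← Nat.card_congr (conjCentEquiv g hg).toEquiv, LyFiveCov.card_eq L.K (by rw [Fintype.card_fin]; norm_num),
    Fintype.card_fin]
  rfl

/-- the element of order 5 -/
theorem exists_f (h7 : ¬ 5 ^ 7 ∣ Nat.card G) : ∃ f : G, Nat.card ↥(centralizer ({f} : Set G)) = 5 ^ 5 * 720 ∧
    ∀ B : Subgroup G, IsPGroup 5 ↥B → 5 ^ 4 ∣ Nat.card ↥B → ∃ g : G, g * f * g⁻¹ ∈ B := by
  obtain ⟨f, hf⟩ := LyFiveFinal.exists_five L
  obtain ⟨⟨hE⟩, -⟩ := LyFiveFinal.exists_lyFive hf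
  have hin := LyFiveSix.fiveIn hf hE.card
  refine ⟨f, hin.card_centralizer, fun B hB hd => ?_⟩
  refine exists_conj_mem_of_extra Nat.prime_five hin.f5 (E := core f) hE.card hin.mem hin.cent
    (fun g hg e he => hin.norm g ?_ e he) hE.commutator hE.center ?_ h7 hB hd
  · rw [hg, mul_inv_cancel_right]
    exact mem_zpowers f
  · rw [hin.card_centralizer]
    norm_num

/-- the elements of order 11 -/
theorem eleven (hsq : ¬ 11 * 11 ∣ Nat.card G) {y : G} (hy : orderOf y = 11) : ∃ t : G, orderOf t = 2 ∧ t * y = y * t ∧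
    Nat.card ↥(centralizer ({y} : Set G) ⊓ centralizer ({t} : Set G) : Subgroup G) ∣ 2 * 11 := by
  have hp : Nat.Prime 11 := by norm_num
  have hF : Fact (Nat.Prime 11) := ⟨hp⟩
  obtain ⟨g, hg⟩ := exists_conj_comm hp hsq (t := L.t) hy (by rw [card_inv L (order_t L)]; norm_num)
  obtain ⟨L', hL'⟩ : ∃ L' : LyType G, L'.t = g * L.t * g⁻¹ := ⟨L.rebase g rfl, rfl⟩
  rw [← hL'] at hg
  refine ⟨L'.t, (order_t L'), hg, ?_⟩
  set y' : ↥(centralizer ({L'.t} : Set G)) := ⟨y, mem_centralizer_singleton_iff.2 hg.symm⟩ with hy'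
  have h1 : Nat.card ↥(centralizer ({y} : Set G) ⊓ centralizer ({L'.t} : Set G) : Subgroup G) =
      Nat.card ↥(centralizer ({y'} : Set ↥(centralizer ({L'.t} : Set G)))) := by
    refine Nat.card_congr
      { toFun := fun x => ⟨⟨x, x.2.2⟩, mem_centralizer_singleton_iff.2
          (Subtype.ext (mem_centralizer_singleton_iff.1 x.2.1))⟩
        invFun := fun x => ⟨((x : ↥(centralizer ({L'.t} : Set G))) : G), ⟨mem_centralizer_singleton_iff.2
          (congrArg Subtype.val (mem_centralizer_singleton_iff.1 x.2)), (x : ↥(centralizer ({L'.t} : Set G))).2⟩⟩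
        left_inv := fun x => rfl
        right_inv := fun x => rfl }
  rw [h1]
  refine (CpAut.Cyc.card_cent_dvd L'.K y').trans ?_
  have h11 : (L'.K.π y') ^ 11 = 1 := by
    rw [← map_pow, show y' ^ 11 = 1 from Subtype.ext (by change y ^ 11 = 1; rw [← hy, pow_orderOf_eq_one]), map_one]
  have hne : L'.K.π y' ≠ 1 := by
    intro h
    rcases (L'.K.ker y').1 h with h2 | h2
    · have h3 : y = 1 := congrArg Subtype.val h2
      rw [h3, orderOf_one] at hy
      norm_num at hy
    · have h3 : y = L'.t := (congrArg Subtype.val h2).trans L'.hz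
      rw [h3, (order_t L')] at hy
      norm_num at hy
  have hct := Perm.cycleType_of_pow_prime_eq_one h11
  have h2 : (L'.K.π y').cycleType.sum ≤ 11 := by
    rw [Equiv.Perm.sum_cycleType]
    exact (Finset.card_le_univ _).trans (by simp)
  have hk1 : 1 ≤ (L'.K.π y').cycleType.card := by
    by_contra hcon
    have : (L'.K.π y').cycleType.card = 0 := by omega
    exact hne (Perm.card_cycleType_eq_zero.1 this)
  rw [hct, Multiset.sum_replicate, smul_eq_mul] at h2
  have hk : (L'.K.π y').cycleType.card = 1 := by omega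
  rw [hk] at hct
  rw [Equiv.Perm.nat_card_centralizer, hct]
  decide

end Gen

/-- the arithmetic -/
theorem chk : allDiv [(3, 7), (5, 3), (7, 1), (31, 1), (37, 1), (67, 1)] 1 (fun m =>
    Nat.blt (m * m) 51765179004000000 || (exB 51765179004000000 67 [(3, 7), (5, 3), (7, 1), (11, 1), (31, 1), (37, 1)] m ||
      (exB 51765179004000000 37 [(3, 7), (5, 3), (7, 1), (11, 1), (31, 1), (67, 1)] m ||
      exB 51765179004000000 31 [(3, 7), (5, 3), (7, 1), (11, 1), (37, 1), (67, 1)] m))) = true := by decide +kernel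

/-- **row Ly of S2242** -/
theorem small_Ly {G : Type u} [Group G] [Finite G] (h : Cfsg.Spor.IsoLy G)
    (_hI : ∀ (H : Type u) [Group H] [Finite H], IsSimpleGroup H → ¬ IsMulCommutative H → Nat.card H < Nat.card G →
      NSm.Small H) : NSm.Small G := by
  obtain ⟨-, hsimp, hcard, ⟨M⟩⟩ := TypeM.FactsLy.facts h
  let L : LyType G := { t := M.t, K := M.K, hz := M.hz, one := M.one }
  have hG : ¬ IsMulCommutative G := by
    intro hc
    obtain ⟨hc⟩ := hc
    have h1 := card_inv L (order_t L)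
    have h2 : centralizer ({L.t} : Set G) = ⊤ := by
      rw [eq_top_iff]
      intro g _
      exact mem_centralizer_singleton_iff.2 (hc.comm g L.t)
    rw [h2, Subgroup.card_top, hcard] at h1
    norm_num at h1
  obtain ⟨f, hf, hbig⟩ := exists_f L (by rw [hcard]; norm_num)
  have h5F : Fact (Nat.Prime 5) := ⟨Nat.prime_five⟩
  intro N hN
  by_cases h2 : 2 ∣ Nat.card ↥N
  · obtain ⟨x, hx, -, hle⟩ := exists_le_centralizer hN Nat.prime_two h2
    have h1 := Nat.le_of_dvd Nat.card_pos (card_dvd_of_le hle)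
    rw [card_inv L hx] at h1
    rw [hcard]
    exact (Nat.pow_le_pow_left h1 2).trans_lt (by norm_num)
  by_cases h11 : 11 ∣ Nat.card ↥N
  · have hsq : ¬ 11 * 11 ∣ Nat.card G := by rw [hcard]; norm_num
    exact small_comm hG (by norm_num) (by norm_num) hsq (fun y hy => eleven L hsq hy) hN h2 h11
  have hd := card_subgroup_dvd_card N
  rw [hcard, show (51765179004000000 : ℕ) = 2 ^ 8 * (11 ^ 1 * (5 ^ 6 * (3 ^ 7 * 7 * 31 * 37 * 67))) by norm_num] at hd
  have hd := dvd_drop (by norm_num) h11 (dvd_drop Nat.prime_two h2 hd)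
  rw [hcard]
  by_cases h5 : 5 ^ 4 ∣ Nat.card ↥N
  · have key : ∀ r : ℕ, r.Prime → ¬ r ∣ 5 ^ 5 * 720 → ¬ r ∣ Nat.card ↥N := fun r hr hrf =>
      not_dvd_of_big Nat.prime_five hr hbig (by rw [hf]; exact hrf) hN h5
    have h7 := key 7 (by norm_num) (by norm_num)
    have h31 := key 31 (by norm_num) (by norm_num)
    have h37 := key 37 (by norm_num) (by norm_num)
    have h67 := key 67 (by norm_num) (by norm_num)
    have hd : Nat.card ↥N ∣ 7 ^ 1 * (31 ^ 1 * (37 ^ 1 * (67 ^ 1 * (5 ^ 6 * 3 ^ 7)))) :=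
      hd.trans (dvd_of_eq (by norm_num))
    have hd := dvd_drop (by norm_num) h67 (dvd_drop (by norm_num) h37 (dvd_drop (by norm_num) h31
      (dvd_drop (by norm_num) h7 hd)))
    exact (Nat.pow_le_pow_left (Nat.le_of_dvd (by norm_num) hd) 2).trans_lt (by norm_num)
  have hd := dvd_cap Nat.prime_five h5 hd
  -- the centralizers
  have hcent : ∀ r : ℕ, r.Prime → ¬ r ∣ 39916800 → ¬ r ∣ 5 ^ 5 * 720 → ∀ x : G, orderOf x = r →
      Nat.card ↥(centralizer ({x} : Set G)) ∣ 3 ^ 7 * 5 ^ 3 * 7 * 11 * 31 * 37 * 67 := by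
    intro r hr hr2 hr5 x hx
    have e2 : ¬ 2 ∣ Nat.card ↥(centralizer ({x} : Set G)) :=
      odd_cent' hx fun t ht => by rw [card_inv L ht]; exact hr2
    have e5 : ¬ 5 ^ 4 ∣ Nat.card ↥(centralizer ({x} : Set G)) :=
      not_dvd_cent hbig hx (by rw [hf]; exact hr5)
    have h6 := card_subgroup_dvd_card (centralizer ({x} : Set G))
    rw [hcard, show (51765179004000000 : ℕ) = 2 ^ 8 * (5 ^ 6 * (3 ^ 7 * 7 * 11 * 31 * 37 * 67)) by norm_num] at h6
    exact (dvd_cap Nat.prime_five e5 (dvd_drop Nat.prime_two e2 h6)).trans (dvd_of_eq (by norm_num))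
  have h3 := allDiv_spec (by norm_num) chk (d := Nat.card ↥N) (hd.trans (dvd_of_eq (by norm_num [prodL])))
  rw [one_mul, Bool.or_eq_true, Bool.or_eq_true, Bool.or_eq_true] at h3
  rcases h3 with h3 | h3 | h3 | h3
  · rw [pow_two]
    exact Eq.mp Nat.blt_eq h3
  · exact (false_of_exB (by norm_num) hcard (by norm_num) (by norm_num) (by norm_num) (fun x hx =>
      (hcent 67 (by norm_num) (by norm_num) (by norm_num) x hx).trans (dvd_of_eq (by norm_num [prodL]))) hN h3).elim
  · exact (false_of_exB (by norm_num) hcard (by norm_num) (by norm_num) (by norm_num) (fun x hx =>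
      (hcent 37 (by norm_num) (by norm_num) (by norm_num) x hx).trans (dvd_of_eq (by norm_num [prodL]))) hN h3).elim
  · exact (false_of_exB (by norm_num) hcard (by norm_num) (by norm_num) (by norm_num) (fun x hx =>
      (hcent 31 (by norm_num) (by norm_num) (by norm_num) x hx).trans (dvd_of_eq (by norm_num [prodL]))) hN h3).elim

end Cfsg.Agent.H513.NilpLy
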