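import Cfsg.Agent.H513.SRowTools
import Cfsg.Agent.H898.TE6Main
import Cfsg.Agent.H235.TitsRow
import Cfsg.Agent.H164.ThFiveRow
import Cfsg.Agent.H49.ThSevenDat
import Cfsg.Agent.H70.RowHe

/-!
# S2274: the strong rows `(Fi22, 5)`, `(Tits, 5)`, `(Th, 5)`, `(Th, 7)`, `(He, 5)` (helper513, task 3625)

One class of elements of order `p`.
-/

set_option autoImplicit false

universe u

namespace Cfsg.Agent.H513.SR

open Cfsg Subgroup Cfsg.Agent.H533.T5 Cfsg.Agent.H106.MT Cfsg.Agent.H132.S5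

variable {S : Type u} [Group S] [Finite S] [IsSimpleGroup S]

/-- **`(Fi22, 5)`** -/
theorem srow_fi22 (B : SBox.{u} 5) (hna : ¬ IsMulCommutative S) (h : Spor.IsoFi22 S) : SRow 5 S := by
  have hs : IsSporadicGroup S ∨ Lie.IsoTits S := Or.inl (by unfold IsSporadicGroup; tauto)
  obtain ⟨e⟩ := h
  exact srow_of_conj' B Nat.prime_five le_rfl hna hs e fun x y hx hy => H898.TE6Main.conj22 hx hy

/-- **`(Tits, 5)`** -/
theorem srow_tits (B : SBox.{u} 5) (hna : ¬ IsMulCommutative S) (h : Lie.IsoTits S) : SRow 5 S :=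
  srow_of_conj B Nat.prime_five le_rfl hna (Or.inr h) (H235.TitsRow.facts h).one

/-- **`(Th, 5)`** -/
theorem srow_th5 (B : SBox.{u} 5) (hna : ¬ IsMulCommutative S) (h : Spor.IsoTh S) : SRow 5 S := by
  have hs : IsSporadicGroup S ∨ Lie.IsoTits S := Or.inl (by unfold IsSporadicGroup; tauto)
  obtain ⟨e⟩ := h
  exact srow_of_conj' B Nat.prime_five le_rfl hna hs e fun x y hx hy =>
    Cfsg.Agent.H164.ThFiveRow.isConj_five hx hy

/-- **`(Th, 7)`** -/
theorem srow_th7 (B : SBox.{u} 7) (hna : ¬ IsMulCommutative S) (h : Spor.IsoTh S) : SRow 7 S := by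
  have hs : IsSporadicGroup S ∨ Lie.IsoTits S := Or.inl (by unfold IsSporadicGroup; tauto)
  obtain ⟨e⟩ := h
  refine srow_of_conj' B (by norm_num) (by norm_num) hna hs e fun x y hx hy => ?_
  obtain ⟨g, hg⟩ := Cfsg.Agent.H49.ThSeven.dat.one x hx
  obtain ⟨k, hk⟩ := Cfsg.Agent.H49.ThSeven.dat.one y hy
  exact (isConj_iff.2 ⟨g, hg⟩).trans (isConj_iff.2 ⟨k, hk⟩).symm

/-- **`(He, 5)`** -/
theorem srow_he5 (B : SBox.{u} 5) (hna : ¬ IsMulCommutative S) (h : Spor.IsoHe S) : SRow 5 S := by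
  have hs : IsSporadicGroup S ∨ Lie.IsoTits S := Or.inl (by unfold IsSporadicGroup; tauto)
  obtain ⟨e⟩ := h
  exact srow_of_conj' B Nat.prime_five le_rfl hna hs e fun x y hx hy =>
    (Cfsg.Agent.H70.RowHe.conj_five hx).symm.trans (Cfsg.Agent.H70.RowHe.conj_five hy)

end Cfsg.Agent.H513.SR
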