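import Cfsg.Agent.H513.SRowTools
import Cfsg.Agent.H797.T5.HeM
import Cfsg.Agent.H536.T5.SpB
import Cfsg.Agent.H164.FiveMRow
import Cfsg.Agent.S0249

/-!
# S2274: the strong rows `(B, 5)`, `(Fi24', 7)`, `(ON, 7)`, `(Ly, 5)` (helper513, task 3626)

A simple subgroup of index prime to `p`: `HN`, `He`, `PSL_3(7)`, `G_2(5)`.
-/

set_option autoImplicit false
set_option maxRecDepth 100000

universe u v

namespace Cfsg.Agent.H513.SR

open Cfsg Subgroup Cfsg.Agent.H533.T5 Cfsg.Agent.H106.MT Cfsg.Agent.H132.S5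

theorem not_comm_of_card {K : Type*} [Group K] [Finite K] [IsSimpleGroup K] (h : ¬ (Nat.card K).Prime) :
    ¬ IsMulCommutative K := by
  intro hc
  let _ : CommGroup K := { ‹Group K› with mul_comm := hc.is_comm.comm }
  exact h IsSimpleGroup.prime_card

variable {S : Type u} [Group S] [Finite S] [IsSimpleGroup S] {p : ℕ}

/-- a smaller simple group embedded, numerical form -/
theorem srow_of_emb (hp : p.Prime) (h5 : 5 ≤ p) (hna : ¬ IsMulCommutative S)
    (h : IsSporadicGroup S ∨ Lie.IsoTits S) (hlt : SBelow.{u} p (Nat.card S))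
    {K : Type v} [Group K] (hK : IsSimpleGroup K) (f : K →* S)
    (hf : Function.Injective f) {N M : ℕ} (hN : Nat.card S = N) (hM : Nat.card K = M) (hMp : ¬ M.Prime)
    (hi : ¬ p * M ∣ N) (hc : M < N) : SRow p S := by
  have hfin : Finite K := Finite.of_injective f hf
  refine srow_of_sub hp h5 hna h hlt hK (not_comm_of_card (by rwa [hM])) f hf ?_ (by rw [hN, hM]; exact hc)
  rintro ⟨j, hj⟩
  apply hi
  have h1 := f.range.card_mul_index
  rw [← Nat.card_congr (MonoidHom.ofInjective hf).toEquiv, hM, hN, hj] at h1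
  exact ⟨j, by rw [← h1]; ring⟩

/-- **`(B, 5)`** -/
theorem srow_b5 (hna : ¬ IsMulCommutative S) (h : Spor.IsoB S) (hlt : SBelow.{u} 5 (Nat.card S)) : SRow 5 S := by
  have hs : IsSporadicGroup S ∨ Lie.IsoTits S := Or.inl (by unfold IsSporadicGroup; tauto)
  obtain ⟨e⟩ := h
  obtain ⟨f, hf⟩ := Cfsg.Agent.H792.SpBFive.exists_hom
  refine srow_of_emb Nat.prime_five le_rfl hna hs hlt (Cfsg.Agent.S1701.result.1) (e.symm.toMonoidHom.comp f)
    (e.symm.injective.comp hf) ((Nat.card_congr e.toEquiv).trans Cfsg.Agent.BM.KHAll.card_B)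
    (Cfsg.Agent.H536.T5.card_HN) ?_ ?_ ?_
  all_goals norm_num

/-- **`(Ly, 5)`** -/
theorem srow_ly5 (hna : ¬ IsMulCommutative S) (h : Spor.IsoLy S) (hlt : SBelow.{u} 5 (Nat.card S)) : SRow 5 S := by
  have hs : IsSporadicGroup S ∨ Lie.IsoTits S := Or.inl (by unfold IsSporadicGroup; tauto)
  obtain ⟨e⟩ := h
  refine srow_of_emb Nat.prime_five le_rfl hna hs hlt (Cfsg.Agent.SporRec.LyG2.LyEmb.isSimpleGroup_H)
    (e.symm.toMonoidHom.comp Cfsg.Agent.SporRec.LyG2.LyEmb.H.subtype)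
    (e.symm.injective.comp (Subgroup.subtype_injective _)) ((Nat.card_congr e.toEquiv).trans Cfsg.Agent.Ly.Setup.card_ly)
    Cfsg.Agent.SporRec.LyG2.LyEmb.card_H ?_ ?_ ?_
  all_goals norm_num

/-- **`(Fi24', 7)`** -/
theorem srow_fi24_7 (hna : ¬ IsMulCommutative S) (h : Spor.IsoFi24' S) (hlt : SBelow.{u} 7 (Nat.card S)) : SRow 7 S := by
  have hs : IsSporadicGroup S ∨ Lie.IsoTits S := Or.inl (by unfold IsSporadicGroup; tauto)
  obtain ⟨e⟩ := h
  obtain ⟨ψ, hψ⟩ := H868.HeFi24.exists_embedding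
  have hle : ∀ x, ψ x ∈ commutator Spor.Fi24 :=
    Fischer.HeInFi24.he_range_le ψ (commutator Spor.Fi24) Fischer.Fi24Final.index_commutator
  let φ : Spor.He →* Spor.Fi24' := ψ.codRestrict (commutator Spor.Fi24) hle
  have hφ : Function.Injective φ := fun a b h => hψ (congrArg Subtype.val h)
  refine srow_of_emb (by norm_num) (by norm_num) hna hs hlt CpAutHe.Seven.simple_he (e.symm.toMonoidHom.comp φ)
    (e.symm.injective.comp hφ) ((Nat.card_congr e.toEquiv).trans Schreier.FiTwentyFour.card_eq)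
    FixBN.HeStab.card_he ?_ ?_ ?_
  all_goals norm_num

/-- **`(ON, 7)`** -/
theorem srow_on7 (hna : ¬ IsMulCommutative S) (h : Spor.IsoON S) (hlt : SBelow.{u} 7 (Nat.card S)) : SRow 7 S := by
  have hs : IsSporadicGroup S ∨ Lie.IsoTits S := Or.inl (by unfold IsSporadicGroup; tauto)
  obtain ⟨e⟩ := h
  have hfin : Finite Spor.ON := KFacts.ON.Cent.finite_ON
  obtain ⟨N, hN, hi, ⟨f⟩⟩ := SporRec.ONAssembly.exists_normal SporRec.ONLower.ab_ne_one
  have hH := SporRec.ONAssembly.card_H SporRec.ONLower.ab_ne_one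
  have h1 := N.card_mul_index
  rw [hi, hH, Nat.card_congr f.toEquiv] at h1
  have hc : Nat.card (Matrix.ProjectiveSpecialLinearGroup (Fin 3) (ZMod 7)) = 1876896 := by omega
  have : Fact (Nat.Prime 7) := ⟨by norm_num⟩
  have hsim : IsSimpleGroup (Matrix.ProjectiveSpecialLinearGroup (Fin 3) (ZMod 7)) := S0249.result 3 (by norm_num)
  refine srow_of_emb (by norm_num) (by norm_num) hna hs hlt hsim
    (e.symm.toMonoidHom.comp (SporRec.ONAssembly.H.subtype.comp (N.subtype.comp f.symm.toMonoidHom))) ?_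
    ((Nat.card_congr e.toEquiv).trans KFacts.ON.Cent.hON.2) hc ?_ ?_ ?_
  · exact e.symm.injective.comp ((Subgroup.subtype_injective _).comp ((Subgroup.subtype_injective _).comp f.symm.injective))
  all_goals norm_num

end Cfsg.Agent.H513.SR
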