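import Cfsg.Agent.H513.SRowTools
import Cfsg.Agent.H841.Phi
import Cfsg.Agent.R08.FiTwentyFour
import Cfsg.Agent.CTwoTab.BInst
import Cfsg.Agent.MonsterN.EInst
import Cfsg.Agent.KFacts.FiTTh.Quasi
import Cfsg.Agent.SporRec.Fi23Index

/-!
# S2274: the strong rows `(Fi23, 5)`, `(Fi24', 5)`, `(B, 7)` (helper513, task 3625)

* `(Fi23, 5)`, `(B, 7)` : the centralizer of a transposition has index prime to `p` and a simple section of smaller order
  with kernel of order 2.
* `(Fi24', 5)` : one class.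
-/

set_option autoImplicit false
set_option maxRecDepth 100000

universe u v w

namespace Cfsg.Agent.H513.SR

open Cfsg Subgroup Cfsg.Agent.H533.T5 Cfsg.Agent.H106.MT Cfsg.Agent.H132.S5

variable {S : Type u} [Group S] [Finite S] [IsSimpleGroup S] {p : ℕ}

/-- **Sections of index prime to `p`, numerical form** -/
theorem srow_of_secn (hp : p.Prime) (h5 : 5 ≤ p) (hna : ¬ IsMulCommutative S)
    (h : IsSporadicGroup S ∨ Lie.IsoTits S) (hlt : SBelow.{u} p (Nat.card S))
    {M : Type w} [Group M] (f : M →* S) (hf : Function.Injective f)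
    {K : Type v} [Group K] (hK : IsSimpleGroup K) (hKna : ¬ IsMulCommutative K) (φ : M →* K)
    (hφ : Function.Surjective φ) (hker : ¬ p ∣ Nat.card φ.ker) {N m : ℕ} (hN : Nat.card S = N) (hm : Nat.card M = m)
    (hi : ¬ p * m ∣ N) (hc : Nat.card K < N) : SRow p S := by
  let e : M ≃* f.range := MonoidHom.ofInjective hf
  refine srow_of_sec hp h5 hna h hlt f.range ?_ hK hKna (φ.comp e.symm.toMonoidHom) (hφ.comp e.symm.surjective) ?_
    (by rwa [hN])
  · rintro ⟨j, hj⟩
    apply hi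
    have h1 := f.range.card_mul_index
    rw [← Nat.card_congr e.toEquiv, hm, hN, hj] at h1
    exact ⟨j, by rw [← h1]; ring⟩
  · have h1 : (φ.comp e.symm.toMonoidHom).ker = φ.ker.map e.toMonoidHom := by
      ext x
      rw [MonoidHom.mem_ker, MonoidHom.comp_apply, mem_map]
      constructor
      · intro hx
        exact ⟨e.symm x, hx, e.apply_symm_apply x⟩
      · rintro ⟨y, hy, rfl⟩
        show φ (e.symm (e y)) = 1
        rw [e.symm_apply_apply]
        exact hy
    rw [h1, Subgroup.card_map_of_injective (f := e.toMonoidHom) e.injective]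
    exact hker

/-- **`(Fi23, 5)`** -/
theorem srow_fi23 (hna : ¬ IsMulCommutative S) (h : Spor.IsoFi23 S) (hlt : SBelow.{u} 5 (Nat.card S)) : SRow 5 S := by
  have hs : IsSporadicGroup S ∨ Lie.IsoTits S := Or.inl (by unfold IsSporadicGroup; tauto)
  obtain ⟨e⟩ := h
  obtain ⟨hz, ⟨f⟩, -⟩ := Cfsg.Agent.KFacts.FiTTh.Quasi.cover
  have hS : Nat.card S = 4089470473293004800 :=
    (Nat.card_congr e.toEquiv).trans Cfsg.Agent.Fischer.Fi23Simple.card_Fi23
  have hF : Nat.card Spor.Fi22 = 64561751654400 := Cfsg.Agent.S1696.result.2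
  have hsim : IsSimpleGroup Spor.Fi22 := Cfsg.Agent.S1696.result.1
  have hfin : Finite Spor.Fi22 := Nat.finite_of_card_ne_zero (by rw [hF]; norm_num)
  have hKna : ¬ IsMulCommutative Spor.Fi22 := by
    intro hc
    let _ : CommGroup Spor.Fi22 := { (inferInstance : Group Spor.Fi22) with mul_comm := hc.is_comm.comm }
    have h1 : (Nat.card Spor.Fi22).Prime := IsSimpleGroup.prime_card
    rw [hF] at h1
    revert h1
    norm_num
  let K := Cfsg.Agent.Fischer.Fi23Class.K
  have hK : Nat.card K = 129123503308800 := by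
    have h1 := Subgroup.card_mul_index K
    rw [Cfsg.Agent.SporRec.Fi23Index.index_H, Cfsg.Agent.Fischer.Fi23Simple.card_Fi23] at h1
    omega
  have hker : ((f.toMonoidHom.comp (QuotientGroup.mk' (center K)))).ker = center K := by
    ext x
    rw [MonoidHom.mem_ker, MonoidHom.comp_apply]
    constructor
    · intro hx
      exact (QuotientGroup.eq_one_iff x).1 (f.injective (by rw [map_one]; exact hx))
    · intro hx
      rw [show QuotientGroup.mk' (center K) x = 1 from (QuotientGroup.eq_one_iff x).2 hx, map_one]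
  refine srow_of_secn Nat.prime_five le_rfl hna hs hlt (e.symm.toMonoidHom.comp K.subtype)
    (e.symm.injective.comp K.subtype_injective) hsim hKna (f.toMonoidHom.comp (QuotientGroup.mk' (center K)))
    (f.surjective.comp (QuotientGroup.mk'_surjective _)) ?_ hS hK ?_ ?_
  · rw [hker, hz]; norm_num
  · norm_num
  · rw [hF]; norm_num

/-- **`(B, 7)`** -/
theorem srow_b7 (hna : ¬ IsMulCommutative S) (h : Spor.IsoB S) (hlt : SBelow.{u} 7 (Nat.card S)) : SRow 7 S := by
  have hs : IsSporadicGroup S ∨ Lie.IsoTits S := Or.inl (by unfold IsSporadicGroup; tauto)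
  obtain ⟨e⟩ := h
  have hfin := Cfsg.Agent.CTwoTab.BInst.finite_B
  obtain ⟨K, _, _, hK, t, X, σ, H, -, -⟩ := Cfsg.Agent.CTwoTab.BInst.exists_sec
  have hE : Nat.card ↥(Lie.twistedE6 K 2) = 76532479683774853939200 := Cfsg.Agent.BM.HBFinal.card_E K hK
  have hsE : IsSimpleGroup ↥(Lie.twistedE6 K 2) := Cfsg.Agent.MonsterN.EInst.isSimple K hK
  have hfinE : Finite ↥(Lie.twistedE6 K 2) := Nat.finite_of_card_ne_zero (by rw [hE]; norm_num)
  have hna' : ¬ IsMulCommutative ↥(Lie.twistedE6 K 2) := by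
    intro hc
    let _ : CommGroup ↥(Lie.twistedE6 K 2) :=
      { (inferInstance : Group ↥(Lie.twistedE6 K 2)) with mul_comm := hc.is_comm.comm }
    have h1 : (Nat.card ↥(Lie.twistedE6 K 2)).Prime := IsSimpleGroup.prime_card
    rw [hE] at h1
    revert h1
    norm_num
  have hker : Nat.card σ.ker = 2 := by
    have h1 : σ.ker = zpowers (⟨t, H.mem⟩ : ↥X) := by
      ext m
      rw [MonoidHom.mem_ker, H.ker]
      constructor
      · rintro (h1 | h1)
        · rw [show m = 1 from Subtype.ext h1]; exact one_mem _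
        · rw [show m = ⟨t, H.mem⟩ from Subtype.ext h1]; exact mem_zpowers _
      · rintro ⟨n, rfl⟩
        have h2 : (⟨t, H.mem⟩ : ↥X) ^ (2 : ℤ) = 1 := Subtype.ext (by
          show t ^ (2 : ℤ) = 1
          rw [zpow_two, H.t_sq])
        rcases Int.even_or_odd' n with ⟨k, hk | hk⟩
        · left
          subst hk
          show (((⟨t, H.mem⟩ : ↥X) ^ (2 * k) : ↥X) : Spor.BabyMonster) = 1
          rw [zpow_mul, h2, one_zpow]; rfl
        · right
          subst hk
          show (((⟨t, H.mem⟩ : ↥X) ^ (2 * k + 1) : ↥X) : Spor.BabyMonster) = t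
          rw [zpow_add, zpow_mul, h2, one_zpow, one_mul, zpow_one]
    rw [h1, Nat.card_zpowers]
    refine orderOf_eq_prime (p := 2) (Subtype.ext (by show t ^ 2 = 1; rw [sq, H.t_sq])) ?_
    intro h2
    exact H.t_ne (congrArg Subtype.val h2)
  have hX : Nat.card X = 2 * 76532479683774853939200 := by
    have h1 := Subgroup.card_mul_index σ.ker
    rw [index_ker, MonoidHom.range_eq_top.2 H.surj, card_top, hE, hker] at h1
    exact h1.symm
  refine srow_of_secn (by norm_num) (by norm_num) hna hs hlt (e.symm.toMonoidHom.comp X.subtype)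
    (e.symm.injective.comp X.subtype_injective) hsE hna' σ H.surj (by rw [hker]; norm_num)
    ((Nat.card_congr e.toEquiv).trans Cfsg.Agent.BM.KHAll.card_B) hX ?_ ?_
  · norm_num
  · rw [hE]; norm_num

/-! ### `Fi24'` -/

section Fi24

open Cfsg.Spor (Fi24)
open Cfsg.Agent.Fischer.Fi24Final (sgn)
open Cfsg.Agent.R08.FiTwentyFour (L mem_commutator_iff sgn_L)
open Cfsg.Agent.LThreeFi24.SNine (y0)

/-- the elements of order 5 of `Fi24'` are conjugate -/
theorem isConj_fi24' {x y : Spor.Fi24'} (hx : orderOf x = 5) (hy : orderOf y = 5) : IsConj x y := by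
  obtain ⟨g, hg⟩ := Cfsg.Agent.LThreeFi24.FiveConj.exists_conj_five (y := (x : Fi24)) (by rw [Subgroup.orderOf_coe, hx])
  obtain ⟨k, hk⟩ := Cfsg.Agent.LThreeFi24.FiveConj.exists_conj_five (y := (y : Fi24)) (by rw [Subgroup.orderOf_coe, hy])
  set t : Fi24 := Cfsg.Agent.H841.Five.Phi (Equiv.swap 0 1) with ht
  have htL : t ∈ L := Cfsg.Agent.H841.Five.Phi_swap_mem_L (by decide)
  have htc : t * y0 = y0 * t := (Cfsg.Agent.H841.Five.Phi_comm_y0 _).eq
  have hts : sgn t = -1 := sgn_L htL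
  rcases Int.units_eq_one_or (sgn (k⁻¹ * g)) with h1 | h1
  · refine isConj_iff.2 ⟨⟨k⁻¹ * g, mem_commutator_iff.2 h1⟩, Subtype.ext ?_⟩
    show (k⁻¹ * g) * (x : Fi24) * (k⁻¹ * g)⁻¹ = y
    have h2 : (k⁻¹ * g) * (x : Fi24) * (k⁻¹ * g)⁻¹ = k⁻¹ * (g * x * g⁻¹) * k := by group
    rw [h2, hg, ← hk]
    group
  · refine isConj_iff.2 ⟨⟨k⁻¹ * t * g, mem_commutator_iff.2 ?_⟩, Subtype.ext ?_⟩
    · have h2 : sgn (k⁻¹ * t * g) = sgn (k⁻¹ * g) * sgn t := by
        rw [map_mul, map_mul, map_mul, mul_assoc, mul_comm (sgn t), mul_assoc]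
      rw [h2, h1, hts]
      rfl
    · show (k⁻¹ * t * g) * (x : Fi24) * (k⁻¹ * t * g)⁻¹ = y
      have h2 : (k⁻¹ * t * g) * (x : Fi24) * (k⁻¹ * t * g)⁻¹ = k⁻¹ * (t * (g * x * g⁻¹) * t⁻¹) * k := by group
      rw [h2, hg, htc, mul_inv_cancel_right, ← hk]
      group

/-- **`(Fi24', 5)`** -/
theorem srow_fi24_5 (B : SBox.{u} 5) (hna : ¬ IsMulCommutative S) (h : Spor.IsoFi24' S) : SRow 5 S := by
  have hs : IsSporadicGroup S ∨ Lie.IsoTits S := Or.inl (by unfold IsSporadicGroup; tauto)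
  obtain ⟨e⟩ := h
  exact srow_of_conj' B Nat.prime_five le_rfl hna hs e fun x y hx hy => isConj_fi24' hx hy

end Fi24

end Cfsg.Agent.H513.SR
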