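import Cfsg.Agent.H513.SRowTools
import Cfsg.Agent.H609.Inv.MEleven

/-!
# S2274: the strong row `(M, 11)` (helper513, task 3625)

`C(x)/⟨x⟩ ≅ M12`, and every element of order 11 has a conjugate in `C(x) ∖ ⟨x⟩`.
-/

set_option autoImplicit false
set_option maxRecDepth 100000

universe u v w

namespace Cfsg.Agent.H513.SR

open Cfsg Subgroup Cfsg.Agent.H533.T5 Cfsg.Agent.H106.MT Cfsg.Agent.H132.S5

variable {S : Type u} [Group S] [Finite S] [IsSimpleGroup S] {p : ℕ}

/-- **Sections which meet all classes**, in a model. -/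
theorem srow_of_meet' (hp : p.Prime) (h5 : 5 ≤ p) (hna : ¬ IsMulCommutative S)
    (h : IsSporadicGroup S ∨ Lie.IsoTits S) (hlt : SBelow.{u} p (Nat.card S)) {H : Type w} [Group H] (e : S ≃* H)
    (T : Subgroup H) {K : Type v} [Group K] (hK : IsSimpleGroup K) (hKna : ¬ IsMulCommutative K) (φ : T →* K)
    (hφ : Function.Surjective φ) (hc : Nat.card K < Nat.card S)
    (hm : ∀ x : H, orderOf x = p → ∃ (g : H) (hg : g * x * g⁻¹ ∈ T), φ ⟨_, hg⟩ ≠ 1) : SRow p S := by
  have hsur : Function.Surjective (e.toMonoidHom.subgroupComap T) := by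
    rintro ⟨t, ht⟩
    exact ⟨⟨e.symm t, by show e (e.symm t) ∈ T; rwa [e.apply_symm_apply]⟩, Subtype.ext (e.apply_symm_apply t)⟩
  refine srow_of_meet hp h5 hna h hlt (T.comap e.toMonoidHom) hK hKna (φ.comp (e.toMonoidHom.subgroupComap T))
    (hφ.comp hsur) hc fun x hx => ?_
  obtain ⟨g, hg, h1⟩ := hm (e x) (by rw [MulEquiv.orderOf_eq, hx])
  have h2 : e (e.symm g * x * (e.symm g)⁻¹) = g * e x * g⁻¹ := by
    rw [map_mul, map_mul, map_inv, e.apply_symm_apply]
  have h3 : e.symm g * x * (e.symm g)⁻¹ ∈ T.comap e.toMonoidHom := by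
    show e (e.symm g * x * (e.symm g)⁻¹) ∈ T
    rwa [h2]
  refine ⟨e.symm g, h3, ?_⟩
  intro h4
  apply h1
  rw [← h4]
  show φ _ = φ _
  congr 1
  exact Subtype.ext h2.symm

section M

open Cfsg.Agent.H609.Inv.Eleven
open Cfsg.Agent.LThreeMB (fr XX Zx)
open Cfsg.Agent.H800.ME.Final Cfsg.Agent.H800.ME.CoFacts
open Cfsg.Agent.BpSpor.MBigModel (MG zz card_M chart orderOf_zz)

/-- every element of order 11 has a conjugate in `C(x) ∖ ⟨x⟩` -/
theorem exists_eleven {x y k : MG} (hx : orderOf x = 11) (hy : orderOf y = 11) (hxy : x * y = y * x)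
    (hyx : y ∉ zpowers x) (hk : k * y * k⁻¹ ∈ zpowers x) {r : MG} (hr : orderOf r = 11) :
    ∃ g : MG, g * r * g⁻¹ ∈ centralizer ({x} : Set MG) ∧ g * r * g⁻¹ ∉ zpowers x := by
  have h11 : Fact (Nat.Prime 11) := ⟨prime11⟩
  have hidx : ¬ 11 ∣ (centralizer ({x} : Set MG)).index := by
    intro h1
    apply not_cube
    have h2 : 11 ^ 2 ∣ Nat.card ↥(centralizer ({x} : Set MG)) := by
      have h3 := Subgroup.card_eq_card_quotient_mul_card_subgroup (Zx x)
      have h4 : Nat.card ↥(Zx x) = 11 := by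
        rw [Zx, Nat.card_zpowers, ← hx]
        exact Subgroup.orderOf_mk x _
      rw [h3, h4, pow_two]
      exact Nat.mul_dvd_mul (dvd_XX hx) dvd_rfl
    rw [← (centralizer ({x} : Set MG)).card_mul_index, pow_succ]
    exact Nat.mul_dvd_mul h2 h1
  obtain ⟨g, hg⟩ := H533.T5.exists_conj_mem_of_index hidx hr
  by_cases hsx : g * r * g⁻¹ ∈ zpowers x
  · have hro : orderOf (g * r * g⁻¹) = 11 := by rw [← MulAut.conj_apply, MulEquiv.orderOf_eq, hr]
    have h1 : zpowers (k * y * k⁻¹) = zpowers x := by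
      refine Subgroup.eq_of_le_of_card_ge (zpowers_le.2 hk) ?_
      rw [Nat.card_zpowers, Nat.card_zpowers, hx, ← MulAut.conj_apply, MulEquiv.orderOf_eq, hy]
    rw [← h1] at hsx
    obtain ⟨i, hi⟩ := mem_zpowers_iff.1 hsx
    rw [conj_zpow] at hi
    have e : (k⁻¹ * g) * r * (k⁻¹ * g)⁻¹ = y ^ i := by
      have h2 : (k⁻¹ * g) * r * (k⁻¹ * g)⁻¹ = k⁻¹ * (g * r * g⁻¹) * k := by group
      rw [h2, ← hi]; group
    have ho : orderOf (y ^ i) = 11 := by
      rw [← e, ← MulAut.conj_apply, MulEquiv.orderOf_eq, hr]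
    refine ⟨k⁻¹ * g, ?_, ?_⟩
    · rw [e]
      exact mem_centralizer_singleton_iff.2 ((show Commute x y from hxy).symm.zpow_left i).eq
    · rw [e]
      intro h2
      refine hyx (mem_of_pow hy ?_ h2)
      intro h3
      rw [h3, orderOf_one] at ho
      norm_num at ho
  · exact ⟨g, hg, hsx⟩

/-- **`(M, 11)`** -/
theorem srow_m11 (hna : ¬ IsMulCommutative S) (h : Spor.IsoM S) (hlt : SBelow.{u} 11 (Nat.card S)) : SRow 11 S := by
  have hs : IsSporadicGroup S ∨ Lie.IsoTits S := Or.inl (by unfold IsSporadicGroup; tauto)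
  obtain ⟨e⟩ := h
  obtain ⟨f⟩ := MonsterP.Equiv.equiv
  obtain ⟨x, y, k, hx, hy, hxy, hyx, hk, hM⟩ := exists_data
  have hM12 := H603.FD.Spor.isM12 hM
  have hsM := hM12.1
  have hcard := hM12.2
  have hfM : Finite (XX x) := Nat.finite_of_card_ne_zero (by rw [hcard]; norm_num)
  have hna' : ¬ IsMulCommutative (XX x) := by
    intro hc
    let _ : CommGroup (XX x) := { (inferInstance : Group (XX x)) with mul_comm := hc.is_comm.comm }
    have h1 : (Nat.card (XX x)).Prime := IsSimpleGroup.prime_card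
    rw [hcard] at h1
    revert h1
    norm_num
  refine srow_of_meet' (by norm_num) (by norm_num) hna hs hlt (e.trans f) (centralizer ({x} : Set MG)) hsM hna'
    (QuotientGroup.mk' (Zx x)) (QuotientGroup.mk'_surjective _) ?_ fun r hr => ?_
  · rw [hcard, Nat.card_congr (e.trans f).toEquiv, card_M]
    norm_num
  · obtain ⟨g, hg, hgx⟩ := exists_eleven hx hy hxy hyx hk hr
    refine ⟨g, hg, fun h1 => hgx ?_⟩
    have h2 : (⟨g * r * g⁻¹, hg⟩ : ↥(centralizer ({x} : Set MG))) ∈ Zx x := (QuotientGroup.eq_one_iff _).1 h1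
    obtain ⟨i, hi⟩ := mem_zpowers_iff.1 h2
    exact mem_zpowers_iff.2 ⟨i, congrArg Subtype.val hi⟩

end M

end Cfsg.Agent.H513.SR
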