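import Cfsg.Agent.H132.S5.Main
import Cfsg.Agent.H505.OddInn

/-!
# S2274: tools for the strong rows of the sporadic groups (helper513, tasks 3625, 3626)

* `srow_of_conj` : one class of elements of order `p`;
* `srow_of_sub` : a smaller simple group embedded with index prime to `p`;
* `srow_of_sec` : a subgroup of index prime to `p` with a smaller simple quotient, kernel of order prime to `p`;
* `srow_of_meet` : a subgroup with a smaller simple quotient such that every element of order `p` has a conjugate in it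
  outside the kernel.
-/

set_option autoImplicit false

universe u v

namespace Cfsg.Agent.H513.SR

open Cfsg Subgroup Cfsg.Agent.H533.T5 Cfsg.Agent.H957.T5M Cfsg.Agent.H106.MB Cfsg.Agent.H106.MT Cfsg.Agent.H132.S5

/-- automorphisms of prime order `≥ 5` of the sporadic groups and of the Tits group are inner -/
theorem inner_range {K : Type u} [Group K] [Finite K] [IsSimpleGroup K]
    (h : IsSporadicGroup K ∨ Lie.IsoTits K) {p : ℕ} (hp : p.Prime) (h5 : 5 ≤ p) (a : MulAut K)
    (ha : orderOf a = p) : a ∈ (MulAut.conj : K →* MulAut K).range := by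
  have h1 : ∃ g : K, a = MulAut.conj g := by
    rcases h with h | h
    · exact Cfsg.Agent.H505.OddInn.oddInn_sporadic h p hp (by omega) a ha
    · exact Cfsg.Agent.H505.OddInn.oddInn_tits h p hp (by omega) a ha
  obtain ⟨g, rfl⟩ := h1
  exact ⟨g, rfl⟩

variable {S : Type u} [Group S] [Finite S] [IsSimpleGroup S] {p : ℕ}

/-- one class of elements of order `p` -/
theorem srow_of_conj (B : SBox.{u} p) (hp : p.Prime) (h5 : 5 ≤ p) (hna : ¬ IsMulCommutative S)
    (h : IsSporadicGroup S ∨ Lie.IsoTits S)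
    (hc : ∀ x y : S, orderOf x = p → orderOf y = p → IsConj x y) : SRow p S := by
  refine SRow.of_inner hna (inner_range h hp h5) fun x y hx hy => ?_
  have h1 := hc x y hx hy
  obtain ⟨s, hs⟩ := isConj_iff.1 h1.symm
  exact SPair.mk' hp (apair_of_isConj_zpow B.rs hp hna hx (s := s) (j := 1) (by rw [zpow_one, hs]))
    (bpair_of_isConj B.aa hp hna hx h1)

/-- one class, along an isomorphism -/
theorem srow_of_conj' (B : SBox.{u} p) (hp : p.Prime) (h5 : 5 ≤ p) (hna : ¬ IsMulCommutative S)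
    (h : IsSporadicGroup S ∨ Lie.IsoTits S) {K : Type v} [Group K] (e : S ≃* K)
    (hc : ∀ x y : K, orderOf x = p → orderOf y = p → IsConj x y) : SRow p S := by
  refine srow_of_conj B hp h5 hna h fun x y hx hy => ?_
  obtain ⟨s, hs⟩ := isConj_iff.1 (hc (e x) (e y) (by rw [MulEquiv.orderOf_eq, hx]) (by rw [MulEquiv.orderOf_eq, hy]))
  refine isConj_iff.2 ⟨e.symm s, e.injective ?_⟩
  rw [map_mul, map_mul, map_inv, e.apply_symm_apply, hs]

/-- a simple quotient -/
theorem srow_quot (hlt : SBelow.{u} p (Nat.card S)) {T : Subgroup S} {K : Type v} [Group K] (hK : IsSimpleGroup K)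
    (hKna : ¬ IsMulCommutative K) (φ : T →* K) (hφ : Function.Surjective φ) (hc : Nat.card K < Nat.card S) :
    ∃ (L : Type u) (_ : Group L) (_ : IsSimpleGroup L) (ψ : T →* L), ¬ IsMulCommutative L ∧ SRow p L ∧
      Function.Surjective ψ ∧ ψ.ker = φ.ker := by
  let e : (T ⧸ φ.ker) ≃* K := QuotientGroup.quotientKerEquivOfSurjective φ hφ
  have hs : IsSimpleGroup (T ⧸ φ.ker) := (MulEquiv.isSimpleGroup_congr e).2 hK
  have hna : ¬ IsMulCommutative (T ⧸ φ.ker) := by
    intro h
    exact hKna ⟨⟨fun a b => e.symm.injective (by rw [map_mul, map_mul, h.is_comm.comm])⟩⟩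
  refine ⟨T ⧸ φ.ker, inferInstance, hs, QuotientGroup.mk' φ.ker, hna, hlt _ hs hna ?_, QuotientGroup.mk'_surjective _, ?_⟩
  · rwa [Nat.card_congr e.toEquiv]
  · exact QuotientGroup.ker_mk' _

/-- **Sections of index prime to `p`.** -/
theorem srow_of_sec (hp : p.Prime) (h5 : 5 ≤ p) (hna : ¬ IsMulCommutative S)
    (h : IsSporadicGroup S ∨ Lie.IsoTits S) (hlt : SBelow.{u} p (Nat.card S)) (T : Subgroup S) (hT : ¬ p ∣ T.index)
    {K : Type v} [Group K] (hK : IsSimpleGroup K) (hKna : ¬ IsMulCommutative K) (φ : T →* K)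
    (hφ : Function.Surjective φ) (hker : ¬ p ∣ Nat.card φ.ker) (hc : Nat.card K < Nat.card S) : SRow p S := by
  have := Fact.mk hp
  obtain ⟨L, _, _, ψ, h1, h2, h3, h4⟩ := srow_quot hlt hK hKna φ hφ hc
  exact SRow.of_inner hna (inner_range h hp h5) fun x y hx hy =>
    spair_of_section_index h1 h2 T hT ψ h3 (by rwa [h4]) hx hy

/-- **Subgroups of index prime to `p`.** -/
theorem srow_of_sub (hp : p.Prime) (h5 : 5 ≤ p) (hna : ¬ IsMulCommutative S)
    (h : IsSporadicGroup S ∨ Lie.IsoTits S) (hlt : SBelow.{u} p (Nat.card S))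
    {K : Type v} [Group K] (hK : IsSimpleGroup K) (hKna : ¬ IsMulCommutative K) (f : K →* S)
    (hf : Function.Injective f) (hi : ¬ p ∣ f.range.index) (hc : Nat.card K < Nat.card S) : SRow p S := by
  let e : K ≃* f.range := MonoidHom.ofInjective hf
  refine srow_of_sec hp h5 hna h hlt f.range hi hK hKna e.symm.toMonoidHom e.symm.surjective ?_ hc
  have h1 : e.symm.toMonoidHom.ker = ⊥ := (MonoidHom.ker_eq_bot_iff _).2 e.symm.injective
  rw [h1, Nat.card_unique]
  exact fun h2 => hp.one_lt.ne' (Nat.dvd_one.1 h2)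

/-- **Sections which meet all classes.** -/
theorem srow_of_meet (hp : p.Prime) (h5 : 5 ≤ p) (hna : ¬ IsMulCommutative S)
    (h : IsSporadicGroup S ∨ Lie.IsoTits S) (hlt : SBelow.{u} p (Nat.card S)) (T : Subgroup S)
    {K : Type v} [Group K] (hK : IsSimpleGroup K) (hKna : ¬ IsMulCommutative K) (φ : T →* K)
    (hφ : Function.Surjective φ) (hc : Nat.card K < Nat.card S)
    (hm : ∀ x : S, orderOf x = p → ∃ (g : S) (hg : g * x * g⁻¹ ∈ T), φ ⟨_, hg⟩ ≠ 1) : SRow p S := by
  have := Fact.mk hp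
  obtain ⟨L, _, _, ψ, h1, h2, h3, h4⟩ := srow_quot hlt hK hKna φ hφ hc
  refine SRow.of_inner hna (inner_range h hp h5) fun x y hx hy => ?_
  obtain ⟨s, hs, hs1⟩ := hm x hx
  obtain ⟨t, ht, ht1⟩ := hm y hy
  have hord : ∀ (w : T), orderOf w = p → φ w ≠ 1 → orderOf (ψ w) = p := by
    intro w hw hw1
    have h5 : orderOf (ψ w) ∣ p := by rw [← hw]; exact orderOf_map_dvd _ _
    rcases (Nat.dvd_prime hp).1 h5 with h6 | h6
    · rw [orderOf_eq_one_iff, ← MonoidHom.mem_ker, h4] at h6
      exact absurd h6 hw1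
    · exact h6
  refine SPair.conj_left (s := s) (Subgroup.mem_top _) (SPair.conj_right (s := t) (Subgroup.mem_top _) ?_)
  have h6 := h2.pair hp h1 (hord ⟨_, hs⟩ (by rw [Subgroup.orderOf_mk, orderOf_cj, hx]) hs1)
    (hord ⟨_, ht⟩ (by rw [Subgroup.orderOf_mk, orderOf_cj, hy]) ht1)
  refine SPair.of_section hp (M := T) (c := ⟨_, hs⟩) (d := ⟨_, ht⟩) ψ ?_ h6
  intro k _
  obtain ⟨t, rfl⟩ := h3 k
  exact ⟨t, Subgroup.mem_top _, rfl⟩

end Cfsg.Agent.H513.SR
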