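import Cfsg.Agent.H513.HNStr
import Cfsg.Agent.H513.SRowTools
import Cfsg.Agent.H536.T5.MRow

/-!
# S2274: the strong row `(HN, 5)` (helper513, task 3626)

Five classes of elements of order 5: `x1, x2, x3` (rational), `a`, `a ^ 2`.
Part (b) : products of order prime to 5 (`HNStr`, `H536.T5.DataB`), and the AA-theorem for two elements of the same class.
Part (a) : elements `u, v, u v` of pairwise coprime orders, and Baer-Suzuki for two elements with conjugate groups.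
-/

set_option autoImplicit false
set_option maxRecDepth 100000

universe u

namespace Cfsg.Agent.H513.SRowHN

open Subgroup Cfsg Cfsg.Agent.H533.T5 Cfsg.Agent.H132.S5
open Cfsg.Agent.HN.XWords (V)
open Cfsg.Agent.H536.T5 (zw w2w w3w aa Prd RepOf Four exists_rep ne_w1 ne_w2 ne_w3 w1_5 w2_5 w3_5 aa_5)

section gen

variable {G : Type*} [Group G]

/-- `u`, `v`, `u v` of pairwise coprime orders -/
theorem not_solvable_of {H : Subgroup G} {u v : G} (hu : u ∈ H) (hv : v ∈ H) {a b c : ℕ} (ha : u ^ a = 1)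
    (hb : v ^ b = 1) (hc : (u * v) ^ c = 1) (hab : Nat.Coprime a b) (hac : Nat.Coprime a c) (hbc : Nat.Coprime b c)
    (h1 : u ≠ 1) : ¬ Group.IsSolvable ↥H := by
  intro hs
  have hK : closure ({u, v} : Set G) ≤ H := by
    rw [closure_le]
    rintro x (rfl | rfl)
    · exact hu
    · exact hv
  have hsK := isSolvable_of_le hK hs
  generalize hKd : closure ({u, v} : Set G) = K at hK hsK
  have hu' : u ∈ K := by rw [← hKd]; exact subset_closure (by simp)
  have hv' : v ∈ K := by rw [← hKd]; exact subset_closure (by simp)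
  have key : ∀ {A : Type _} [CommGroup A] (α β : A), α ^ a = 1 → β ^ b = 1 → (α * β) ^ c = 1 → α = 1 ∧ β = 1 := by
    intro A _ α β h2 h3 h4
    rw [mul_pow] at h4
    constructor
    · have h5 : α ^ (b * c) = 1 := by
        have h6 : (α ^ c * β ^ c) ^ b = 1 := by rw [h4, one_pow]
        rw [mul_pow, ← pow_mul, ← pow_mul, mul_comm c b, pow_mul β b c, h3, one_pow, mul_one] at h6
        exact h6
      have h6 := Nat.dvd_gcd (orderOf_dvd_of_pow_eq_one h2) (orderOf_dvd_of_pow_eq_one h5)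
      rw [Nat.Coprime.gcd_eq_one (Nat.Coprime.mul_right hab hac), Nat.dvd_one, orderOf_eq_one_iff] at h6
      exact h6
    · have h5 : β ^ (a * c) = 1 := by
        have h6 : (α ^ c * β ^ c) ^ a = 1 := by rw [h4, one_pow]
        rw [mul_pow, ← pow_mul, ← pow_mul, mul_comm c a, pow_mul α a c, h2, one_pow, one_mul] at h6
        exact h6
      have h6 := Nat.dvd_gcd (orderOf_dvd_of_pow_eq_one h3) (orderOf_dvd_of_pow_eq_one h5)
      rw [Nat.Coprime.gcd_eq_one (Nat.Coprime.mul_right hab.symm hbc), Nat.dvd_one, orderOf_eq_one_iff] at h6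
      exact h6
  obtain ⟨h2, h3⟩ := key (Abelianization.of (⟨u, hu'⟩ : ↥K)) (Abelianization.of (⟨v, hv'⟩ : ↥K))
    (by rw [← map_pow, show (⟨u, hu'⟩ : ↥K) ^ a = 1 from Subtype.ext ha, map_one])
    (by rw [← map_pow, show (⟨v, hv'⟩ : ↥K) ^ b = 1 from Subtype.ext hb, map_one])
    (by rw [← map_mul, ← map_pow, show ((⟨u, hu'⟩ : ↥K) * ⟨v, hv'⟩) ^ c = 1 from Subtype.ext hc, map_one])
  have h4 : (⟨u, hu'⟩ : ↥K) ∈ commutator ↥K := (QuotientGroup.eq_one_iff _).1 h2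
  have h5 : (⟨v, hv'⟩ : ↥K) ∈ commutator ↥K := (QuotientGroup.eq_one_iff _).1 h3
  have h6 : K ≤ (commutator ↥K).map K.subtype := by
    conv_lhs => rw [← hKd]
    rw [closure_le]
    rintro x (rfl | rfl)
    · exact ⟨_, h4, rfl⟩
    · exact ⟨_, h5, rfl⟩
  have h7 : commutator ↥K = ⊤ := by
    rw [eq_top_iff]
    intro x _
    obtain ⟨y, hy, hxy⟩ := h6 x.2
    rwa [show x = y from Subtype.ext hxy.symm]
  have : Nontrivial ↥K := ⟨⟨⟨u, hu'⟩, 1, fun h => h1 (congrArg Subtype.val h)⟩⟩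
  have h8 := Group.IsSolvable.commutator_lt_top_of_nontrivial ↥K
  rw [h7] at h8
  exact lt_irrefl _ h8

theorem bpair_of_pow {x y g : G} {n : ℕ} (h1 : x * (g * y * g⁻¹) ≠ 1) (hn : (x * (g * y * g⁻¹)) ^ n = 1)
    (hc : Nat.Coprime n 5) : BPair 5 (⊤ : Subgroup G) x y := by
  refine ⟨g, mem_top g, fun k hk => h1 ?_⟩
  have h4 := Nat.dvd_gcd (orderOf_dvd_of_pow_eq_one hn) (orderOf_dvd_of_pow_eq_one hk)
  rw [Nat.Coprime.gcd_eq_one (Nat.Coprime.pow_right k hc), Nat.dvd_one, orderOf_eq_one_iff] at h4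
  exact h4

theorem bpair_of_pow' {x y : G} {n : ℕ} (h1 : x * y ≠ 1) (hn : (x * y) ^ n = 1)
    (hc : Nat.Coprime n 5) : BPair 5 (⊤ : Subgroup G) x y :=
  bpair_of_pow (g := 1) (n := n) (by rwa [one_mul, inv_one, mul_one]) (by rwa [one_mul, inv_one, mul_one]) hc

theorem bpair_of_prd {x y : G} (h : Prd x y) : BPair 5 (⊤ : Subgroup G) x y := by
  obtain ⟨g, g', hg, h1, h24⟩ := h
  have hg' : g' = g⁻¹ := (inv_eq_of_mul_eq_one_right hg).symm
  subst hg'
  have e : x * g * y * g⁻¹ = x * (g * y * g⁻¹) := by group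
  rw [e] at h1 h24
  exact bpair_of_pow h1 h24 (by norm_num)

theorem bpair_isConj {x y x' y' : G} (hx : IsConj x x') (hy : IsConj y y') (h : BPair 5 (⊤ : Subgroup G) x' y') :
    BPair 5 (⊤ : Subgroup G) x y := by
  obtain ⟨s, rfl⟩ := isConj_iff.1 hx
  obtain ⟨t, rfl⟩ := isConj_iff.1 hy
  exact BPair.conj_left (mem_top s) (BPair.conj_right (mem_top t) h)

theorem spair_isConj {x y x' y' : G} (hx : IsConj x x') (hy : IsConj y y') (h : SPair 5 (⊤ : Subgroup G) x' y') :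
    SPair 5 (⊤ : Subgroup G) x y := by
  obtain ⟨s, rfl⟩ := isConj_iff.1 hx
  obtain ⟨t, rfl⟩ := isConj_iff.1 hy
  exact SPair.conj_left (mem_top s) (SPair.conj_right (mem_top t) h)

/-- a rational element -/
theorem pows {w : G} (h5 : w ^ 5 = 1) (h : ∃ g : G, g * w = w ^ 2 * g) {j : ℕ} (hj : j % 5 ≠ 0) : IsConj w (w ^ j) := by
  obtain ⟨g, hg⟩ := h
  have h1 : ∀ k : ℕ, g * w ^ k * g⁻¹ = w ^ (2 * k) := by
    intro k
    have h2 : g * w * g⁻¹ = w ^ 2 := by rw [hg, mul_inv_cancel_right]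
    rw [← conj_pow, h2, pow_mul]
  have c2 : IsConj w (w ^ 2) := isConj_iff.2 ⟨g, by have := h1 1; rwa [pow_one] at this⟩
  have c4 : IsConj w (w ^ 4) := c2.trans (isConj_iff.2 ⟨g, h1 2⟩)
  have c3 : IsConj w (w ^ 3) := by
    refine c4.trans (isConj_iff.2 ⟨g, ?_⟩)
    rw [h1 4, show 2 * 4 = 5 + 3 by norm_num, pow_add, h5, one_mul]
  have e : w ^ j = w ^ (j % 5) := by
    conv_lhs => rw [← Nat.mod_add_div j 5, pow_add, pow_mul, h5, one_pow, mul_one]
  rw [e]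
  have hlt : j % 5 < 5 := Nat.mod_lt _ (by norm_num)
  generalize j % 5 = m at hj hlt
  interval_cases m
  · exact absurd rfl hj
  · rw [pow_one]
  · exact c2
  · exact c3
  · exact c4

/-- a real element -/
theorem pows_real {w : G} (h5 : w ^ 5 = 1) (h : ∃ g : G, w * g * w = g) {j : ℕ} (hj : j % 5 ≠ 0) :
    IsConj (w ^ j) w ∨ IsConj (w ^ j) (w ^ 2) := by
  obtain ⟨g, hg⟩ := h
  have h1 : ∀ k : ℕ, g * w ^ k * g⁻¹ = (w ^ k)⁻¹ := by
    intro k
    have h2 : g * w * g⁻¹ = w⁻¹ := by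
      rw [mul_inv_eq_iff_eq_mul, eq_inv_mul_iff_mul_eq, ← mul_assoc, hg]
    rw [← conj_pow, h2, inv_pow]
  have e : w ^ j = w ^ (j % 5) := by
    conv_lhs => rw [← Nat.mod_add_div j 5, pow_add, pow_mul, h5, one_pow, mul_one]
  rw [e]
  have hlt : j % 5 < 5 := Nat.mod_lt _ (by norm_num)
  generalize j % 5 = m at hj hlt
  interval_cases m
  · exact absurd rfl hj
  · left; rw [pow_one]
  · right; exact IsConj.refl _
  · right
    refine isConj_iff.2 ⟨g, ?_⟩
    rw [h1, inv_eq_iff_mul_eq_one, ← pow_add]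
    exact h5
  · left
    refine isConj_iff.2 ⟨g, ?_⟩
    rw [h1, inv_eq_iff_mul_eq_one, ← pow_succ]
    exact h5

end gen

/-! ### The five classes -/

theorem aa_ne : aa ≠ 1 := by
  intro h
  have h1 := Cfsg.Agent.H536.T5.DataT.tr_a
  rw [h, Cfsg.Agent.H536.T5.tr_one] at h1
  revert h1
  decide

/-- from a representative to a power -/
theorem conj_of_repOf {x r : Cfsg.Spor.HN} (hx : orderOf x = 5) (hr : r ≠ 1) (h : RepOf x r) :
    ∃ k : ℕ, k % 5 ≠ 0 ∧ IsConj x (r ^ k) := by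
  obtain ⟨g, i, rfl⟩ := h
  have hx5 : x ^ 5 = 1 := by rw [← hx, pow_orderOf_eq_one]
  have hi : i % 5 ≠ 0 := by
    intro h0
    obtain ⟨m, rfl⟩ := Nat.dvd_of_mod_eq_zero h0
    apply hr
    rw [pow_mul, hx5, one_pow, mul_one, mul_inv_cancel]
  obtain ⟨k, hk⟩ := Cfsg.Agent.H536.T5.Five.exists_inv5 hi
  refine ⟨k, ?_, isConj_iff.2 ⟨g, ?_⟩⟩
  · intro h0
    rw [Nat.mul_mod, h0, Nat.mul_zero, Nat.zero_mod] at hk
    exact absurd hk (by norm_num)
  · rw [conj_pow, ← pow_mul]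
    congr 2
    have e : x ^ (i * k) = x ^ (i * k % 5) := by
      conv_lhs => rw [← Nat.mod_add_div (i * k) 5, pow_add, pow_mul, hx5, one_pow, mul_one]
    rw [e, hk, pow_one]

/-- the five representatives -/
def Five (r : Cfsg.Spor.HN) : Prop := r = V zw ∨ r = V w2w ∨ r = V w3w ∨ r = aa ∨ r = aa ^ 2

theorem exists_five {x : Cfsg.Spor.HN} (hx : orderOf x = 5) : ∃ r, Five r ∧ IsConj x r := by
  obtain ⟨r, hr, hxr⟩ := exists_rep hx
  rcases hr with rfl | rfl | rfl | rfl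
  · obtain ⟨k, hk, h⟩ := conj_of_repOf hx ne_w1 hxr
    exact ⟨_, Or.inl rfl, h.trans (pows w1_5 HNStr.conj_1 hk).symm⟩
  · obtain ⟨k, hk, h⟩ := conj_of_repOf hx ne_w2 hxr
    exact ⟨_, Or.inr (Or.inl rfl), h.trans (pows w2_5 HNStr.conj_2 hk).symm⟩
  · obtain ⟨k, hk, h⟩ := conj_of_repOf hx ne_w3 hxr
    exact ⟨_, Or.inr (Or.inr (Or.inl rfl)), h.trans (pows w3_5 HNStr.conj_3 hk).symm⟩
  · obtain ⟨k, hk, h⟩ := conj_of_repOf hx aa_ne hxr
    rcases pows_real aa_5 HNStr.conj_a hk with h1 | h1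
    · exact ⟨_, Or.inr (Or.inr (Or.inr (Or.inl rfl))), h.trans h1⟩
    · exact ⟨_, Or.inr (Or.inr (Or.inr (Or.inr rfl))), h.trans h1⟩

/-! ### The pairs of different classes -/

theorem cl_l {G : Type*} [Group G] (x y : G) : x ∈ closure ({x, y} : Set G) := subset_closure (by simp)
theorem cl_r {G : Type*} [Group G] (x y : G) : y ∈ closure ({x, y} : Set G) := subset_closure (by simp)

theorem apair_one {G : Type*} [Group G] {x y : G} (h : ¬ Group.IsSolvable ↥(closure ({x, y} : Set G))) :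
    APair (⊤ : Subgroup G) x y := ⟨1, mem_top _, by rwa [one_mul, inv_one, mul_one]⟩

theorem a12 : APair (⊤ : Subgroup Cfsg.Spor.HN) (V zw) (V w2w) := by
  have hx := cl_l (V zw) (V w2w)
  have hy := cl_r (V zw) (V w2w)
  have hm := mul_mem (pow_mem hx 2) (pow_mem hy 2)
  exact apair_one (not_solvable_of hy (mul_mem hm hm) w2_5 HNStr.a12.1 HNStr.a12.2 (by norm_num) (by norm_num)
    (by norm_num) ne_w2)

theorem a13 : APair (⊤ : Subgroup Cfsg.Spor.HN) (V zw) (V w3w) := by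
  have hx := cl_l (V zw) (V w3w)
  have hy := cl_r (V zw) (V w3w)
  exact apair_one (not_solvable_of hx (mul_mem (pow_mem hx 2) hy) w1_5 HNStr.b13.2 HNStr.a13 (by norm_num) (by norm_num)
    (by norm_num) ne_w1)

theorem a23 : APair (⊤ : Subgroup Cfsg.Spor.HN) (V w2w) (V w3w) := by
  have hx := cl_l (V w2w) (V w3w)
  have hy := cl_r (V w2w) (V w3w)
  exact apair_one (not_solvable_of hx (mul_mem hx hy) w2_5 HNStr.b23.2 HNStr.a23 (by norm_num) (by norm_num)
    (by norm_num) ne_w2)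

theorem sq_ne {G : Type*} [Group G] {x : G} (h5 : x ^ 5 = 1) (h1 : x ≠ 1) : x ^ 2 ≠ 1 := by
  intro h
  apply h1
  calc x = x ^ 5 * (x ^ 2 * x ^ 2)⁻¹ := by rw [← pow_add]; group
    _ = 1 := by rw [h5, h]; group

theorem a1a : APair (⊤ : Subgroup Cfsg.Spor.HN) (V zw) aa := by
  obtain ⟨g, h1, h2⟩ := HNStr.a1a
  refine ⟨g, mem_top _, ?_⟩
  have hx := cl_l (V zw) (g * aa * g⁻¹)
  have hy := cl_r (V zw) (g * aa * g⁻¹)
  have hy5 : (g * aa * g⁻¹) ^ 5 = 1 := by rw [conj_pow, aa_5]; group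
  have hy1 : g * aa * g⁻¹ ≠ 1 := fun h => aa_ne (conj_eq_one_iff.1 h)
  exact not_solvable_of (pow_mem hy 2) (mul_mem (mul_mem (mul_mem hx (pow_mem hy 2)) (pow_mem hx 4)) (pow_mem hy 2))
    (a := 5) (by rw [← pow_mul, mul_comm, pow_mul, hy5, one_pow]) h1 h2 (by norm_num) (by norm_num) (by norm_num)
    (sq_ne hy5 hy1)

theorem a2a : APair (⊤ : Subgroup Cfsg.Spor.HN) (V w2w) aa := by
  have hx := cl_l (V w2w) aa
  have hy := cl_r (V w2w) aa
  exact apair_one (not_solvable_of (pow_mem hy 2) (mul_mem (mul_mem (mul_mem hx (pow_mem hy 2)) (pow_mem hx 3)) hy)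
    (a := 5) (by rw [← pow_mul, mul_comm, pow_mul, aa_5, one_pow]) HNStr.a2a.1 HNStr.a2a.2 (by norm_num) (by norm_num)
    (by norm_num) (sq_ne aa_5 aa_ne))

theorem a3a : APair (⊤ : Subgroup Cfsg.Spor.HN) (V w3w) aa := by
  have hx := cl_l (V w3w) aa
  have hy := cl_r (V w3w) aa
  exact apair_one (not_solvable_of (pow_mem hx 2) (mul_mem hx (pow_mem hy 3))
    (a := 5) (by rw [← pow_mul, mul_comm, pow_mul, w3_5, one_pow]) HNStr.b3a.2 HNStr.a3a (by norm_num) (by norm_num)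
    (by norm_num) (sq_ne w3_5 ne_w3))

/-- the square of `aa` -/
theorem apair_sq {x : Cfsg.Spor.HN} (h : APair (⊤ : Subgroup Cfsg.Spor.HN) x aa) :
    APair (⊤ : Subgroup Cfsg.Spor.HN) x (aa ^ 2) := by
  refine APair.of_zpow 1 3 ?_
  have e : (aa ^ 2) ^ (3 : ℤ) = aa := by
    have e1 : (aa ^ 2) ^ (3 : ℤ) = aa ^ 5 * aa := by
      rw [show (3 : ℤ) = ((3 : ℕ) : ℤ) by norm_num, zpow_natCast, ← pow_mul, ← pow_succ]
    rw [e1, aa_5, one_mul]
  rwa [zpow_one, e]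

theorem b12 : BPair 5 (⊤ : Subgroup Cfsg.Spor.HN) (V zw) (V w2w) :=
  bpair_isConj (pows w1_5 HNStr.conj_1 (j := 2) (by norm_num)) (pows w2_5 HNStr.conj_2 (j := 2) (by norm_num))
    (bpair_of_pow' HNStr.b12.1 HNStr.b12.2 (by norm_num))

theorem b13 : BPair 5 (⊤ : Subgroup Cfsg.Spor.HN) (V zw) (V w3w) :=
  bpair_isConj (pows w1_5 HNStr.conj_1 (j := 2) (by norm_num)) (IsConj.refl _)
    (bpair_of_pow' HNStr.b13.1 HNStr.b13.2 (by norm_num))

theorem b23 : BPair 5 (⊤ : Subgroup Cfsg.Spor.HN) (V w2w) (V w3w) :=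
  bpair_of_pow' HNStr.b23.1 HNStr.b23.2 (by norm_num)

theorem b1s : BPair 5 (⊤ : Subgroup Cfsg.Spor.HN) (V zw) (aa ^ 2) := by
  obtain ⟨g, h1, h2⟩ := HNStr.b1a
  exact bpair_isConj (pows w1_5 HNStr.conj_1 (j := 2) (by norm_num)) (IsConj.refl _) (bpair_of_pow h1 h2 (by norm_num))

theorem b2s : BPair 5 (⊤ : Subgroup Cfsg.Spor.HN) (V w2w) (aa ^ 2) :=
  bpair_of_pow' HNStr.b2a.1 HNStr.b2a.2 (by norm_num)

theorem conj_cube : IsConj (aa ^ 2) (aa ^ 3) := by
  rcases pows_real aa_5 HNStr.conj_a (j := 3) (by norm_num) with h | h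
  · exfalso
    -- the traces of `aa` and `aa ^ 3` differ
    have h1 := Cfsg.Agent.H536.T5.DataT.tr_conj h
    rw [Cfsg.Agent.H536.T5.DataT.tr_a, Cfsg.Agent.H536.T5.DataT.tr_a_3] at h1
    revert h1
    decide
  · exact h.symm

theorem b3s : BPair 5 (⊤ : Subgroup Cfsg.Spor.HN) (V w3w) (aa ^ 2) :=
  bpair_isConj (IsConj.refl _) conj_cube (bpair_of_pow' HNStr.b3a.1 HNStr.b3a.2 (by norm_num))

theorem bas : BPair 5 (⊤ : Subgroup Cfsg.Spor.HN) aa (aa ^ 2) := by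
  obtain ⟨g, h1, h2⟩ := HNStr.baa
  exact bpair_of_pow h1 h2 (by norm_num)

theorem b1a : BPair 5 (⊤ : Subgroup Cfsg.Spor.HN) (V zw) aa := by
  have := Cfsg.Agent.S1701.result.1
  exact bpair_of_prd Cfsg.Agent.H536.T5.DataB.prd_w1_a
theorem b2a : BPair 5 (⊤ : Subgroup Cfsg.Spor.HN) (V w2w) aa := by
  have := Cfsg.Agent.S1701.result.1
  exact bpair_of_prd Cfsg.Agent.H536.T5.DataB.prd_w2_a
theorem b3a : BPair 5 (⊤ : Subgroup Cfsg.Spor.HN) (V w3w) aa := by
  have := Cfsg.Agent.S1701.result.1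
  exact bpair_of_prd Cfsg.Agent.H536.T5.DataB.prd_w3_a

theorem h5p : Nat.Prime 5 := Nat.prime_five

/-- the pairs of different classes, except `aa, aa ^ 2` -/
theorem spair_ne {r s : Cfsg.Spor.HN} (hr : Five r) (hs : Five s) :
    r = s ∨ (r = aa ∧ s = aa ^ 2) ∨ (r = aa ^ 2 ∧ s = aa) ∨ SPair 5 (⊤ : Subgroup Cfsg.Spor.HN) r s := by
  have s12 := SPair.mk' h5p a12 b12
  have s13 := SPair.mk' h5p a13 b13
  have s23 := SPair.mk' h5p a23 b23
  have s1a := SPair.mk' h5p a1a b1a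
  have s2a := SPair.mk' h5p a2a b2a
  have s3a := SPair.mk' h5p a3a b3a
  have s1s := SPair.mk' h5p (apair_sq a1a) b1s
  have s2s := SPair.mk' h5p (apair_sq a2a) b2s
  have s3s := SPair.mk' h5p (apair_sq a3a) b3s
  rcases hr with rfl | rfl | rfl | rfl | rfl <;> rcases hs with rfl | rfl | rfl | rfl | rfl
  · exact Or.inl rfl
  · exact Or.inr (Or.inr (Or.inr s12))
  · exact Or.inr (Or.inr (Or.inr s13))
  · exact Or.inr (Or.inr (Or.inr s1a))
  · exact Or.inr (Or.inr (Or.inr s1s))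
  · exact Or.inr (Or.inr (Or.inr s12.symm))
  · exact Or.inl rfl
  · exact Or.inr (Or.inr (Or.inr s23))
  · exact Or.inr (Or.inr (Or.inr s2a))
  · exact Or.inr (Or.inr (Or.inr s2s))
  · exact Or.inr (Or.inr (Or.inr s13.symm))
  · exact Or.inr (Or.inr (Or.inr s23.symm))
  · exact Or.inl rfl
  · exact Or.inr (Or.inr (Or.inr s3a))
  · exact Or.inr (Or.inr (Or.inr s3s))
  · exact Or.inr (Or.inr (Or.inr s1a.symm))
  · exact Or.inr (Or.inr (Or.inr s2a.symm))
  · exact Or.inr (Or.inr (Or.inr s3a.symm))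
  · exact Or.inl rfl
  · exact Or.inr (Or.inl ⟨rfl, rfl⟩)
  · exact Or.inr (Or.inr (Or.inr s1s.symm))
  · exact Or.inr (Or.inr (Or.inr s2s.symm))
  · exact Or.inr (Or.inr (Or.inr s3s.symm))
  · exact Or.inr (Or.inr (Or.inl ⟨rfl, rfl⟩))
  · exact Or.inl rfl

end Cfsg.Agent.H513.SRowHN

namespace Cfsg.Agent.H513.SR

open Cfsg Subgroup Cfsg.Agent.H533.T5 Cfsg.Agent.H106.MT Cfsg.Agent.H132.S5 Cfsg.Agent.H513.SRowHN
open Cfsg.Agent.H536.T5 (aa aa_5)

variable {S : Type u} [Group S] [Finite S] [IsSimpleGroup S]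

/-- **`(HN, 5)`** -/
theorem srow_hn5 (B : SBox.{u} 5) (hna : ¬ IsMulCommutative S) (h : Spor.IsoHN S) : SRow 5 S := by
  have hs : IsSporadicGroup S ∨ Lie.IsoTits S := Or.inl (by unfold IsSporadicGroup; tauto)
  obtain ⟨e⟩ := h
  have htop : (⊤ : Subgroup Spor.HN) ≤ (⊤ : Subgroup S).map e.toMonoidHom := by
    rw [← MonoidHom.range_eq_map, MonoidHom.range_eq_top.2 e.surjective]
  refine SRow.of_inner hna (inner_range hs (by norm_num) (by norm_num)) fun x y hx hy => ?_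
  have hx' : orderOf (e x) = 5 := by rw [MulEquiv.orderOf_eq, hx]
  have hy' : orderOf (e y) = 5 := by rw [MulEquiv.orderOf_eq, hy]
  -- conjugacy back in `S`
  have back : ∀ {i : ℕ}, IsConj ((e x) ^ i) (e y) → IsConj (x ^ i) y := by
    intro i h
    obtain ⟨g, hg⟩ := isConj_iff.1 h
    refine isConj_iff.2 ⟨e.symm g, e.injective ?_⟩
    rw [map_mul, map_mul, map_inv, e.apply_symm_apply, map_pow, hg]
  obtain ⟨r, hr, hxr⟩ := exists_five hx'
  obtain ⟨s, hs', hys⟩ := exists_five hy'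
  rcases spair_ne hr hs' with h1 | ⟨h1, h2⟩ | ⟨h1, h2⟩ | h1
  · subst h1
    have h2 : IsConj x y := by
      have := back (i := 1) (by rw [pow_one]; exact hxr.trans hys.symm)
      rwa [pow_one] at this
    obtain ⟨t, ht⟩ := isConj_iff.1 h2.symm
    exact SPair.mk' Nat.prime_five (apair_of_isConj_zpow B.rs Nat.prime_five hna hx (s := t) (j := 1) (by rw [zpow_one, ht]))
      (bpair_of_isConj B.aa Nat.prime_five hna hx h2)
  · subst h1 h2
    have h2 : IsConj (x ^ 2) y := back ((hxr.pow 2).trans hys.symm)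
    obtain ⟨t, ht⟩ := isConj_iff.1 h2.symm
    have hx5 : x ^ 5 = 1 := by rw [← hx, pow_orderOf_eq_one]
    refine SPair.mk' Nat.prime_five (apair_of_isConj_zpow B.rs Nat.prime_five hna hx (s := t) (j := 3) ?_) ?_
    · rw [ht, show (3 : ℤ) = ((3 : ℕ) : ℤ) by norm_num, zpow_natCast, ← pow_mul, show 2 * 3 = 5 + 1 by norm_num, pow_add,
        hx5, one_mul, pow_one]
    · refine BPair.of_hom e.toMonoidHom htop ?_
      exact bpair_isConj hxr hys bas
  · subst h1 h2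
    have h2 : IsConj (x ^ 3) y := by
      refine back ((hxr.pow 3).trans ?_)
      have e1 : (aa ^ 2) ^ 3 = aa := by
        rw [← pow_mul, show 2 * 3 = 5 + 1 by norm_num, pow_add, aa_5, one_mul, pow_one]
      rw [e1]
      exact hys.symm
    obtain ⟨t, ht⟩ := isConj_iff.1 h2.symm
    have hx5 : x ^ 5 = 1 := by rw [← hx, pow_orderOf_eq_one]
    refine SPair.mk' Nat.prime_five (apair_of_isConj_zpow B.rs Nat.prime_five hna hx (s := t) (j := 2) ?_) ?_
    · rw [ht, show (2 : ℤ) = ((2 : ℕ) : ℤ) by norm_num, zpow_natCast, ← pow_mul, show 3 * 2 = 5 + 1 by norm_num, pow_add,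
        hx5, one_mul, pow_one]
    · refine BPair.of_hom e.toMonoidHom htop ?_
      exact bpair_isConj hxr hys bas.symm
  · refine SPair.of_hom Nat.prime_five e.toMonoidHom htop ?_
    exact spair_isConj hxr hys h1

end Cfsg.Agent.H513.SR
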