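import Cfsg.Agent.H513.SRowD
import Cfsg.Agent.H797.T5.HeM
import Cfsg.Agent.H199.S5.Opp

/-!
# S2274: the strong row `(He, 7)` (helper513, task 3626)

Every element of order 7 is conjugate to an element of `⟨P₁, P₂, Z⟩ ∖ ⟨P₂, Z⟩`, which acts on `⟨P₂, Z⟩` as a transvection
fixing `Z`; `H` normalises `⟨P₂, Z⟩` and moves `⟨Z⟩`.
-/

set_option autoImplicit false
set_option maxRecDepth 100000

universe u

namespace Cfsg.Agent.H513.SRowHe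

open Subgroup Cfsg
open Cfsg.Agent.FixBN.HeCent (P₁ P₂ Z P₁_pow P₂_pow Z_pow comm_P₂_Z comm_P₁_Z P₂_P₁ H_P₂ H_Z)
open Cfsg.Agent.FixBN.HeSB (P)
open Cfsg.Agent.H797.T5 Cfsg.Agent.H533.T5 Cfsg.Agent.H132.S5 Cfsg.Agent.H199.S5
open Cfsg.Agent.SporadicB.HePerm (wd)

/-- conjugate to an element which acts as a transvection fixing `Z` -/
def Good (x : Cfsg.Spor.He) : Prop := ∃ (g : Cfsg.Spor.He) (a b c : ℕ), ¬ 7 ∣ a ∧ g * x * g⁻¹ = P₁ ^ a * P₂ ^ b * Z ^ c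

theorem Good.conj {x g : Cfsg.Spor.He} (h : Good (g * x * g⁻¹)) : Good x := by
  obtain ⟨u, a, b, c, ha, e⟩ := h
  refine ⟨u * g, a, b, c, ha, ?_⟩
  rw [← e]
  group

theorem not_dvd_of_zpow {x : Cfsg.Spor.He} {k : ℕ} (hx : orderOf x = 7) {z g : Cfsg.Spor.He} (h : g * x * g⁻¹ = z ^ k)
    (hz : z ^ 7 = 1) : ¬ 7 ∣ k := by
  rintro ⟨j, rfl⟩
  rw [pow_mul, hz, one_pow] at h
  have h1 : x = 1 := by
    have : x = g⁻¹ * (g * x * g⁻¹) * g := by group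
    rw [this, h]; group
  rw [h1, orderOf_one] at hx
  norm_num at hx

/-- a conjugate of a power of `Z` is good -/
theorem good_Z {x g : Cfsg.Spor.He} {k : ℕ} (hx : orderOf x = 7) (h : g * x * g⁻¹ = Z ^ k) : Good x := by
  have h1 := HeSev.conj_of_chk (g := HeSev.g0) (s := 0) (k := 1) (by decide +kernel)
  rw [pow_zero, mul_one, pow_one] at h1
  refine ⟨(wd HeSev.g0)⁻¹ * g, k, 0, 0, not_dvd_of_zpow hx h Z_pow, ?_⟩
  have h2 : (wd HeSev.g0)⁻¹ * g * x * ((wd HeSev.g0)⁻¹ * g)⁻¹ = (wd HeSev.g0)⁻¹ * (g * x * g⁻¹) * wd HeSev.g0 := by group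
  rw [h2, h, ← h1, conj_pow]
  group

theorem good {x : Cfsg.Spor.He} (hx : orderOf x = 7) : Good x := by
  have h7 : Fact (Nat.Prime 7) := ⟨by norm_num⟩
  obtain ⟨g, hg⟩ := H533.T5.exists_conj_mem_of_index HeSev.index_P hx
  obtain ⟨a, b, c, e⟩ := HeSev.mem_NF.1 (HeSev.P_le hg)
  apply Good.conj (g := g)
  have hyo : orderOf (g * x * g⁻¹) = 7 := by rw [← MulAut.conj_apply, MulEquiv.orderOf_eq, hx]
  set y := g * x * g⁻¹ with hy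
  by_cases ha : 7 ∣ a
  · have ha1 : P₁ ^ a = 1 := by
      obtain ⟨k, rfl⟩ := ha
      rw [pow_mul, P₁_pow, one_pow]
    rw [ha1, one_mul] at e
    by_cases hb : 7 ∣ b
    · have hb1 : P₂ ^ b = 1 := by
        obtain ⟨k, rfl⟩ := hb
        rw [pow_mul, P₂_pow, one_pow]
      rw [hb1, one_mul] at e
      exact good_Z (g := 1) (k := c) hyo (by rw [e]; group)
    · obtain ⟨u, hu⟩ := Extra.conj_rep' P₂_P₁ HeSev.cZ2 HeSev.cZ1 Z_pow hb c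
      rw [← e] at hu
      obtain ⟨m, hm⟩ := mem_zpowers_iff.1 hu
      have h1 : (Cfsg.Agent.FixBN.HeCent.H * u) * y * (Cfsg.Agent.FixBN.HeCent.H * u)⁻¹ = Z ^ m := by
        have h2 : (Cfsg.Agent.FixBN.HeCent.H * u) * y * (Cfsg.Agent.FixBN.HeCent.H * u)⁻¹ =
            Cfsg.Agent.FixBN.HeCent.H * (u * y * u⁻¹) * Cfsg.Agent.FixBN.HeCent.H⁻¹ := by group
        rw [h2, ← hm, ← conj_zpow, H_P₂, mul_inv_cancel_right]
      obtain ⟨k, hk⟩ := HeM.npow_of_zpow Z_pow m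
      exact good_Z hyo (h1.trans hk)
  · exact ⟨1, a, b, c, ha, by rw [e]; group⟩

/-! ### The action on `⟨P₂, Z⟩` -/

theorem P₂_P₁_pow (a : ℕ) : P₂ * P₁ ^ a = P₁ ^ a * (P₂ * Z ^ a) := by
  induction a with
  | zero => rw [pow_zero, pow_zero, mul_one, one_mul]
  | succ a ih =>
    have h1 : Commute (Z ^ a) P₁ := (show Commute Z P₁ from HeSev.cZ1).pow_left a
    calc P₂ * P₁ ^ (a + 1) = P₂ * P₁ ^ a * P₁ := by rw [pow_succ, mul_assoc]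
      _ = P₁ ^ a * (P₂ * Z ^ a) * P₁ := by rw [ih]
      _ = P₁ ^ a * (P₂ * (Z ^ a * P₁)) := by group
      _ = P₁ ^ a * (P₂ * P₁ * Z ^ a) := by rw [h1.eq]; group
      _ = P₁ ^ a * (P₁ * (P₂ * Z) * Z ^ a) := by rw [P₂_P₁]
      _ = P₁ ^ (a + 1) * (P₂ * Z ^ (a + 1)) := by rw [pow_succ, pow_succ']; group

/-- the element acts on `P₂` -/
theorem act_P₂ (a b c : ℕ) : (P₁ ^ a * P₂ ^ b * Z ^ c) * P₂ * (P₁ ^ a * P₂ ^ b * Z ^ c)⁻¹ = P₂ * Z ^ (-(a : ℤ)) := by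
  have h2 : Commute (Z ^ c) P₂ := (show Commute Z P₂ from HeSev.cZ2).pow_left c
  have h3 : Commute (Z ^ (-(a : ℤ))) (P₁ ^ a) := ((show Commute Z P₁ from HeSev.cZ1).zpow_left _).pow_right a
  have h4 : P₁ ^ a * P₂ = P₂ * Z ^ (-(a : ℤ)) * P₁ ^ a := by
    have h5 := P₂_P₁_pow a
    have h6 : P₁ ^ a * P₂ = P₂ * P₁ ^ a * (Z ^ a)⁻¹ := by rw [h5]; group
    rw [h6, mul_assoc, mul_assoc]
    congr 1
    rw [h3.eq, zpow_neg, zpow_natCast]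
  rw [mul_inv_eq_iff_eq_mul]
  calc P₁ ^ a * P₂ ^ b * Z ^ c * P₂ = P₁ ^ a * P₂ ^ b * (Z ^ c * P₂) := by group
    _ = P₁ ^ a * P₂ ^ b * (P₂ * Z ^ c) := by rw [h2.eq]
    _ = P₁ ^ a * P₂ * P₂ ^ b * Z ^ c := by group
    _ = P₂ * Z ^ (-(a : ℤ)) * P₁ ^ a * P₂ ^ b * Z ^ c := by rw [h4]
    _ = _ := by group

theorem act_Z (a b c : ℕ) : (P₁ ^ a * P₂ ^ b * Z ^ c) * Z = Z * (P₁ ^ a * P₂ ^ b * Z ^ c) := by
  have h1 : Commute Z (P₁ ^ a) := (show Commute Z P₁ from HeSev.cZ1).pow_right a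
  have h2 : Commute Z (P₂ ^ b) := (show Commute Z P₂ from HeSev.cZ2).pow_right b
  exact ((h1.mul_right h2).mul_right ((Commute.refl Z).pow_right c)).symm.eq

/-- **All pairs.** -/
theorem spair_he {x y : Cfsg.Spor.He} (hx : orderOf x = 7) (hy : orderOf y = 7) :
    SPair 7 (⊤ : Subgroup Cfsg.Spor.He) x y := by
  have h7 : Fact (Nat.Prime 7) := ⟨by norm_num⟩
  obtain ⟨g, a, b, c, ha, e⟩ := good hx
  obtain ⟨k, a', b', c', ha', e'⟩ := good hy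
  set h := Cfsg.Agent.FixBN.HeCent.H with hh
  refine SPair.conj_left (mem_top g) (SPair.conj_right (mem_top (h * k)) ?_)
  have e2 : (h * k) * y * (h * k)⁻¹ = h * (k * y * k⁻¹) * h⁻¹ := by group
  rw [e2, e, e']
  have hZo : orderOf Z = 7 := orderOf_eq_prime Z_pow HeSev.Z_ne
  have hZ2 : Commute Z P₂ := HeSev.cZ2
  have hw1 : h * Z * h⁻¹ = P₂ ^ 6 * Z ^ 3 := by rw [H_Z, mul_inv_cancel_right]
  have hP : h * P₂ * h⁻¹ = Z := by rw [H_P₂, mul_inv_cancel_right]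
  have hw17 : (P₂ ^ 6 * Z ^ 3) ^ 7 = 1 := by rw [← hw1, conj_pow, Z_pow]; group
  have hww : Commute Z (P₂ ^ 6 * Z ^ 3) := (hZ2.pow_right 6).mul_right ((Commute.refl Z).pow_right 3)
  have hp7 : Prime (7 : ℤ) := by rw [Int.prime_iff_natAbs_prime]; norm_num
  refine (⟨hZo, hw17, hww.eq, ?_, ?_, act_Z a b c, ?_, ?_, ?_⟩ :
    Opp 7 Z (P₂ ^ 6 * Z ^ 3) (P₁ ^ a * P₂ ^ b * Z ^ c) (h * (P₁ ^ a' * P₂ ^ b' * Z ^ c') * h⁻¹)
      ((-(6 * a : ℤ) : ℤ) : ZMod 7) ((-(a' : ℤ) : ℤ) : ZMod 7)).spair (by norm_num)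
  · intro h0
    rw [ZMod.intCast_zmod_eq_zero_iff_dvd, dvd_neg] at h0
    rcases hp7.dvd_or_dvd (by exact_mod_cast h0 : (7 : ℤ) ∣ 6 * (a : ℤ)) with h1 | h1
    · norm_num at h1
    · exact ha (by exact_mod_cast h1)
  · intro h0
    rw [ZMod.intCast_zmod_eq_zero_iff_dvd, dvd_neg] at h0
    exact ha' (by exact_mod_cast h0)
  · -- the action of `x`
    rw [pw_intCast Z_pow]
    set X := P₁ ^ a * P₂ ^ b * Z ^ c with hX
    have h1 : X * (P₂ ^ 6 * Z ^ 3) * X⁻¹ = (X * P₂ * X⁻¹) ^ 6 * (X * Z * X⁻¹) ^ 3 := by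
      rw [conj_pow, conj_pow]; group
    have h2 : X * Z * X⁻¹ = Z := by rw [act_Z, mul_inv_cancel_right]
    have hc : Commute P₂ (Z ^ (-(a : ℤ))) := hZ2.symm.zpow_right _
    rw [h1, h2, act_P₂, hc.mul_pow, ← zpow_natCast (Z ^ (-(a : ℤ))) 6, ← zpow_mul]
    have h3 : Commute (Z ^ (-(a : ℤ) * (6 : ℕ))) (Z ^ 3) := ((Commute.refl Z).zpow_left _).pow_right 3
    rw [mul_assoc, h3.eq, ← mul_assoc]
    congr 2
    push_cast
    ring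
  · rw [← hw1]
    have h1 := act_Z a' b' c'
    calc h * (P₁ ^ a' * P₂ ^ b' * Z ^ c') * h⁻¹ * (h * Z * h⁻¹)
        = h * ((P₁ ^ a' * P₂ ^ b' * Z ^ c') * Z) * h⁻¹ := by group
      _ = h * (Z * (P₁ ^ a' * P₂ ^ b' * Z ^ c')) * h⁻¹ := by rw [h1]
      _ = _ := by group
  · rw [pw_intCast hw17, ← hw1]
    set Y := P₁ ^ a' * P₂ ^ b' * Z ^ c' with hY
    have h1 := act_P₂ a' b' c'
    calc h * Y * h⁻¹ * Z * (h * Y * h⁻¹)⁻¹ = h * Y * h⁻¹ * (h * P₂ * h⁻¹) * (h * Y * h⁻¹)⁻¹ := by rw [hP]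
      _ = h * (Y * P₂ * Y⁻¹) * h⁻¹ := by group
      _ = h * (P₂ * Z ^ (-(a' : ℤ))) * h⁻¹ := by rw [h1]
      _ = (h * P₂ * h⁻¹) * (h * Z ^ (-(a' : ℤ)) * h⁻¹) := by group
      _ = Z * (h * Z * h⁻¹) ^ (-(a' : ℤ)) := by rw [hP, conj_zpow]

end Cfsg.Agent.H513.SRowHe

namespace Cfsg.Agent.H513.SR

open Cfsg Subgroup Cfsg.Agent.H533.T5 Cfsg.Agent.H106.MT Cfsg.Agent.H132.S5

variable {S : Type u} [Group S] [Finite S] [IsSimpleGroup S]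

/-- **`(He, 7)`** -/
theorem srow_he7 (hna : ¬ IsMulCommutative S) (h : Spor.IsoHe S) : SRow 7 S := by
  have hs : IsSporadicGroup S ∨ Lie.IsoTits S := Or.inl (by unfold IsSporadicGroup; tauto)
  obtain ⟨e⟩ := h
  refine SRow.of_inner hna (inner_range hs (by norm_num) (by norm_num)) fun x y hx hy => ?_
  have h1 := Cfsg.Agent.H513.SRowHe.spair_he (x := e x) (y := e y) (by rw [MulEquiv.orderOf_eq, hx])
    (by rw [MulEquiv.orderOf_eq, hy])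
  refine SPair.of_hom (by norm_num) e.toMonoidHom ?_ h1
  rw [← MonoidHom.range_eq_map, MonoidHom.range_eq_top.2 e.surjective]

end Cfsg.Agent.H513.SR
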