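import Cfsg.Agent.H49.ThSeven
import Cfsg.Agent.ThType.CentSeven

/-!
# The centralizer of an element of order 7 of `Th`: its order (helper513)
-/

set_option autoImplicit false
set_option linter.unusedSectionVars false

namespace Cfsg.Agent.H513.AbThSeven

open Subgroup Cfsg.Agent.H49.ThSeven Cfsg.Agent.ThType.CentSeven Cfsg.Agent.ThType.CentSeven.Setup
open Cfsg.Agent.ThType.CentSevenAbs

variable {K : Type*} [Group K] [Finite K] {x a b c : K} (D : Dat x a b c)
include D

/-- `C(x)` modulo `x` -/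
theorem hyp : Hyp (Y x) (pr x ⟨a, memH.2 D.ax⟩) (pr x ⟨b, memH.2 D.bx⟩) (pr x ⟨c, memH.2 D.cx⟩) := by
  set aH : ↥(H x) := ⟨a, memH.2 D.ax⟩ with haH
  set bH : ↥(H x) := ⟨b, memH.2 D.bx⟩ with hbH
  set cH : ↥(H x) := ⟨c, memH.2 D.cx⟩ with hcH
  have aa : aH * aH = 1 := Subtype.ext (mul_self D.ha)
  have bb : bH * bH = 1 := Subtype.ext (mul_self D.hb)
  have cc : cH * cH = 1 := Subtype.ext (mul_self D.hc)
  have habc : aH = (bH * cH) * (bH * cH) := by
    have h1 : bH * cH = aH * (cH * bH) := Subtype.ext D.bc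
    have h2 : (bH * cH) * (bH * cH) = aH := by
      calc (bH * cH) * (bH * cH) = aH * (cH * bH) * (bH * cH) := by rw [← h1]
        _ = aH * (cH * (bH * bH) * cH) := by group
        _ = aH := by rw [bb, mul_one, cc, mul_one]
    exact h2.symm
  have ane : pr x aH ≠ 1 := by
    intro e
    obtain ⟨k, hk⟩ := pr_eq_one.1 e
    have hk' : a = x ^ k := hk
    have h1 : a ^ 7 = 1 := by
      rw [hk', ← zpow_natCast, ← zpow_mul, mul_comm, zpow_mul, zpow_natCast, ← D.hx, pow_orderOf_eq_one, one_zpow]
    have h2 := orderOf_dvd_of_pow_eq_one h1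
    rw [D.ha] at h2
    revert h2
    norm_num
  have e1 : pr x bH * pr x bH = 1 := by rw [← map_mul, bb, map_one]
  have e2 : pr x cH * pr x cH = 1 := by rw [← map_mul, cc, map_one]
  have e3 : pr x aH = (pr x bH * pr x cH) * (pr x bH * pr x cH) := by
    rw [← map_mul, ← map_mul, ← habc]
  have e4 : pr x aH * pr x aH = 1 := by rw [← map_mul, aa, map_one]
  have hclo := card_closure e1 e2 e3 e4 ane
  -- the centralizer of `a`
  set M : Subgroup ↥(H x) := centralizer ({aH} : Set ↥(H x)) with hM
  have hMcard : Nat.card ↥M ∣ 56 := by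
    have h1 := D.card (M.map (H x).subtype) ?_
    · rwa [card_map_of_injective (subtype_injective _)] at h1
    · rintro _ ⟨y, hy, rfl⟩
      exact ⟨congrArg Subtype.val (mem_centralizer_singleton_iff.1 hy), memH.1 y.2⟩
  have hZM : zpowers (sH x) ≤ M := by
    rw [zpowers_le, hM, mem_centralizer_singleton_iff]
    exact (sH_central aH).symm
  have hZcard : Nat.card ↥(zpowers (sH x)) = 7 := by
    rw [Nat.card_zpowers, ← D.hx, ← Subgroup.orderOf_coe]
    rfl
  have hmap : Nat.card ↥(M.map (pr x)) * 7 = Nat.card ↥M := by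
    have h1 := card_mul_index ((pr x).subgroupMap M).ker
    have h2 : Nat.card ↥((pr x).subgroupMap M).ker = 7 := by
      rw [← hZcard]
      refine Nat.card_congr
        { toFun := fun y => ⟨((y : ↥M) : ↥(H x)), ?_⟩
          invFun := fun y => ⟨⟨y, hZM y.2⟩, ?_⟩
          left_inv := fun y => rfl
          right_inv := fun y => rfl }
      · have h3 : pr x ((y : ↥M) : ↥(H x)) = 1 := congrArg Subtype.val (MonoidHom.mem_ker.1 y.2)
        exact (QuotientGroup.eq_one_iff _).1 h3
      · rw [MonoidHom.mem_ker]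
        exact Subtype.ext ((QuotientGroup.eq_one_iff (y : ↥(H x))).2 y.2)
    rw [h2, index_ker, MonoidHom.range_eq_top.2 ((pr x).subgroupMap_surjective M), card_top] at h1
    rw [← h1, mul_comm]
  have hcent : centralizer ({pr x aH} : Set (Y x)) = M.map (pr x) := by
    apply le_antisymm
    · intro y hy
      obtain ⟨y, rfl⟩ := pr_surj x y
      refine ⟨y, ?_, rfl⟩
      rw [mem_centralizer_singleton_iff, ← map_mul, ← map_mul] at hy
      have h1 : pr x (y * aH * y⁻¹ * aH⁻¹) = 1 := by
        rw [map_mul, map_mul, hy, ← map_mul, ← map_mul]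
        have : aH * y * y⁻¹ * aH⁻¹ = 1 := by group
        rw [this, map_one]
      obtain ⟨k, hk⟩ := pr_eq_one.1 h1
      have hk' : (y : K) * a * (y : K)⁻¹ * a⁻¹ = x ^ k := hk
      have hk2 : (y : K) * a * (y : K)⁻¹ = x ^ k * a := by rw [← hk']; group
      have hsa : Commute a (x ^ k) := (show Commute a x from D.ax).zpow_right k
      have aa' := mul_self D.ha
      have h2 : x ^ k * x ^ k = 1 := by
        have e1 : ((y : K) * a * (y : K)⁻¹) * ((y : K) * a * (y : K)⁻¹) = 1 := by
          calc ((y : K) * a * (y : K)⁻¹) * ((y : K) * a * (y : K)⁻¹) = y * (a * a) * (y : K)⁻¹ := by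
                group
            _ = 1 := by rw [aa']; group
        rw [hk2] at e1
        calc x ^ k * x ^ k = x ^ k * x ^ k * (a * a) := by rw [aa', mul_one]
          _ = x ^ k * (x ^ k * a) * a := by group
          _ = x ^ k * (a * x ^ k) * a := by rw [hsa.eq]
          _ = x ^ k * a * (x ^ k * a) := by group
          _ = 1 := e1
      have h3 : x ^ k = 1 := by
        have h4 : (x ^ k) ^ 7 = 1 := by
          rw [← zpow_natCast, ← zpow_mul, mul_comm, zpow_mul, zpow_natCast, ← D.hx, pow_orderOf_eq_one, one_zpow]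
        calc x ^ k = (x ^ k) ^ 7 * ((x ^ k * x ^ k) ^ 3)⁻¹ := by group
          _ = 1 := by rw [h4, h2]; group
      rw [h3, one_mul] at hk2
      refine mem_centralizer_singleton_iff.2 ?_
      apply Subtype.ext
      change (y : K) * a = a * y
      calc (y : K) * a = ((y : K) * a * (y : K)⁻¹) * y := by group
        _ = a * y := by rw [hk2]
    · rintro _ ⟨y, hy, rfl⟩
      rw [mem_centralizer_singleton_iff, ← map_mul, ← map_mul]
      exact congrArg _ (mem_centralizer_singleton_iff.1 hy)
  refine ⟨e1, e2, e3, e4, ane, ?_, ?_, ?_⟩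
  · have h1 : closure ({pr x bH, pr x cH} : Set (Y x)) ≤ centralizer ({pr x aH} : Set (Y x)) := by
      rw [closure_le]
      rintro y (rfl | rfl)
      · refine mem_centralizer_singleton_iff.2 ?_
        rw [← map_mul, ← map_mul]
        exact congrArg _ (Subtype.ext D.ab.symm)
      · refine mem_centralizer_singleton_iff.2 ?_
        rw [← map_mul, ← map_mul]
        exact congrArg _ (Subtype.ext D.ac.symm)
    have h2 := card_dvd_of_le h1
    rw [hclo] at h2
    have h3 : Nat.card ↥(centralizer ({pr x aH} : Set (Y x))) ∣ 8 := by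
      rw [hcent]
      have h4 : Nat.card ↥(M.map (pr x)) * 7 ∣ 8 * 7 := by
        rw [hmap]
        exact hMcard
      exact Nat.dvd_of_mul_dvd_mul_right (by norm_num) h4
    exact Nat.dvd_antisymm h3 h2
  · obtain ⟨g, hg, hgx⟩ := D.pair b D.hb D.bx
    refine ⟨(pr x ⟨g, memH.2 hgx⟩)⁻¹, ?_⟩
    rw [← map_inv, ← map_inv, ← map_mul, ← map_mul]
    congr 1
    apply Subtype.ext
    change g⁻¹ * a * g⁻¹⁻¹ = b
    rw [← hg]
    group
  · obtain ⟨g, hg, hgx⟩ := D.pair c D.hc D.cx
    refine ⟨(pr x ⟨g, memH.2 hgx⟩)⁻¹, ?_⟩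
    rw [← map_inv, ← map_inv, ← map_mul, ← map_mul]
    congr 1
    apply Subtype.ext
    change g⁻¹ * a * g⁻¹⁻¹ = c
    rw [← hg]
    group

theorem card_cases : Nat.card ↥(centralizer ({x} : Set K)) = 7 * 168 ∨
    Nat.card ↥(centralizer ({x} : Set K)) = 7 * 360 := by
  have hZcard : Nat.card ↥(zpowers (sH x)) = 7 := by
    rw [Nat.card_zpowers, ← D.hx, ← Subgroup.orderOf_coe]
    rfl
  have h1 : Nat.card ↥(centralizer ({x} : Set K)) = Nat.card (Y x) * 7 := by
    rw [card_eq_card_quotient_mul_card_subgroup (zpowers (sH x)), hZcard]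
  rcases (hyp D).card_eq with h2 | h2
  · left; rw [h1, h2]
  · right; rw [h1, h2]

/-- all the elements of order 7 -/
theorem card_cases' {y : K} (hy : orderOf y = 7) : Nat.card ↥(centralizer ({y} : Set K)) = 7 * 168 ∨
    Nat.card ↥(centralizer ({y} : Set K)) = 7 * 360 := by
  obtain ⟨g, hg⟩ := D.one y hy
  have h1 : Nat.card ↥(centralizer ({y} : Set K)) = Nat.card ↥(centralizer ({x} : Set K)) := by
    refine Nat.card_congr
      { toFun := fun v => ⟨g * v * g⁻¹, ?_⟩
        invFun := fun v => ⟨g⁻¹ * v * g, ?_⟩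
        left_inv := fun v => Subtype.ext (by change g⁻¹ * (g * v * g⁻¹) * g = v; group)
        right_inv := fun v => Subtype.ext (by change g * (g⁻¹ * v * g) * g⁻¹ = v; group) }
    · have h2 : (v : K) * y = y * v := mem_centralizer_singleton_iff.1 v.2
      rw [mem_centralizer_singleton_iff, ← hg]
      calc g * v * g⁻¹ * (g * y * g⁻¹) = g * (v * y) * g⁻¹ := by group
        _ = g * (y * v) * g⁻¹ := by rw [h2]
        _ = _ := by group
    · have h2 : (v : K) * x = x * v := mem_centralizer_singleton_iff.1 v.2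
      rw [mem_centralizer_singleton_iff]
      have h3 : y = g⁻¹ * x * g := by rw [← hg]; group
      rw [h3]
      calc g⁻¹ * v * g * (g⁻¹ * x * g) = g⁻¹ * (v * x) * g := by group
        _ = g⁻¹ * (x * v) * g := by rw [h2]
        _ = _ := by group
  rw [h1]
  exact card_cases D

end Cfsg.Agent.H513.AbThSeven
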