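import Cfsg.Agent.H513.NilpTools
import Cfsg.Agent.H568.OddPair
import Cfsg.Agent.OrdDiv.Core
import Cfsg.Agent.S0205

/-!
# Centralizers and normalizers of subgroups of prime order: arithmetic (helper513)

`x` of prime order `r`, `NN x` the normalizer of `⟨x⟩`.

* `exists_norm`, `adm_norm` : `|NN x| = |C(x)| e`, `e ∣ r - 1`, and the Sylow congruence;
* `norm_le` : `NN x ≤ NN w` if `⟨w⟩` is a normal subgroup of `C(x)` of prime order;
* `norm_le_of_odd` : the same from the odd order theorem, under an arithmetic condition on `|C(x)|`.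
-/

set_option autoImplicit false
set_option linter.unusedSectionVars false

namespace Cfsg.Agent.H513.CentTools

open Subgroup Cfsg.Agent.H513.NilpTools

universe u

section Norm

variable {G : Type u} [Group G]

/-- the normalizer of `⟨x⟩` -/
abbrev NN (x : G) : Subgroup G := normalizer (zpowers x : Set G)

theorem cent_le_NN (x : G) : centralizer ({x} : Set G) ≤ NN x := by
  intro g hg
  have hgc : g * x = x * g := mem_centralizer_singleton_iff.1 hg
  have key : ∀ k : ℤ, g * x ^ k * g⁻¹ = x ^ k := fun k => by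
    rw [((show Commute g x from hgc).zpow_right k).eq, mul_inv_cancel_right]
  rw [mem_normalizer_iff]
  intro h
  constructor
  · intro hh
    obtain ⟨k, rfl⟩ := mem_zpowers_iff.1 hh
    rw [key]
    exact hh
  · intro hh
    obtain ⟨k, hk⟩ := mem_zpowers_iff.1 hh
    have h1 : h = x ^ k := by
      have h2 := key k
      rw [hk] at h2 ⊢
      calc h = g⁻¹ * (g * h * g⁻¹) * g := by group
        _ = g⁻¹ * (g * (g * h * g⁻¹) * g⁻¹) * g := by rw [h2]
        _ = _ := by group
    rw [h1]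
    exact zpow_mem (mem_zpowers x) k

variable [Finite G]

theorem exists_norm {x : G} {s : ℕ} (hs : s.Prime) (hx : orderOf x = s) (hsq : ¬ s * s ∣ Nat.card G) :
    ∃ e, e ∣ s - 1 ∧ Nat.card ↥(NN x) = Nat.card ↥(centralizer ({x} : Set G)) * e ∧
      Nat.card G / Nat.card ↥(NN x) % s = 1 % s := by
  have : Fact s.Prime := ⟨hs⟩
  have hker : Nat.card (normalizerMonoidHom (zpowers x)).ker = Nat.card ↥(centralizer ({x} : Set G)) := by
    rw [normalizerMonoidHom_ker]
    have h1 : centralizer ((zpowers x : Subgroup G) : Set G) = centralizer ({x} : Set G) := by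
      apply le_antisymm
      · intro g hg
        rw [mem_centralizer_singleton_iff]
        exact ((mem_centralizer_iff.1 hg) x (mem_zpowers x)).symm
      · intro g hg
        rw [mem_centralizer_singleton_iff] at hg
        rw [mem_centralizer_iff]
        rintro y hy
        obtain ⟨k, rfl⟩ := mem_zpowers_iff.1 hy
        exact ((show Commute g x from hg).zpow_right k).eq.symm
    rw [h1]
    exact Nat.card_congr (Subgroup.subgroupOfEquivOfLe (cent_le_NN x)).toEquiv
  have h1 := Subgroup.card_mul_index (normalizerMonoidHom (zpowers x)).ker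
  rw [hker] at h1
  refine ⟨(normalizerMonoidHom (zpowers x)).ker.index, ?_, h1.symm, ?_⟩
  · rw [Subgroup.index_ker]
    refine (Subgroup.card_subgroup_dvd_card _).trans ?_
    rw [IsCyclic.card_mulAut, Nat.card_zpowers, hx, Nat.totient_prime hs]
  · have h2 := H568.OddPair.index_mod (l := s) (by rw [pow_two]; exact hsq) hx
    rw [← Subgroup.card_mul_index (NN x), Nat.mul_div_cancel_left _ Nat.card_pos]
    exact h2

theorem exists_norm_two [IsSimpleGroup G] {x : G} {s : ℕ} (hs : s.Prime) (hx : orderOf x = s)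
    (hsq : ¬ s * s ∣ Nat.card G) (hne : Nat.card G ≠ s) :
    ∃ e, e ∣ s - 1 ∧ 2 ≤ e ∧ Nat.card ↥(NN x) = Nat.card ↥(centralizer ({x} : Set G)) * e ∧
      Nat.card G / Nat.card ↥(NN x) % s = 1 % s := by
  obtain ⟨e, he, hN, hmod⟩ := exists_norm hs hx hsq
  refine ⟨e, he, ?_, hN, hmod⟩
  by_contra hlt
  have : Fact s.Prime := ⟨hs⟩
  have he0 : e ≠ 0 := by
    rintro rfl
    rw [mul_zero] at hN
    exact Nat.card_pos.ne' hN
  have he1 : e = 1 := by omega
  rw [he1, mul_one] at hN
  have h2 : NN x ≤ centralizer ({x} : Set G) := (eq_of_le_of_card_ge (cent_le_NN x) hN.le).ge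
  have hcz : Nat.card ↥(zpowers x) = s := by rw [Nat.card_zpowers, hx]
  have hidx : ¬ s ∣ (zpowers x).index := by
    intro h
    apply hsq
    rw [← Subgroup.card_mul_index (zpowers x), hcz]
    exact Nat.mul_dvd_mul_left s h
  have hP : IsPGroup s ↥(zpowers x) := IsPGroup.of_card (n := 1) (by rw [hcz, pow_one])
  let P : Sylow s G := hP.toSylow hidx
  have hPx : (P : Subgroup G) = zpowers x := rfl
  have h3 : normalizer ((P : Subgroup G) : Set G) ≤ centralizer ((P : Subgroup G) : Set G) := by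
    intro g hg
    have hg' := h2 hg
    rw [mem_centralizer_iff]
    intro y hy
    obtain ⟨k, rfl⟩ := mem_zpowers_iff.1 (show y ∈ zpowers x from hy)
    exact ((show Commute g x from mem_centralizer_singleton_iff.1 hg').zpow_right k).eq.symm
  have h4 := MonoidHom.ker_transferSylow_isComplement' P h3
  rcases (inferInstance : (MonoidHom.transferSylow P h3).ker.Normal).eq_bot_or_eq_top with h5 | h5
  · rw [h5] at h4
    have h6 : (P : Subgroup G) = ⊤ := Subgroup.isComplement'_bot_left.1 h4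
    apply hne
    rw [← Subgroup.card_top (G := G), ← h6, hPx, hcz]
  · rw [h5] at h4
    have h6 : (P : Subgroup G) = ⊥ := Subgroup.isComplement'_top_left.1 h4
    rw [hPx] at h6
    rw [h6, Subgroup.card_bot] at hcz
    exact hs.one_lt.ne hcz

/-- the order of `NN x` depends only on the order of `x` -/
theorem card_NN_eq {x y : G} {s : ℕ} (hs : s.Prime) (hx : orderOf x = s) (hy : orderOf y = s)
    (hsq : ¬ s * s ∣ Nat.card G) : Nat.card ↥(NN x) = Nat.card ↥(NN y) := by
  have : Fact s.Prime := ⟨hs⟩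
  have key : ∀ z : G, orderOf z = s → (NN z).index = Nat.card (Sylow s G) := by
    intro z hz
    have hcz : Nat.card ↥(zpowers z) = s := by rw [Nat.card_zpowers, hz]
    have hidx : ¬ s ∣ (zpowers z).index := by
      intro h
      apply hsq
      rw [← Subgroup.card_mul_index (zpowers z), hcz]
      exact Nat.mul_dvd_mul_left s h
    have hP : IsPGroup s ↥(zpowers z) := IsPGroup.of_card (n := 1) (by rw [hcz, pow_one])
    let P : Sylow s G := hP.toSylow hidx
    rw [Sylow.card_eq_index_normalizer P]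
    rfl
  have h1 := Subgroup.card_mul_index (NN x)
  have h2 := Subgroup.card_mul_index (NN y)
  rw [key x hx] at h1
  rw [key y hy, ← h1] at h2
  exact (Nat.eq_of_mul_eq_mul_right Nat.card_pos h2).symm

theorem dvd_cent {x w : G} {r : ℕ} (hx : orderOf x = r) (hxw : w * x = x * w) :
    r ∣ Nat.card ↥(centralizer ({w} : Set G)) := by
  have h1 := orderOf_dvd_natCard (⟨x, mem_centralizer_singleton_iff.2 hxw.symm⟩ : ↥(centralizer ({w} : Set G)))
  rwa [Subgroup.orderOf_mk, hx] at h1

theorem exists_of_dvd_cent {x : G} {r : ℕ} (hr : r.Prime) (h : r ∣ Nat.card ↥(centralizer ({x} : Set G))) :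
    ∃ w : G, orderOf w = r ∧ w * x = x * w := by
  have : Fact r.Prime := ⟨hr⟩
  obtain ⟨w, hw⟩ := exists_prime_orderOf_dvd_card' r h
  exact ⟨w, by rw [Subgroup.orderOf_coe, hw], mem_centralizer_singleton_iff.1 w.2⟩

/-- **the inclusion of normalizers** -/
theorem norm_le {x w : G} {l : ℕ} (hl : l.Prime) (hw : orderOf w = l) (hxw : w * x = x * w)
    (hl2 : ¬ l * l ∣ Nat.card ↥(centralizer ({x} : Set G)))
    (hn : (zpowers (⟨w, mem_centralizer_singleton_iff.2 hxw⟩ : ↥(centralizer ({x} : Set G)))).Normal) :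
    NN x ≤ NN w := by
  have hwC : w ∈ centralizer ({x} : Set G) := mem_centralizer_singleton_iff.2 hxw
  have huniq : ∀ v : G, v ∈ centralizer ({x} : Set G) → orderOf v = l → v ∈ zpowers w := by
    intro v hv hvo
    set C := centralizer ({x} : Set G)
    set Z := zpowers (⟨w, hwC⟩ : ↥C) with hZ
    have hZc : Nat.card Z = l := by rw [Nat.card_zpowers, Subgroup.orderOf_mk, hw]
    have hidx : ¬ l ∣ Z.index := by
      intro h
      apply hl2
      rw [← Subgroup.card_mul_index Z, hZc]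
      exact Nat.mul_dvd_mul_left l h
    have hv' : (⟨v, hv⟩ : ↥C) ∈ Z := by
      rw [← QuotientGroup.eq_one_iff]
      set y : ↥C ⧸ Z := QuotientGroup.mk (⟨v, hv⟩ : ↥C) with hy
      have h1 : y ^ l = 1 := by
        rw [hy, ← QuotientGroup.mk_pow]
        have : (⟨v, hv⟩ : ↥C) ^ l = 1 := by
          rw [← hvo]
          exact Subtype.ext (by simp [pow_orderOf_eq_one])
        rw [this]
        rfl
      have h2 : orderOf y ∣ l := orderOf_dvd_of_pow_eq_one h1
      rcases (Nat.dvd_prime hl).1 h2 with h3 | h3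
      · rwa [orderOf_eq_one_iff] at h3
      · exfalso
        apply hidx
        rw [← h3, Subgroup.index]
        exact orderOf_dvd_natCard y
    obtain ⟨i, hi⟩ := hv'
    refine ⟨i, ?_⟩
    exact congrArg Subtype.val hi
  have hcent : ∀ g ∈ NN x, ∀ v ∈ centralizer ({x} : Set G), g * v * g⁻¹ ∈ centralizer ({x} : Set G) := by
    intro g hg v hv
    rw [mem_centralizer_singleton_iff] at hv ⊢
    have h1 : g⁻¹ * x * g ∈ zpowers x := by
      have := (mem_normalizer_iff.1 (inv_mem hg) x).1 (mem_zpowers x)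
      rwa [inv_inv] at this
    obtain ⟨i, hi⟩ := h1
    have hi' : x ^ i = g⁻¹ * x * g := hi
    have h2 : v * (g⁻¹ * x * g) = (g⁻¹ * x * g) * v := by
      rw [← hi']
      exact ((show Commute v x from hv).zpow_right i).eq
    calc g * v * g⁻¹ * x = g * (v * (g⁻¹ * x * g)) * g⁻¹ := by group
      _ = g * ((g⁻¹ * x * g) * v) * g⁻¹ := by rw [h2]
      _ = x * (g * v * g⁻¹) := by group
  have key : ∀ g ∈ NN x, ∀ y ∈ zpowers w, g * y * g⁻¹ ∈ zpowers w := by
    intro g hg y hy
    obtain ⟨i, rfl⟩ := hy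
    have h1 : g * w * g⁻¹ ∈ zpowers w := huniq _ (hcent g hg w hwC)
      (by rw [← hw]; exact MulEquiv.orderOf_eq (MulAut.conj g) w)
    show g * w ^ i * g⁻¹ ∈ zpowers w
    rw [← conj_zpow]
    exact zpow_mem h1 i
  intro g hg
  rw [mem_normalizer_iff]
  intro y
  refine ⟨fun hy => key g hg y hy, fun hy => ?_⟩
  have h1 := key g⁻¹ (inv_mem hg) _ hy
  have h2 : g⁻¹ * (g * y * g⁻¹) * g⁻¹⁻¹ = y := by group
  rwa [h2] at h1

/-- the arithmetic condition -/
def goodB (l : ℕ) (L : List (ℕ × ℕ)) : Bool :=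
  L.all fun x => Nat.beq x.1 l || (List.range x.2).all fun k => !(Nat.beq ((x.1 ^ (k + 1) - 1) % l) 0)

theorem not_dvd_of_good {l : ℕ} {L : List (ℕ × ℕ)} {N : ℕ} (hv : OrdDiv.valid L N = true) (hg : goodB l L = true)
    {r k : ℕ} (hr : r.Prime) (hrl : r ≠ l) (hk : k ≠ 0) (hd : r ^ k ∣ N) : ¬ l ∣ r ^ k - 1 := by
  obtain ⟨e, he, hke⟩ := OrdDiv.exists_pair hv hr (Nat.pos_of_ne_zero hk) hd
  have h1 := List.all_eq_true.1 hg _ he
  have h0 : Nat.beq r l = false := by
    rw [← Bool.not_eq_true, Nat.beq_eq]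
    exact hrl
  rw [Bool.or_eq_true] at h1
  rcases h1 with h1 | h1
  · rw [h0] at h1
    exact absurd h1 (by decide)
  · have h2 := List.all_eq_true.1 h1 (k - 1) (List.mem_range.2 (by show k - 1 < e; omega))
    rw [Nat.sub_add_cancel (Nat.pos_of_ne_zero hk)] at h2
    intro h3
    rw [Nat.mod_eq_zero_of_dvd h3] at h2
    exact absurd h2 (by decide)

/-- **`NN x ≤ NN w` if `C(x)` has odd order** -/
theorem norm_le_of_odd {x w : G} {l N : ℕ} {L : List (ℕ × ℕ)} (hl : l.Prime) (hw : orderOf w = l)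
    (hxw : w * x = x * w) (h2 : ¬ 2 ∣ Nat.card ↥(centralizer ({x} : Set G)))
    (hd : Nat.card ↥(centralizer ({x} : Set G)) ∣ N) (hv : OrdDiv.valid L N = true) (hg : goodB l L = true)
    (hl2 : ¬ l * l ∣ N) : NN x ≤ NN w := by
  have : Fact l.Prime := ⟨hl⟩
  have hodd : Odd (Nat.card ↥(centralizer ({x} : Set G))) := by
    rw [← Nat.not_even_iff_odd, even_iff_two_dvd]
    exact h2
  have hsol : Group.IsSolvable ↥(centralizer ({x} : Set G)) := S0205.result hodd
  refine norm_le hl hw hxw (fun h => hl2 (h.trans hd)) ?_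
  refine H568.OddPair.zpowers_normal (l := l) (fun h => hl2 ?_) (fun r k hr hrl hk hrk =>
    not_dvd_of_good hv hg hr hrl hk (hrk.trans hd)) ?_
  · rw [← pow_two]
    exact h.trans hd
  · rw [Subgroup.orderOf_mk, hw]

end Norm

/-! ### The check -/

/-- the Sylow congruence -/
def admN (N r m e : ℕ) : Bool := Nat.beq (N % (r * m * e)) 0 && Nat.beq (N / (r * m * e) % r) 1

/-- check `Q m e` for all admissible `m ∣ prodL L`, `e ∣ r - 1`, `lo ≤ e` -/
def chkN (lo N r : ℕ) (L : List (ℕ × ℕ)) (Q : ℕ → ℕ → Bool) : Bool :=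
  allDiv L 1 fun m => allLe (r - 1) fun e =>
    !(Nat.ble lo e && (Nat.beq ((r - 1) % e) 0 && admN N r m e)) || Q m e

theorem chkN_spec {lo N r : ℕ} {L : List (ℕ × ℕ)} {Q : ℕ → ℕ → Bool} (hr : r.Prime) (hL : ∀ q ∈ L, q.1.Prime)
    (h : chkN lo N r L Q = true) {m e : ℕ} (hm : m ∣ prodL L) (he : e ∣ r - 1) (hlo : lo ≤ e)
    (hd : r * m * e ∣ N) (hmod : N / (r * m * e) % r = 1 % r) : Q m e = true := by
  have h1 := allDiv_spec hL h hm
  rw [one_mul] at h1
  have hr1 : 0 < r - 1 := by have := hr.two_le; omega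
  have h2 := allLe_iff h1 e (Nat.le_of_dvd hr1 he)
  have e1 : Nat.ble lo e = true := Nat.ble_eq_true_of_le hlo
  have e2 : Nat.beq ((r - 1) % e) 0 = true := by rw [Nat.mod_eq_zero_of_dvd he]; rfl
  have e3 : admN N r m e = true := by
    unfold admN
    rw [Nat.mod_eq_zero_of_dvd hd, hmod, Nat.mod_eq_of_lt hr.one_lt]
    rfl
  rw [e1, e2, e3] at h2
  simpa using h2

section Adm

variable {G : Type u} [Group G] [Finite G]

/-- **the data of `x` of order `r`** (simple group) -/
theorem chk_norm [IsSimpleGroup G] {x : G} {r n : ℕ} (hr : r.Prime) (hx : orderOf x = r)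
    (hn : Nat.card G = n) (hsq : ¬ r * r ∣ n) (hne : n ≠ r) (L : List (ℕ × ℕ)) (hL : ∀ q ∈ L, q.1.Prime)
    (hd : Nat.card ↥(centralizer ({x} : Set G)) ∣ r * prodL L) {Q : ℕ → ℕ → Bool} (h : chkN 2 n r L Q = true) :
    ∃ m e, Nat.card ↥(centralizer ({x} : Set G)) = r * m ∧ Nat.card ↥(NN x) = r * m * e ∧ e ∣ r - 1 ∧ Q m e = true := by
  obtain ⟨e, he, h2, h3, h4⟩ := exists_norm_two hr hx (by rw [hn]; exact hsq) (by rw [hn]; exact hne)
  obtain ⟨m, hm⟩ := dvd_cent (x := x) (w := x) hx rfl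
  have hmd : m ∣ prodL L := by
    rw [hm] at hd
    exact Nat.dvd_of_mul_dvd_mul_left hr.pos hd
  rw [hm] at h3
  refine ⟨m, e, hm, h3, he, chkN_spec hr hL h hmd he h2 ?_ ?_⟩
  · rw [← h3, ← hn]
    exact card_subgroup_dvd_card _
  · rw [← h3, ← hn]
    exact h4

/-- **the data of `x` of order `r`** (any group) -/
theorem chk_norm' {x : G} {r n : ℕ} (hr : r.Prime) (hx : orderOf x = r)
    (hn : Nat.card G = n) (hsq : ¬ r * r ∣ n) (L : List (ℕ × ℕ)) (hL : ∀ q ∈ L, q.1.Prime)
    (hd : Nat.card ↥(centralizer ({x} : Set G)) ∣ r * prodL L) {Q : ℕ → ℕ → Bool} (h : chkN 1 n r L Q = true) :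
    ∃ m e, Nat.card ↥(centralizer ({x} : Set G)) = r * m ∧ Nat.card ↥(NN x) = r * m * e ∧ e ∣ r - 1 ∧ Q m e = true := by
  obtain ⟨e, he, h3, h4⟩ := exists_norm hr hx (by rw [hn]; exact hsq)
  obtain ⟨m, hm⟩ := dvd_cent (x := x) (w := x) hx rfl
  have hmd : m ∣ prodL L := by
    rw [hm] at hd
    exact Nat.dvd_of_mul_dvd_mul_left hr.pos hd
  rw [hm] at h3
  have he1 : 1 ≤ e := Nat.pos_of_dvd_of_pos he (by have := hr.two_le; omega)
  refine ⟨m, e, hm, h3, he, chkN_spec hr hL h hmd he he1 ?_ ?_⟩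
  · rw [← h3, ← hn]
    exact card_subgroup_dvd_card _
  · rw [← h3, ← hn]
    exact h4

end Adm

end Cfsg.Agent.H513.CentTools
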