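import Cfsg.Agent.H513.NilpTh
import Cfsg.Agent.H513.AbTools
import Cfsg.Agent.H513.AbThSeven
import Cfsg.Agent.H49.ThSevenDat

/-!
# Row Th of S2501: `|A| ^ 3 < |Th|` for the abelian subgroups `A` (helper513)

The centralizers of the elements of order 13, 19, 31 have odd order; Sylow arithmetic, the odd order theorem and the
divisibility of the orders of the normalizers (`CentTools.norm_le_of_odd`).
-/

set_option autoImplicit false
set_option maxRecDepth 100000
set_option linter.unusedSectionVars false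

namespace Cfsg.Agent.H513.AbTh

open Subgroup Cfsg
open Cfsg.Agent.H498.Ab
open Cfsg.Agent.H513.NilpTools Cfsg.Agent.H513.CentTools Cfsg.Agent.H513.AbTools Cfsg.Agent.H513.NilpTh

local notation "NT" => 90745943887872000

theorem simple : IsSimpleGroup Spor.Th := Cfsg.Agent.Th.Main1700.isTh.1

theorem cent_seven {x : Spor.Th} (hx : orderOf x = 7) : Nat.card ↥(centralizer ({x} : Set Spor.Th)) = 7 * 168 ∨
    Nat.card ↥(centralizer ({x} : Set Spor.Th)) = 7 * 360 := by
  have := finite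
  exact AbThSeven.card_cases' H49.ThSeven.dat hx

/-- no element of order 7 commutes with an element of order 13, 19, 31 -/
theorem not_seven {x : Spor.Th} {r : ℕ} (hx : orderOf x = r) (hr1 : ¬ r ∣ 7 * 168) (hr2 : ¬ r ∣ 7 * 360) :
    ¬ 7 ∣ Nat.card ↥(centralizer ({x} : Set Spor.Th)) := by
  intro h
  have := finite
  obtain ⟨w, hw, hwx⟩ := exists_of_dvd_cent (by norm_num) h
  have h1 := dvd_cent hx hwx
  rcases cent_seven hw with h2 | h2
  · rw [h2] at h1
    exact hr1 h1
  · rw [h2] at h1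
    exact hr2 h1

/-- the centralizers of the elements of order 13, 19, 31 -/
theorem cent_dvd' {x : Spor.Th} {r : ℕ} (hr : r.Prime) (hx : orderOf x = r) (h7 : r ≠ 7)
    (hrC : ¬ r ∣ 92897280) (hr2 : ¬ r * r ∣ NT) :
    Nat.card ↥(centralizer ({x} : Set Spor.Th)) ∣ 3 ^ 10 * 13 * 19 * 31 := by
  have h1 := cent_dvd hr hx hrC hr2
  rw [show (3 ^ 10 * 7 ^ 2 * 13 * 19 * 31 : ℕ) = 7 ^ 2 * (3 ^ 10 * 13 * 19 * 31) by norm_num] at h1
  refine dvd_drop (by norm_num) (not_seven hx ?_ ?_) h1
  · intro h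
    apply hrC
    have h2 : r ∣ 168 := by
      rcases (Nat.Prime.dvd_mul hr).1 h with h3 | h3
      · exact absurd ((Nat.prime_dvd_prime_iff_eq hr (by norm_num)).1 h3) h7
      · exact h3
    exact h2.trans (by norm_num)
  · intro h
    apply hrC
    have h2 : r ∣ 360 := by
      rcases (Nat.Prime.dvd_mul hr).1 h with h3 | h3
      · exact absurd ((Nat.prime_dvd_prime_iff_eq hr (by norm_num)).1 h3) h7
      · exact h3
    exact h2.trans (by norm_num)

theorem not_two {x : Spor.Th} {r : ℕ} (hx : orderOf x = r) (hrC : ¬ r ∣ 92897280) :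
    ¬ 2 ∣ Nat.card ↥(centralizer ({x} : Set Spor.Th)) :=
  odd_cent' hx fun t ht => by rw [card_inv ht]; exact hrC

/-! ### The normalizer of a subgroup of order 13 has even order -/

theorem chkK : chkN 1 634023936 13 [(3, 5)] (fun _ e => Nat.beq (e % 2) 0) = true := by decide +kernel

theorem even_NN {x : Spor.Th} (hx : orderOf x = 13) : 2 ∣ Nat.card ↥(NN x) := by
  have := finite
  have hctx := KFacts.Th.Main.ctx
  obtain ⟨K, hK⟩ : ∃ K : Subgroup Spor.Th, Nat.card ↥K = 634023936 := ⟨_, hctx.cardK⟩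
  have h13 : Fact (Nat.Prime 13) := ⟨by norm_num⟩
  obtain ⟨y, hy⟩ := exists_prime_orderOf_dvd_card' (G := ↥K) 13 (by rw [hK]; norm_num)
  have hy' : orderOf (y : Spor.Th) = 13 := by rw [Subgroup.orderOf_coe, hy]
  rw [card_NN_eq (by norm_num) hx hy' (by rw [card]; norm_num)]
  -- the centralizer in `K`
  have hcd : Nat.card ↥(centralizer ({y} : Set ↥K)) ∣ 3 ^ 10 * 13 * 19 * 31 := by
    have h1 : (centralizer ({y} : Set ↥K)).map K.subtype ≤ centralizer ({(y : Spor.Th)} : Set Spor.Th) := by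
      rintro _ ⟨v, hv, rfl⟩
      exact mem_centralizer_singleton_iff.2 (congrArg Subtype.val (mem_centralizer_singleton_iff.1 hv))
    have h2 := card_dvd_of_le h1
    rw [card_map_of_injective K.subtype_injective] at h2
    exact h2.trans (cent_dvd' (by norm_num) hy' (by norm_num) (by norm_num) (by norm_num))
  have hcd' : Nat.card ↥(centralizer ({y} : Set ↥K)) ∣ 13 * prodL [(3, 5)] := by
    have h1 := card_subgroup_dvd_card (centralizer ({y} : Set ↥K))
    rw [hK] at h1
    have h2 := Nat.dvd_gcd hcd h1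
    exact h2.trans (by norm_num [prodL])
  obtain ⟨m, e, -, h3, -, h4⟩ := chk_norm' (x := y) (by norm_num) hy hK (by norm_num) [(3, 5)] (by norm_num) hcd' chkK
  have h5 : 2 ∣ Nat.card ↥(NN y) := by
    rw [h3]
    exact Dvd.dvd.mul_left (Nat.dvd_of_mod_eq_zero (Nat.eq_of_beq_eq_true h4)) _
  have h6 : (NN y).map K.subtype ≤ NN (y : Spor.Th) := by
    rintro _ ⟨v, hv, rfl⟩
    have key : ∀ v ∈ NN y, ∀ w ∈ zpowers (y : Spor.Th), (v : Spor.Th) * w * (v : Spor.Th)⁻¹ ∈ zpowers (y : Spor.Th) := by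
      rintro v hv w ⟨i, rfl⟩
      obtain ⟨j, hj⟩ := (mem_normalizer_iff.1 hv (y ^ i)).1 ⟨i, rfl⟩
      exact ⟨j, by simpa using congrArg Subtype.val hj⟩
    rw [mem_normalizer_iff]
    intro w
    refine ⟨fun hw => key v hv w hw, fun hw => ?_⟩
    have h7 := key v⁻¹ (inv_mem hv) _ hw
    have h8 : ((v⁻¹ : ↥K) : Spor.Th) * (K.subtype v * w * (K.subtype v)⁻¹) * ((v⁻¹ : ↥K) : Spor.Th)⁻¹ = w := by
      change (v : Spor.Th)⁻¹ * ((v : Spor.Th) * w * (v : Spor.Th)⁻¹) * ((v : Spor.Th)⁻¹)⁻¹ = w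
      group
    rwa [h8] at h7
  have h7 := card_dvd_of_le h6
  rw [card_map_of_injective K.subtype_injective] at h7
  exact h5.trans h7

/-! ### Order 31 -/

theorem valid_all : OrdDiv.valid [(3, 10), (13, 1), (19, 1), (31, 1)] (3 ^ 10 * 13 * 19 * 31) = true := by decide +kernel

theorem good31 : goodB 31 [(3, 10), (13, 1), (19, 1), (31, 1)] = true := by decide +kernel

theorem good19 : goodB 19 [(3, 10), (13, 1), (19, 1), (31, 1)] = true := by decide +kernel

theorem chk31a : chkN 2 NT 31 [(3, 10), (13, 1), (19, 1)]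
    (fun m e => !(Nat.beq (m % 13) 0) || (Nat.beq (m % 2) 1 && Nat.beq (e % 2) 1)) = true := by decide +kernel

theorem odd_NN_31 {x : Spor.Th} (hx : orderOf x = 31) (h13 : 13 ∣ Nat.card ↥(centralizer ({x} : Set Spor.Th))) :
    ¬ 2 ∣ Nat.card ↥(NN x) := by
  have := finite
  have := simple
  obtain ⟨m, e, h1, h2, -, h3⟩ := chk_norm (x := x) (by norm_num) hx card (by norm_num) (by norm_num)
    [(3, 10), (13, 1), (19, 1)] (by norm_num)
    ((cent_dvd' (by norm_num) hx (by norm_num) (by norm_num) (by norm_num)).trans (dvd_of_eq (by norm_num [prodL]))) chk31a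
  rw [h1] at h13
  have h4 : 13 ∣ m := (Nat.Coprime.dvd_of_dvd_mul_left (by norm_num) h13)
  rw [Nat.mod_eq_zero_of_dvd h4] at h3
  have h5 : m % 2 = 1 ∧ e % 2 = 1 := by
    have h6 : (Nat.beq (m % 2) 1 && Nat.beq (e % 2) 1) = true := by simpa using h3
    rw [Bool.and_eq_true] at h6
    exact ⟨Nat.eq_of_beq_eq_true h6.1, Nat.eq_of_beq_eq_true h6.2⟩
  rw [h2]
  intro hd
  rcases (Nat.Prime.dvd_mul Nat.prime_two).1 hd with h6 | h6
  · rcases (Nat.Prime.dvd_mul Nat.prime_two).1 h6 with h7 | h7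
    · revert h7; norm_num
    · omega
  · omega

/-- elements of order 13 and 31 do not commute -/
theorem not_31_13 {x w : Spor.Th} (hx : orderOf x = 13) (hw : orderOf w = 31) : w * x ≠ x * w := by
  intro hxw
  have := finite
  have h1 := odd_NN_31 hw (dvd_cent hx hxw)
  have h2 := norm_le_of_odd (by norm_num) hw hxw (not_two hx (by norm_num))
    (cent_dvd' (by norm_num) hx (by norm_num) (by norm_num) (by norm_num)) valid_all good31 (by norm_num)
  exact h1 ((even_NN hx).trans (card_dvd_of_le h2))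

theorem not_dvd_31_13 {x : Spor.Th} (hx : orderOf x = 13) : ¬ 31 ∣ Nat.card ↥(centralizer ({x} : Set Spor.Th)) := by
  intro h
  have := finite
  obtain ⟨w, hw, hwx⟩ := exists_of_dvd_cent (by norm_num) h
  exact not_31_13 hx hw hwx

theorem not_dvd_13_31 {x : Spor.Th} (hx : orderOf x = 31) : ¬ 13 ∣ Nat.card ↥(centralizer ({x} : Set Spor.Th)) := by
  intro h
  have := finite
  obtain ⟨w, hw, hwx⟩ := exists_of_dvd_cent (by norm_num) h
  exact not_31_13 hw hx hwx.symm

theorem chk31b : chkN 2 NT 31 [(3, 10), (19, 1)] (fun m _ => Nat.ble m 14495) = true := by decide +kernel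

theorem bound31 {x : Spor.Th} (hx : orderOf x = 31) : Nat.card ↥(centralizer ({x} : Set Spor.Th)) ≤ 449375 := by
  have := finite
  have := simple
  have h0 : Nat.card ↥(centralizer ({x} : Set Spor.Th)) ∣ 31 * prodL [(3, 10), (19, 1)] := by
    have h1 := cent_dvd' (by norm_num) hx (by norm_num) (by norm_num) (by norm_num)
    rw [show (3 ^ 10 * 13 * 19 * 31 : ℕ) = 13 ^ 1 * (31 * prodL [(3, 10), (19, 1)]) by norm_num [prodL]] at h1
    exact dvd_drop (by norm_num) (not_dvd_13_31 hx) h1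
  obtain ⟨m, e, h1, -, -, h3⟩ := chk_norm (x := x) (by norm_num) hx card (by norm_num) (by norm_num)
    [(3, 10), (19, 1)] (by norm_num) h0 chk31b
  have h4 := Nat.le_of_ble_eq_true h3
  rw [h1]
  omega

/-! ### Order 19 -/

/-- elements of order 13 and 19 which commute -/
theorem not_dvd_31_19 {x w : Spor.Th} (hx : orderOf x = 13) (hw : orderOf w = 19) (hxw : w * x = x * w) :
    ¬ 31 ∣ Nat.card ↥(centralizer ({w} : Set Spor.Th)) := by
  intro h
  have := finite
  obtain ⟨v, hv, hvw⟩ := exists_of_dvd_cent (by norm_num) h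
  have h1 := norm_le_of_odd (by norm_num) hv hvw (not_two hw (by norm_num))
    (cent_dvd' (by norm_num) hw (by norm_num) (by norm_num) (by norm_num)) valid_all good31 (by norm_num)
  -- `x` normalizes `⟨v⟩`
  have h2 : x ∈ NN v := h1 (cent_le_NN w (mem_centralizer_singleton_iff.2 hxw.symm))
  obtain ⟨e, he, hN, -⟩ := exists_norm (by norm_num) hv (by rw [card]; norm_num)
  have h3 : 13 ∣ Nat.card ↥(NN v) := by
    have h4 := orderOf_dvd_natCard (⟨x, h2⟩ : ↥(NN v))
    rwa [Subgroup.orderOf_mk, hx] at h4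
  rw [hN] at h3
  rcases (Nat.Prime.dvd_mul (by norm_num)).1 h3 with h4 | h4
  · exact not_dvd_13_31 hv h4
  · have h5 := h4.trans he
    revert h5
    norm_num

theorem chk19a : chkN 2 NT 19 [(3, 10), (13, 1)]
    (fun m e => !(Nat.beq (m % 13) 0) || (!(Nat.beq (e % 2) 0) || Nat.beq (19 * m * e) 13338)) = true := by decide +kernel

/-- the normalizer of a subgroup of order 19 -/
theorem card_NN_19 {x w : Spor.Th} (hx : orderOf x = 13) (hw : orderOf w = 19) (hxw : w * x = x * w) :
    Nat.card ↥(NN w) = 13338 := by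
  have := finite
  have := simple
  have h0 : Nat.card ↥(centralizer ({w} : Set Spor.Th)) ∣ 19 * prodL [(3, 10), (13, 1)] := by
    have h1 := cent_dvd' (by norm_num) hw (by norm_num) (by norm_num) (by norm_num)
    rw [show (3 ^ 10 * 13 * 19 * 31 : ℕ) = 31 ^ 1 * (19 * prodL [(3, 10), (13, 1)]) by norm_num [prodL]] at h1
    exact dvd_drop (by norm_num) (not_dvd_31_19 hx hw hxw) h1
  obtain ⟨m, e, h1, h2, -, h3⟩ := chk_norm (x := w) (by norm_num) hw card (by norm_num) (by norm_num)
    [(3, 10), (13, 1)] (by norm_num) h0 chk19a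
  have h13 : 13 ∣ Nat.card ↥(centralizer ({w} : Set Spor.Th)) := dvd_cent hx hxw
  rw [h1] at h13
  have h4 : 13 ∣ m := (Nat.Coprime.dvd_of_dvd_mul_left (by norm_num) h13)
  have h5 := norm_le_of_odd (by norm_num) hw hxw (not_two hx (by norm_num))
    (cent_dvd' (by norm_num) hx (by norm_num) (by norm_num) (by norm_num)) valid_all good19 (by norm_num)
  have h6 : 2 ∣ 19 * m * e := by
    rw [← h2]
    exact (even_NN hx).trans (card_dvd_of_le h5)
  have h7 : ¬ 2 ∣ 19 * m := by
    rw [← h1]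
    exact not_two hw (by norm_num)
  have h8 : e % 2 = 0 := Nat.mod_eq_zero_of_dvd (((Nat.Prime.dvd_mul Nat.prime_two).1 h6).resolve_left h7)
  rw [Nat.mod_eq_zero_of_dvd h4, h8] at h3
  rw [h2]
  have h9 : Nat.beq (19 * m * e) 13338 = true := by simpa using h3
  exact Nat.eq_of_beq_eq_true h9

theorem chk19b : chkN 2 NT 19 [(3, 10), (31, 1)] (fun m _ => Nat.ble m 23651) = true := by decide +kernel

theorem bound19 {x : Spor.Th} (hx : orderOf x = 19) : Nat.card ↥(centralizer ({x} : Set Spor.Th)) ≤ 449375 := by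
  have := finite
  have := simple
  by_cases h13 : 13 ∣ Nat.card ↥(centralizer ({x} : Set Spor.Th))
  · obtain ⟨w, hw, hwx⟩ := exists_of_dvd_cent (by norm_num) h13
    have h1 := card_NN_19 hw hx hwx.symm
    have h2 := Nat.le_of_dvd Nat.card_pos (card_dvd_of_le (cent_le_NN x))
    omega
  · have h0 : Nat.card ↥(centralizer ({x} : Set Spor.Th)) ∣ 19 * prodL [(3, 10), (31, 1)] := by
      have h1 := cent_dvd' (by norm_num) hx (by norm_num) (by norm_num) (by norm_num)
      rw [show (3 ^ 10 * 13 * 19 * 31 : ℕ) = 13 ^ 1 * (19 * prodL [(3, 10), (31, 1)]) by norm_num [prodL]] at h1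
      exact dvd_drop (by norm_num) h13 h1
    obtain ⟨m, e, h1, -, -, h3⟩ := chk_norm (x := x) (by norm_num) hx card (by norm_num) (by norm_num)
      [(3, 10), (31, 1)] (by norm_num) h0 chk19b
    have h4 := Nat.le_of_ble_eq_true h3
    rw [h1]
    omega

/-! ### Order 13 -/

theorem chk13a : chkN 2 NT 13 [(3, 10)] (fun m _ => Nat.ble m 34567) = true := by decide +kernel

theorem bound13 {x : Spor.Th} (hx : orderOf x = 13) : Nat.card ↥(centralizer ({x} : Set Spor.Th)) ≤ 449375 := by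
  have := finite
  have := simple
  by_cases h19 : 19 ∣ Nat.card ↥(centralizer ({x} : Set Spor.Th))
  · obtain ⟨w, hw, hwx⟩ := exists_of_dvd_cent (by norm_num) h19
    have h1 := card_NN_19 hx hw hwx
    have h5 := norm_le_of_odd (by norm_num) hw hwx (not_two hx (by norm_num))
      (cent_dvd' (by norm_num) hx (by norm_num) (by norm_num) (by norm_num)) valid_all good19 (by norm_num)
    have h2 := Nat.le_of_dvd Nat.card_pos (card_dvd_of_le ((cent_le_NN x).trans h5))
    omega
  · have h0 : Nat.card ↥(centralizer ({x} : Set Spor.Th)) ∣ 13 * prodL [(3, 10)] := by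
      have h1 := cent_dvd' (by norm_num) hx (by norm_num) (by norm_num) (by norm_num)
      rw [show (3 ^ 10 * 13 * 19 * 31 : ℕ) = 31 ^ 1 * (19 ^ 1 * (13 * prodL [(3, 10)])) by norm_num [prodL]] at h1
      exact dvd_drop (by norm_num) h19 (dvd_drop (by norm_num) (not_dvd_31_13 hx) h1)
    obtain ⟨m, e, h1, -, -, h3⟩ := chk_norm (x := x) (by norm_num) hx card (by norm_num) (by norm_num)
      [(3, 10)] (by norm_num) h0 chk13a
    have h4 := Nat.le_of_ble_eq_true h3
    rw [h1]
    omega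

/-! ### Involutions -/

section Inv

open Cfsg.Agent.Th.Base Cfsg.Agent.Th.Word Cfsg.Agent.Th.RelWords Cfsg.Agent.Th.PermTab
  Cfsg.Agent.Th.KOracle Cfsg.Agent.Th.KPerm Cfsg.Agent.Th.NineAct Cfsg.Agent.Th.CStruct
  Cfsg.Agent.Th.COracleDef Cfsg.Agent.Th.COracleSound Cfsg.Agent.Th.IndexUpper
open Cfsg.Agent.KFacts.Th.Mask Cfsg.Agent.KFacts.Th.Struct

universe u

theorem abLE_C {G : Type u} [Group G] {γ : ℕ → G} (h : Ctx γ) : AbLE 217600 ↥(sub γ isC) := by
  have hfin := h.fin
  obtain ⟨f, hf, hker, -⟩ := h.exists_epi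
  have h9 : AbLE 425 ↥(alternatingGroup (Fin 9)) := abLE_alt (by norm_num) (by norm_num [Nat.factorial])
  refine (AbLE.of_hom f (h9.of_injective _ (Subgroup.subtype_injective f.range))
    (abLE_of_card_le (b := 512) ?_)).mono (by norm_num)
  rw [hker, Nat.card_congr (Subgroup.subgroupOfEquivOfLe h.Q_le).toEquiv, h.cardQ]

theorem abLE_inv {s : Spor.Th} (hs : orderOf s = 2) : AbLE 217600 ↥(centralizer ({s} : Set Spor.Th)) := by
  have hfin := KFacts.Th.Main.ctx.fin
  obtain ⟨e⟩ := CpAutTh.Mid.exists_equiv KFacts.Th.Main.ctx ThFive.hone hs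
  exact (abLE_C KFacts.Th.Main.ctx).congr e.symm

end Inv

/-! ### The row -/

theorem ab3 : Ab3 Spor.Th := by
  have := finite
  intro A hA
  have key : Nat.card A ≤ 449375 := by
    by_cases h2 : 2 ∣ Nat.card A
    · obtain ⟨x, hx, hxA, -⟩ := exists_mem hA Nat.prime_two h2
      exact (card_le_of_mem (abLE_inv hx) hA hxA).trans (by norm_num)
    by_cases h7 : 7 ∣ Nat.card A
    · obtain ⟨x, hx, -, hle⟩ := exists_mem hA (by norm_num) h7
      have h1 := Nat.le_of_dvd Nat.card_pos (card_dvd_cent hle)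
      rcases cent_seven hx with h3 | h3 <;> omega
    by_cases h19 : 19 ∣ Nat.card A
    · obtain ⟨x, hx, -, hle⟩ := exists_mem hA (by norm_num) h19
      exact (Nat.le_of_dvd Nat.card_pos (card_dvd_cent hle)).trans (bound19 hx)
    by_cases h13 : 13 ∣ Nat.card A
    · obtain ⟨x, hx, -, hle⟩ := exists_mem hA (by norm_num) h13
      exact (Nat.le_of_dvd Nat.card_pos (card_dvd_cent hle)).trans (bound13 hx)
    by_cases h31 : 31 ∣ Nat.card A
    · obtain ⟨x, hx, -, hle⟩ := exists_mem hA (by norm_num) h31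
      exact (Nat.le_of_dvd Nat.card_pos (card_dvd_cent hle)).trans (bound31 hx)
    have hd := card_subgroup_dvd_card A
    rw [card, show (NT : ℕ) = 2 ^ 15 * (7 ^ 2 * (13 ^ 1 * (19 ^ 1 * (31 ^ 1 * (5 ^ 3 * 3 ^ 10))))) by norm_num] at hd
    have hd := dvd_drop (by norm_num) h31 (dvd_drop (by norm_num) h19 (dvd_drop (by norm_num) h13
      (dvd_drop (by norm_num) h7 (dvd_drop Nat.prime_two h2 hd))))
    by_cases h5 : 5 ∣ Nat.card A
    · obtain ⟨x, hx, -, hle⟩ := exists_mem hA Nat.prime_five h5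
      have h9 : ¬ 3 ^ 2 ∣ Nat.card A := by
        intro h
        obtain ⟨s, hs, hsx⟩ := involution x hx
        exact ThFive.not_nine hx hs hsx.symm (h.trans (card_dvd_cent hle))
      obtain ⟨c, b, hc, hb, hcb⟩ := (Nat.dvd_mul).1 hd
      obtain ⟨i, hi, rfl⟩ := (Nat.dvd_prime_pow Nat.prime_three).1 hb
      have hi1 : i ≤ 1 := by
        by_contra hlt
        exact h9 ((pow_dvd_pow 3 (by omega)).trans (hcb ▸ dvd_mul_left _ _))
      have h3 : Nat.card A ≤ 5 ^ 3 * 3 ^ 1 := by
        rw [← hcb]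
        exact Nat.mul_le_mul (Nat.le_of_dvd (by norm_num) hc) (Nat.pow_le_pow_right (by norm_num) hi1)
      exact h3.trans (by norm_num)
    · exact (Nat.le_of_dvd (by norm_num) (dvd_drop Nat.prime_five h5 hd)).trans (by norm_num)
  rw [card]
  exact (Nat.pow_le_pow_left key 3).trans_lt (by norm_num)

/-- **row Th of S2501** -/
theorem ab3_Th {G : Type*} [Group G] (h : Cfsg.Spor.IsoTh G) : Ab3 G := by
  obtain ⟨e⟩ := h
  exact ab3.congr e.symm

end Cfsg.Agent.H513.AbTh
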