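import Mathlib

/-!
# Linear algebra for groups with three automorphism orbits (S4081): the converse

`p` is a primitive root modulo `q` and `T` is an operator of order `q` without fixed points on a space over
`ZMod p`: the operators commuting with `T` are transitive on the nonzero vectors and every exponent `i`
prime to `q` is realized.
-/

set_option autoImplicit false

namespace Cfsg.Agent.H513.ThreeOrb

open Polynomial

section Field

variable {K V : Type*} [Field K] [AddCommGroup V] [Module K V]

/-- The general linear group is transitive on nonzero vectors. -/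
theorem exists_equiv_apply {v w : V} (hv : v ≠ 0) (hw : w ≠ 0) : ∃ e : V ≃ₗ[K] V, e v = w := by
  let f := (LinearEquiv.toSpanNonzeroSingleton K V v hv).symm ≪≫ₗ
    (LinearEquiv.toSpanNonzeroSingleton K V w hw)
  obtain ⟨g, hg⟩ := Submodule.exists_linearEquiv_restrict_eq f
  refine ⟨g, ?_⟩
  have h1 := hg ⟨v, Submodule.mem_span_singleton_self v⟩
  rw [← h1]
  have h2 : (LinearEquiv.toSpanNonzeroSingleton K V v hv).symm ⟨v, Submodule.mem_span_singleton_self v⟩ = 1 := by
    rw [LinearEquiv.symm_apply_eq]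
    exact (LinearEquiv.toSpanNonzeroSingleton_one K V v hv).symm
  change ((LinearEquiv.toSpanNonzeroSingleton K V w hw)
    ((LinearEquiv.toSpanNonzeroSingleton K V v hv).symm ⟨v, _⟩) : V) = w
  rw [h2]
  simp

/-- A field automorphism is realized by a semilinear bijection. -/
theorem exists_semilinear (σ : K ≃+* K) : ∃ e : V ≃+ V, ∀ (k : K) (v : V), e (k • v) = σ k • e v := by
  let b := Module.Basis.ofVectorSpace K V
  let E : (Module.Basis.ofVectorSpaceIndex K V →₀ K) ≃+ (Module.Basis.ofVectorSpaceIndex K V →₀ K) :=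
    Finsupp.mapRange.addEquiv σ.toAddEquiv
  refine ⟨(b.repr.toAddEquiv.trans E).trans b.repr.symm.toAddEquiv, fun k v => ?_⟩
  have h1 : ∀ v, ((b.repr.toAddEquiv.trans E).trans b.repr.symm.toAddEquiv) v =
      b.repr.symm (E (b.repr v)) := fun v => rfl
  rw [h1, h1, ← map_smul]
  congr 1
  rw [map_smul]
  ext i
  simp [E]

end Field

/-- The cyclotomic polynomial kills a fixed-point-free operator of order `q`. -/
theorem aeval_cyclotomic {F V : Type*} [Field F] [AddCommGroup V] [Module F V] {q : ℕ} [hq : Fact q.Prime]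
    (T : Module.End F V) (hTq : T ^ q = 1) (hfix : ∀ v, T v = v → v = 0) :
    aeval T (cyclotomic q F) = 0 := by
  refine LinearMap.ext fun v => ?_
  apply hfix
  have h1 : aeval T ((X - 1) * cyclotomic q F) = 0 := by
    rw [mul_comm, cyclotomic_prime_mul_X_sub_one]
    simp [hTq]
  rw [map_mul] at h1
  have h2 := congrArg (fun S : Module.End F V => S v) h1
  have h3 : (aeval T (X - 1 : F[X])) ((aeval T (cyclotomic q F)) v) = 0 := h2
  simpa [sub_eq_zero] using h3

/-- The cyclotomic polynomial is irreducible modulo a primitive root. -/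
theorem irreducible_cyclotomic {p q : ℕ} [hp : Fact p.Prime] [hq : Fact q.Prime] (hpq : p ≠ q)
    (hord : orderOf (p : ZMod q) = q - 1) : Irreducible (cyclotomic q (ZMod p)) := by
  have hnd : ¬ p ∣ q := fun h => hpq ((Nat.prime_dvd_prime_iff_eq hp.out hq.out).mp h)
  refine ZMod.irreducible_of_dvd_cyclotomic_of_natDegree hnd dvd_rfl ?_
  rw [natDegree_cyclotomic, Nat.totient_prime hq.out, ← hord, ← orderOf_units, ZMod.coe_unitOfCoprime]

/-- **The converse, linear form.** -/
theorem backward_LA {p q : ℕ} [hp : Fact p.Prime] [hq : Fact q.Prime] (hpq : p ≠ q)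
    (hord : orderOf (p : ZMod q) = q - 1) {V : Type*} [AddCommGroup V] [Module (ZMod p) V]
    (T : Module.End (ZMod p) V) (hTq : T ^ q = 1) (hfix : ∀ v, T v = v → v = 0) :
    (∀ v w : V, v ≠ 0 → w ≠ 0 → ∃ e : V ≃+ V, e v = w ∧ ∀ u, e (T u) = T (e u)) ∧
    (∀ i : ℕ, ¬ q ∣ i → ∃ e : V ≃+ V, ∀ u, e (T u) = (T ^ i) (e u)) := by
  set f := cyclotomic q (ZMod p) with hf
  have hirr : Irreducible f := irreducible_cyclotomic hpq hord
  have hfact : Fact (Irreducible f) := ⟨hirr⟩
  have hfT : aeval T f = 0 := aeval_cyclotomic T hTq hfix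
  let ρ : AdjoinRoot f →+* Module.End (ZMod p) V :=
    Ideal.Quotient.lift (Ideal.span {f}) (aeval T : (ZMod p)[X] →ₐ[ZMod p] Module.End (ZMod p) V).toRingHom (by
      intro a ha
      obtain ⟨c, rfl⟩ := Ideal.mem_span_singleton'.mp ha
      change aeval T (c * f) = 0
      rw [map_mul, hfT, mul_zero])
  have hρ : ∀ g : (ZMod p)[X], ρ (AdjoinRoot.mk f g) = aeval T g := fun g => rfl
  let mK : Module (AdjoinRoot f) V := Module.compHom V ρ
  have hsmul : ∀ (g : (ZMod p)[X]) (v : V), (AdjoinRoot.mk f g) • v = aeval T g v := fun g v => rfl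
  have hroot : ∀ v : V, (AdjoinRoot.root f) • v = T v := by
    intro v
    have := hsmul X v
    rw [aeval_X] at this
    exact this
  constructor
  · intro v w hv hw
    obtain ⟨e, he⟩ := exists_equiv_apply (K := AdjoinRoot f) hv hw
    refine ⟨e.toAddEquiv, he, fun u => ?_⟩
    have h1 : e (T u) = T (e u) := by rw [← hroot, map_smul, hroot]
    exact h1
  · intro i hi
    -- the automorphism of the field
    have hfin : Module.Finite (ZMod p) (AdjoinRoot f) := (AdjoinRoot.powerBasis hirr.ne_zero).finite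
    have hfinK : Finite (AdjoinRoot f) := Module.finite_of_finite (ZMod p)
    set ζ : AdjoinRoot f := AdjoinRoot.root f with hζ
    have hζf : IsRoot (cyclotomic q (AdjoinRoot f)) ζ := by
      rw [IsRoot.def, ← map_cyclotomic q (algebraMap (ZMod p) (AdjoinRoot f)), eval_map_algebraMap, ← hf, hζ,
        AdjoinRoot.aeval_eq, AdjoinRoot.mk_self]
    have hqne : NeZero ((q : ℕ) : AdjoinRoot f) := by
      constructor
      intro h
      have hchar : CharP (AdjoinRoot f) p := charP_of_injective_algebraMap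
        (algebraMap (ZMod p) (AdjoinRoot f)).injective p
      rw [CharP.cast_eq_zero_iff (AdjoinRoot f) p] at h
      exact hpq ((Nat.prime_dvd_prime_iff_eq hp.out hq.out).mp h)
    have hprim : IsPrimitiveRoot ζ q := isRoot_cyclotomic_iff.mp hζf
    have hprimi : IsPrimitiveRoot (ζ ^ i) q :=
      hprim.pow_of_coprime i ((Nat.Prime.coprime_iff_not_dvd hq.out).mpr hi).symm
    have hroot2 : eval₂ (↑(Algebra.ofId (ZMod p) (AdjoinRoot f)) : ZMod p →+* AdjoinRoot f) (ζ ^ i) f = 0 := by
      have h1 : IsRoot (cyclotomic q (AdjoinRoot f)) (ζ ^ i) := isRoot_cyclotomic_iff.mpr hprimi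
      rw [IsRoot.def, ← map_cyclotomic q (algebraMap (ZMod p) (AdjoinRoot f)), eval_map] at h1
      exact h1
    let φ : AdjoinRoot f →ₐ[ZMod p] AdjoinRoot f :=
      AdjoinRoot.liftAlgHom f (Algebra.ofId (ZMod p) (AdjoinRoot f)) (ζ ^ i) hroot2
    have hφ : φ ζ = ζ ^ i := AdjoinRoot.liftAlgHom_root ..
    have hφi : Function.Injective φ := φ.toRingHom.injective
    let σ : AdjoinRoot f ≃+* AdjoinRoot f :=
      RingEquiv.ofBijective φ.toRingHom ⟨hφi, Finite.surjective_of_injective hφi⟩
    have hσ : σ ζ = ζ ^ i := hφ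
    obtain ⟨e, he⟩ := exists_semilinear (K := AdjoinRoot f) (V := V) σ
    refine ⟨e, fun u => ?_⟩
    rw [← hroot, he, hσ]
    have h2 : ζ ^ i = AdjoinRoot.mk f (X ^ i) := by rw [map_pow]; rfl
    rw [h2, hsmul, map_pow, aeval_X]

end Cfsg.Agent.H513.ThreeOrb
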