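import Cfsg.Agent.H513.AbTools
import Cfsg.Agent.SporRec.LyFiveCore

/-!
# Counting pairs of involutions (helper513)

`x` of prime order `p`, `p ^ 2 ∤ |G|`, inverted by the involution `t`, `F = C(x) ∩ C(t)`, `i` the number of involutions:

* `pair_bound` : `|G : N(⟨x⟩)| (p - 1) |C(x)| ^ 2 ≤ p i ^ 2 |F| ^ 2`;
* `comm_of_norm` : elements of prime order `q ∤ l - 1` normalizing a subgroup of order `l` centralize it;
* `norm_dvd` : `|N(⟨x⟩)|` divides `|C(x)| |N(⟨x⟩) ∩ C(t)|` if `|C(x)|` is odd.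
-/

set_option autoImplicit false
set_option linter.unusedSectionVars false

namespace Cfsg.Agent.H513.PairBound

open Subgroup Cfsg.Agent.H513.NilpTools Cfsg.Agent.H513.CentTools

universe u

variable {G : Type u} [Group G]

/-- the normalizer in a subgroup -/
theorem NN_map_le {K : Subgroup G} (y : ↥K) : (NN y).map K.subtype ≤ NN (y : G) := by
  have key : ∀ v ∈ NN y, ∀ w ∈ zpowers (y : G), (v : G) * w * (v : G)⁻¹ ∈ zpowers (y : G) := by
    rintro v hv w ⟨i, rfl⟩
    obtain ⟨j, hj⟩ := (mem_normalizer_iff.1 hv (y ^ i)).1 ⟨i, rfl⟩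
    exact ⟨j, by simpa using congrArg Subtype.val hj⟩
  rintro _ ⟨v, hv, rfl⟩
  rw [mem_normalizer_iff]
  intro w
  refine ⟨fun hw => key v hv w hw, fun hw => ?_⟩
  have h7 := key v⁻¹ (inv_mem hv) _ hw
  have h8 : ((v⁻¹ : ↥K) : G) * (K.subtype v * w * (K.subtype v)⁻¹) * ((v⁻¹ : ↥K) : G)⁻¹ = w := by
    change (v : G)⁻¹ * ((v : G) * w * (v : G)⁻¹) * ((v : G)⁻¹)⁻¹ = w
    group
  rwa [h8] at h7

theorem cent_map_le {K : Subgroup G} (y : ↥K) :
    (centralizer ({y} : Set ↥K)).map K.subtype ≤ centralizer ({(y : G)} : Set G) := by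
  rintro _ ⟨v, hv, rfl⟩
  exact mem_centralizer_singleton_iff.2 (congrArg Subtype.val (mem_centralizer_singleton_iff.1 hv))

variable [Finite G]

theorem card_NN_dvd {K : Subgroup G} (y : ↥K) : Nat.card ↥(NN y) ∣ Nat.card ↥(NN (y : G)) := by
  have h7 := card_dvd_of_le (NN_map_le y)
  rwa [card_map_of_injective K.subtype_injective] at h7

theorem card_cent_dvd {K : Subgroup G} (y : ↥K) :
    Nat.card ↥(centralizer ({y} : Set ↥K)) ∣ Nat.card ↥(centralizer ({(y : G)} : Set G)) := by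
  have h7 := card_dvd_of_le (cent_map_le y)
  rwa [card_map_of_injective K.subtype_injective] at h7

/-- elements of prime order `q ∤ l - 1` normalizing a subgroup of order `l` centralize it -/
theorem comm_of_norm {w g : G} {l q : ℕ} (hl : l.Prime) (hw : orderOf w = l) (hq : q.Prime) (hg : orderOf g = q)
    (hql : ¬ q ∣ l - 1) (hn : g ∈ NN w) : g * w = w * g := by
  have hlF : Fact l.Prime := ⟨hl⟩
  let φ := normalizerMonoidHom (zpowers w)
  have h1 : (φ ⟨g, hn⟩) ^ q = 1 := by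
    have h2 : (⟨g, hn⟩ : ↥(NN w)) ^ q = 1 := Subtype.ext (by change g ^ q = 1; rw [← hg, pow_orderOf_eq_one])
    rw [← map_pow, h2, map_one]
  have h2 : (φ ⟨g, hn⟩) ^ (l - 1) = 1 := by
    have h3 : Nat.card (MulAut ↥(zpowers w)) = l - 1 := by
      rw [IsCyclic.card_mulAut, Nat.card_zpowers, hw, Nat.totient_prime hl]
    rw [← h3]
    exact pow_card_eq_one'
  have h3 : (φ ⟨g, hn⟩) ^ Nat.gcd q (l - 1) = 1 := pow_gcd_eq_one.2 ⟨h1, h2⟩
  rw [((Nat.Prime.coprime_iff_not_dvd hq).2 hql).gcd_eq_one, pow_one] at h3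
  have h4 : (⟨g, hn⟩ : ↥(NN w)) ∈ φ.ker := h3
  have h5 : (⟨g, hn⟩ : ↥(NN w)) ∈ (centralizer ((zpowers w : Subgroup G) : Set G)).subgroupOf (NN w) := by
    rw [← normalizerMonoidHom_ker]
    exact h4
  exact ((mem_centralizer_iff.1 (mem_subgroupOf.1 h5)) w (mem_zpowers w)).symm

/-- an involution normalizing `⟨x⟩` and not centralizing it inverts `x` -/
theorem inv_of_norm {x t : G} {p : ℕ} (hp : p.Prime) (hx : orderOf x = p) (ht : orderOf t = 2) (hn : t ∈ NN x)
    (hc : t * x ≠ x * t) : t * x * t⁻¹ = x⁻¹ := by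
  have htt : t * t = 1 := by rw [← pow_two, ← ht, pow_orderOf_eq_one]
  obtain ⟨k, hk⟩ := (mem_normalizer_iff.1 hn x).1 (mem_zpowers x)
  have hk' : x ^ k = t * x * t⁻¹ := hk
  have h1 : x ^ (k * k) = x := by
    rw [zpow_mul, hk', conj_zpow, hk']
    calc t * (t * x * t⁻¹) * t⁻¹ = (t * t) * x * (t * t)⁻¹ := by group
      _ = x := by rw [htt, one_mul, inv_one, mul_one]
  have h2 : x ^ (k * k - 1) = 1 := by rw [zpow_sub, h1, zpow_one, mul_inv_cancel]
  have h3 : (p : ℤ) ∣ (k - 1) * (k + 1) := by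
    have h4 := orderOf_dvd_iff_zpow_eq_one.2 h2
    rw [hx] at h4
    have h5 : k * k - 1 = (k - 1) * (k + 1) := by ring
    rwa [h5] at h4
  rcases (Nat.prime_iff_prime_int.1 hp).dvd_or_dvd h3 with h4 | h4
  · exfalso
    apply hc
    have h5 : x ^ (k - 1) = 1 := orderOf_dvd_iff_zpow_eq_one.1 (by rw [hx]; exact h4)
    have h6 : x ^ k = x := by
      rw [zpow_sub, zpow_one, mul_inv_eq_one] at h5
      exact h5
    rw [h6] at hk'
    calc t * x = (t * x * t⁻¹) * t := by group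
      _ = x * t := by rw [← hk']
  · have h5 : x ^ (k + 1) = 1 := orderOf_dvd_iff_zpow_eq_one.1 (by rw [hx]; exact h4)
    rw [zpow_add, zpow_one] at h5
    rw [← hk']
    exact eq_inv_of_mul_eq_one_left h5

/-- if `w` commutes with `x` and `p` divides the order of `w` then `x` is a power of `w` -/
theorem mem_zpowers_of_dvd {x w : G} {p : ℕ} (hp : p.Prime) (hx : orderOf x = p) (hsq : ¬ p * p ∣ Nat.card G)
    (hc : w * x = x * w) (hd : p ∣ orderOf w) : x ∈ zpowers w := by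
  have : Fact p.Prime := ⟨hp⟩
  obtain ⟨c, hcc⟩ := hd
  have hc0 : c ≠ 0 := by
    rintro rfl
    rw [mul_zero] at hcc
    exact (orderOf_pos w).ne' hcc
  have hv : orderOf (w ^ c) = p := by
    have h0 : c ≠ 0 := hc0
    rw [orderOf_pow_of_dvd h0 (by rw [hcc]; exact dvd_mul_left _ _), hcc, Nat.mul_div_cancel _ (Nat.pos_of_ne_zero hc0)]
  have hxv : w ^ c * x = x * w ^ c := ((show Commute w x from hc).pow_left c).eq
  by_contra hcon
  apply hsq
  -- `⟨x⟩ ⟨w ^ c⟩` has order `p ^ 2`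
  have hdis : Disjoint (zpowers x) (zpowers (w ^ c)) := by
    rw [Subgroup.disjoint_def]
    intro y hy hy'
    by_contra hy1
    apply hcon
    have h1 : zpowers y = zpowers x := by
      have h2 : orderOf y ∣ p := by
        have h3 := orderOf_dvd_natCard (⟨y, hy⟩ : ↥(zpowers x))
        rwa [Subgroup.orderOf_mk, Nat.card_zpowers, hx] at h3
      rcases (Nat.dvd_prime hp).1 h2 with h3 | h3
      · exact absurd (orderOf_eq_one_iff.1 h3) hy1
      · refine eq_of_le_of_card_ge (zpowers_le.2 hy) ?_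
        rw [Nat.card_zpowers, Nat.card_zpowers, h3, hx]
    have h2 : x ∈ zpowers y := by rw [h1]; exact mem_zpowers x
    have h3 : zpowers y ≤ zpowers w := (zpowers_le.2 hy').trans (zpowers_le.2 (pow_mem (mem_zpowers w) c))
    exact h3 h2
  have hinj : Function.Injective (fun q : ↥(zpowers x) × ↥(zpowers (w ^ c)) => (q.1 : G) * q.2) := by
    rintro ⟨⟨a, ha⟩, ⟨b, hb⟩⟩ ⟨⟨a', ha'⟩, ⟨b', hb'⟩⟩ h
    change a * b = a' * b' at h
    have h1 : a'⁻¹ * a = b' * b⁻¹ := by
      calc a'⁻¹ * a = a'⁻¹ * (a * b) * b⁻¹ := by group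
        _ = b' * b⁻¹ := by rw [h]; group
    have h2 : a'⁻¹ * a = 1 := (Subgroup.disjoint_def.1 hdis) (mul_mem (inv_mem ha') ha)
      (h1 ▸ mul_mem hb' (inv_mem hb))
    have h3 : a = a' := by
      calc a = a' * (a'⁻¹ * a) := by group
        _ = a' := by rw [h2, mul_one]
    subst h3
    have h4 : b = b' := mul_left_cancel h
    subst h4
    rfl
  have hcomm : ∀ a ∈ zpowers x, ∀ b ∈ zpowers (w ^ c), a * b = b * a := by
    rintro _ ⟨i, rfl⟩ _ ⟨j, rfl⟩
    exact ((show Commute x (w ^ c) from hxv.symm).zpow_zpow i j).eq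
  let φ : ↥(zpowers x) × ↥(zpowers (w ^ c)) →* G :=
    { toFun := fun q => (q.1 : G) * q.2
      map_one' := by simp
      map_mul' := by
        rintro ⟨⟨a, ha⟩, ⟨b, hb⟩⟩ ⟨⟨a', ha'⟩, ⟨b', hb'⟩⟩
        change a * a' * (b * b') = a * b * (a' * b')
        calc a * a' * (b * b') = a * (a' * b) * b' := by group
          _ = a * (b * a') * b' := by rw [hcomm a' ha' b hb]
          _ = a * b * (a' * b') := by group }
  have h1 : Nat.card φ.range = p * p := by
    rw [← Nat.card_congr (MonoidHom.ofInjective (f := φ) hinj).toEquiv, Nat.card_prod, Nat.card_zpowers,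
      Nat.card_zpowers, hx, hv]
  rw [← h1]
  exact card_subgroup_dvd_card _

section Bound

variable {x t : G} {p : ℕ}

/-- the involutions inverting `x` -/
abbrev JJ (x : G) : Type u := {s : G // orderOf s = 2 ∧ s * x * s⁻¹ = x⁻¹}

/-- the involutions -/
abbrev II (G : Type u) [Group G] : Type u := {s : G // orderOf s = 2}

theorem conj_mem_JJ {c : G} (hc : c ∈ centralizer ({x} : Set G)) (ht : orderOf t = 2) (hinv : t * x * t⁻¹ = x⁻¹) :
    orderOf (c * t * c⁻¹) = 2 ∧ (c * t * c⁻¹) * x * (c * t * c⁻¹)⁻¹ = x⁻¹ := by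
  refine ⟨by rw [← ht]; exact MulEquiv.orderOf_eq (MulAut.conj c) t, ?_⟩
  have hcx : c * x = x * c := mem_centralizer_singleton_iff.1 hc
  have h1 : c⁻¹ * x * c = x := by
    calc c⁻¹ * x * c = c⁻¹ * (x * c) := by group
      _ = x := by rw [← hcx]; group
  have h2 : c * x⁻¹ * c⁻¹ = x⁻¹ := by
    have h3 : c * x * c⁻¹ = x := by rw [hcx]; group
    calc c * x⁻¹ * c⁻¹ = (c * x * c⁻¹)⁻¹ := by group
      _ = x⁻¹ := by rw [h3]
  calc (c * t * c⁻¹) * x * (c * t * c⁻¹)⁻¹ = c * (t * (c⁻¹ * x * c) * t⁻¹) * c⁻¹ := by group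
    _ = x⁻¹ := by rw [h1, hinv, h2]

theorem card_cent_le (ht : orderOf t = 2) (hinv : t * x * t⁻¹ = x⁻¹) :
    Nat.card ↥(centralizer ({x} : Set G)) ≤ Nat.card (JJ x) *
      Nat.card ↥(centralizer ({x} : Set G) ⊓ centralizer ({t} : Set G) : Subgroup G) := by
  classical
  let f : ↥(centralizer ({x} : Set G)) → JJ x := fun c => ⟨c * t * (c : G)⁻¹, conj_mem_JJ c.2 ht hinv⟩
  let r : JJ x → ↥(centralizer ({x} : Set G)) := fun j => if h : ∃ c, f c = j then h.choose else 1
  have hr : ∀ c, f (r (f c)) = f c := by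
    intro c
    have h : ∃ c', f c' = f c := ⟨c, rfl⟩
    have : r (f c) = h.choose := dif_pos h
    rw [this]
    exact h.choose_spec
  let F : ↥(centralizer ({x} : Set G)) → JJ x ×
      ↥(centralizer ({x} : Set G) ⊓ centralizer ({t} : Set G) : Subgroup G) := fun c =>
    ⟨f c, ⟨((r (f c) : ↥(centralizer ({x} : Set G))) : G)⁻¹ * c, mul_mem ((centralizer ({x} : Set G)).inv_mem (r (f c)).2) c.2, by
      have h1 : ((r (f c) : ↥(centralizer ({x} : Set G))) : G) * t * ((r (f c) : ↥(centralizer ({x} : Set G))) : G)⁻¹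
          = c * t * (c : G)⁻¹ := congrArg Subtype.val (hr c)
      refine mem_centralizer_singleton_iff.2 ?_
      set d := ((r (f c) : ↥(centralizer ({x} : Set G))) : G)
      calc d⁻¹ * c * t = d⁻¹ * (c * t * (c : G)⁻¹) * c := by group
        _ = d⁻¹ * (d * t * d⁻¹) * c := by rw [h1]
        _ = t * (d⁻¹ * c) := by group⟩⟩
  rw [← Nat.card_prod]
  refine Nat.card_le_card_of_injective F ?_
  intro c c' h
  have h1 : f c = f c' := congrArg Prod.fst h
  have h2 : ((r (f c) : ↥(centralizer ({x} : Set G))) : G)⁻¹ * c =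
      ((r (f c') : ↥(centralizer ({x} : Set G))) : G)⁻¹ * c' := congrArg (fun q => ((Prod.snd q : ↥(centralizer ({x} : Set G) ⊓ centralizer ({t} : Set G) : Subgroup G)) : G)) h
  rw [h1] at h2
  exact Subtype.ext (mul_left_cancel h2)

theorem mul_mem_JJ (ht : orderOf t = 2) (hinv : t * x * t⁻¹ = x⁻¹) (hx2 : x ^ 2 ≠ 1) (k : ℕ) :
    orderOf (t * x ^ k) = 2 ∧ (t * x ^ k) * x * (t * x ^ k)⁻¹ = x⁻¹ := by
  have htt : t * t = 1 := by rw [← pow_two, ← ht, pow_orderOf_eq_one]
  have hti : t⁻¹ = t := inv_eq_of_mul_eq_one_left htt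
  have hk : t * x ^ k * t⁻¹ = (x ^ k)⁻¹ := by rw [← conj_pow, hinv, inv_pow]
  have h1 : (t * x ^ k) * x * (t * x ^ k)⁻¹ = x⁻¹ := by
    calc (t * x ^ k) * x * (t * x ^ k)⁻¹ = t * (x ^ k * x * (x ^ k)⁻¹) * t⁻¹ := by group
      _ = t * x * t⁻¹ := by rw [← pow_succ, pow_succ']; group
      _ = x⁻¹ := hinv
  refine ⟨?_, h1⟩
  have h2F : Fact (Nat.Prime 2) := ⟨Nat.prime_two⟩
  refine orderOf_eq_prime ?_ ?_
  · rw [pow_two]
    calc t * x ^ k * (t * x ^ k) = (t * x ^ k * t⁻¹) * x ^ k * (x ^ k)⁻¹ * (t * t) * x ^ k := by rw [htt, hti]; group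
      _ = 1 := by rw [hk, htt]; group
  · intro h
    rw [h] at h1
    apply hx2
    have h3 : x = x⁻¹ := by simpa using h1
    rw [pow_two]
    nth_rewrite 2 [h3]
    exact mul_inv_cancel x

/-- **the bound** -/
theorem pair_bound (hp : p.Prime) (hp2 : p ≠ 2) (hx : orderOf x = p) (hsq : ¬ p * p ∣ Nat.card G)
    (ht : orderOf t = 2) (hinv : t * x * t⁻¹ = x⁻¹) {i : ℕ} (hi : Nat.card (II G) ≤ i) :
    (NN x).index * ((p - 1) * Nat.card ↥(centralizer ({x} : Set G)) ^ 2) ≤ p * i ^ 2 *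
      Nat.card ↥(centralizer ({x} : Set G) ⊓ centralizer ({t} : Set G) : Subgroup G) ^ 2 := by
  classical
  have hx2 : x ^ 2 ≠ 1 := by
    intro h
    have h1 := orderOf_dvd_of_pow_eq_one h
    rw [hx] at h1
    exact hp2 ((Nat.prime_dvd_prime_iff_eq hp Nat.prime_two).1 h1)
  have hxp : x ^ p = 1 := by rw [← hx]; exact pow_orderOf_eq_one x
  have hconj : ∀ a b : G, orderOf (a * b * a⁻¹) = orderOf b := fun a b => MulEquiv.orderOf_eq (MulAut.conj a) b
  -- products of two elements of `J` commute with `x`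
  have hJc : ∀ u v : JJ x, (u : G) * v * x = x * ((u : G) * v) := by
    rintro ⟨u, hu, hu'⟩ ⟨v, hv, hv'⟩
    change u * v * x = x * (u * v)
    have h1 : v * x = x⁻¹ * v := by rw [← hv']; group
    have h2 : u * x⁻¹ = x * u := by
      have h3 : u * x⁻¹ * u⁻¹ = x := by
        calc u * x⁻¹ * u⁻¹ = (u * x * u⁻¹)⁻¹ := by group
          _ = x := by rw [hu', inv_inv]
      calc u * x⁻¹ = (u * x⁻¹ * u⁻¹) * u := by group
        _ = x * u := by rw [h3]
    calc u * v * x = u * (v * x) := by group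
      _ = (u * x⁻¹) * v := by rw [h1]; group
      _ = x * (u * v) := by rw [h2]; group
  let W := {q : JJ x × JJ x // p ∣ orderOf ((q.1 : G) * q.2)}
  let W' := {q : JJ x × JJ x // ¬ p ∣ orderOf ((q.1 : G) * q.2)}
  have hWW : Nat.card W + Nat.card W' = Nat.card (JJ x) ^ 2 := by
    rw [pow_two, ← Nat.card_prod, ← Nat.card_sum]
    exact Nat.card_congr (Equiv.sumCompl (fun q : JJ x × JJ x => p ∣ orderOf ((q.1 : G) * q.2)))
  -- the complement
  have hW' : Nat.card W' * p ≤ Nat.card (JJ x) ^ 2 := by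
    let f : W' × Fin p → JJ x × JJ x := fun q =>
      (q.1.1.1, ⟨(q.1.1.2 : G) * x ^ (q.2 : ℕ), mul_mem_JJ q.1.1.2.2.1 q.1.1.2.2.2 hx2 q.2⟩)
    have h1 := Nat.card_le_card_of_injective f ?_
    · rw [Nat.card_prod, Nat.card_prod, Nat.card_fin, ← pow_two] at h1
      exact h1
    · rintro ⟨⟨⟨u, v⟩, hw⟩, k⟩ ⟨⟨⟨u', v'⟩, hw'⟩, k'⟩ h
      have e1 : u = u' := congrArg Prod.fst h
      subst e1
      have e2 : (v : G) * x ^ (k : ℕ) = (v' : G) * x ^ (k' : ℕ) :=
        congrArg (fun q : JJ x × JJ x => (q.2 : G)) h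
      have hw1 : ¬ p ∣ orderOf ((u : G) * v) := hw
      have hw2 : ¬ p ∣ orderOf ((u : G) * v') := hw'
      have e3 : (u : G) * v * x ^ (k : ℕ) = (u : G) * v' * x ^ (k' : ℕ) := by
        rw [mul_assoc, e2, mul_assoc]
      have c1 : Commute ((u : G) * v) x := hJc u v
      have c2 : Commute ((u : G) * v') x := hJc u v'
      have e4 : x ^ ((k : ℤ) - k') = ((u : G) * v)⁻¹ * ((u : G) * v') := by
        rw [zpow_sub, zpow_natCast, zpow_natCast]
        calc x ^ (k : ℕ) * (x ^ (k' : ℕ))⁻¹ = ((u : G) * v)⁻¹ * ((u : G) * v * x ^ (k : ℕ)) * (x ^ (k' : ℕ))⁻¹ := by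
              group
          _ = ((u : G) * v)⁻¹ * ((u : G) * v') := by rw [e3]; group
      have c3 : Commute ((u : G) * v)⁻¹ ((u : G) * v') := by
        have e5 : (u : G) * v' = (u : G) * v * x ^ ((k : ℤ) - k') := by rw [e4]; group
        rw [e5]
        exact (((Commute.refl ((u : G) * v)).mul_right (c1.zpow_right _)).inv_left)
      have e6 : (x ^ ((k : ℤ) - k')) ^ (orderOf ((u : G) * v) * orderOf ((u : G) * v')) = 1 := by
        rw [e4, c3.mul_pow, pow_mul, inv_pow, pow_orderOf_eq_one, inv_one, one_pow, one_mul, mul_comm, pow_mul,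
          pow_orderOf_eq_one, one_pow]
      have e7 : (x ^ ((k : ℤ) - k')) ^ p = 1 := by
        rw [← zpow_natCast, ← zpow_mul, mul_comm, zpow_mul, zpow_natCast, hxp, one_zpow]
      have e8 : Nat.Coprime p (orderOf ((u : G) * v) * orderOf ((u : G) * v')) := by
        rw [Nat.Prime.coprime_iff_not_dvd hp, Nat.Prime.dvd_mul hp]
        push Not
        exact ⟨hw1, hw2⟩
      have e9 : x ^ ((k : ℤ) - k') = 1 := by
        have h2 : (x ^ ((k : ℤ) - k')) ^ Nat.gcd p (orderOf ((u : G) * v) * orderOf ((u : G) * v')) = 1 :=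
          pow_gcd_eq_one.2 ⟨e7, e6⟩
        rwa [e8.gcd_eq_one, pow_one] at h2
      have e10 : (p : ℤ) ∣ (k : ℤ) - k' := by
        have h2 := orderOf_dvd_iff_zpow_eq_one.2 e9
        rwa [hx] at h2
      have e11 : k = k' := by
        apply Fin.ext
        have h2 := k.2
        have h3 := k'.2
        obtain ⟨c, hc⟩ := e10
        have h4 : c = 0 := by
          by_contra hc0
          rcases lt_or_gt_of_ne hc0 with h5 | h5
          · have : (p : ℤ) * c ≤ (p : ℤ) * (-1) := by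
              apply mul_le_mul_of_nonneg_left _ (by positivity)
              omega
            omega
          · have : (p : ℤ) * 1 ≤ (p : ℤ) * c := by
              apply mul_le_mul_of_nonneg_left _ (by positivity)
              omega
            omega
        rw [h4, mul_zero] at hc
        omega
      subst e11
      have e12 : v = v' := Subtype.ext (mul_right_cancel e2)
      subst e12
      rfl
  -- the pairs
  have hW : (NN x).index * Nat.card W ≤ i ^ 2 := by
    let f : (G ⧸ NN x) × W → II G × II G := fun q =>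
      (⟨q.1.out * (q.2.1.1 : G) * q.1.out⁻¹, (hconj _ _).trans q.2.1.1.2.1⟩,
        ⟨q.1.out * (q.2.1.2 : G) * q.1.out⁻¹, (hconj _ _).trans q.2.1.2.2.1⟩)
    have h1 := Nat.card_le_card_of_injective f ?_
    · rw [Nat.card_prod, Nat.card_prod, ← pow_two] at h1
      exact h1.trans (Nat.pow_le_pow_left hi 2)
    · rintro ⟨g, ⟨⟨u, v⟩, hw⟩⟩ ⟨g', ⟨⟨u', v'⟩, hw'⟩⟩ h
      have e1 : g.out * (u : G) * g.out⁻¹ = g'.out * (u' : G) * g'.out⁻¹ :=
        congrArg (fun q : II G × II G => (q.1 : G)) h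
      have e2 : g.out * (v : G) * g.out⁻¹ = g'.out * (v' : G) * g'.out⁻¹ :=
        congrArg (fun q : II G × II G => (q.2 : G)) h
      have hw1 : p ∣ orderOf ((u : G) * v) := hw
      have hw2 : p ∣ orderOf ((u' : G) * v') := hw'
      have e3 : g.out * ((u : G) * v) * g.out⁻¹ = g'.out * ((u' : G) * v') * g'.out⁻¹ := by
        calc g.out * ((u : G) * v) * g.out⁻¹ = (g.out * (u : G) * g.out⁻¹) * (g.out * (v : G) * g.out⁻¹) := by group
          _ = (g'.out * (u' : G) * g'.out⁻¹) * (g'.out * (v' : G) * g'.out⁻¹) := by rw [e1, e2]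
          _ = g'.out * ((u' : G) * v') * g'.out⁻¹ := by group
      have m1 := mem_zpowers_of_dvd hp hx hsq (hJc u v) hw1
      have m2 := mem_zpowers_of_dvd hp hx hsq (hJc u' v') hw2
      -- both conjugates of `x` are powers of the same element
      have e4 : g.out⁻¹ * g'.out ∈ NN x := by
        set a := g.out
        set b := g'.out
        set w := a * ((u : G) * v) * a⁻¹ with hwd
        have n1 : a * x * a⁻¹ ∈ zpowers w := by
          obtain ⟨j, hj⟩ := m1
          refine ⟨j, ?_⟩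
          change w ^ j = a * x * a⁻¹
          have hj' : ((u : G) * v) ^ j = x := hj
          rw [hwd, conj_zpow, hj']
        have n2 : b * x * b⁻¹ ∈ zpowers w := by
          obtain ⟨j, hj⟩ := m2
          refine ⟨j, ?_⟩
          change w ^ j = b * x * b⁻¹
          have hj' : ((u' : G) * v') ^ j = x := hj
          rw [e3, conj_zpow, hj']
        have o1 : orderOf (a * x * a⁻¹) = p := (hconj a x).trans hx
        have o2 : orderOf (b * x * b⁻¹) = p := (hconj b x).trans hx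
        have n3 : b * x * b⁻¹ ∈ zpowers (a * x * a⁻¹) := by
          refine mem_zpowers_of_dvd hp o2 hsq ?_ (by rw [o1])
          obtain ⟨j1, hj1⟩ := n1
          obtain ⟨j2, hj2⟩ := n2
          have hj1' : w ^ j1 = a * x * a⁻¹ := hj1
          have hj2' : w ^ j2 = b * x * b⁻¹ := hj2
          rw [← hj1', ← hj2', ← zpow_add, ← zpow_add, add_comm]
        have key : ∀ y ∈ zpowers x, (a⁻¹ * b) * y * (a⁻¹ * b)⁻¹ ∈ zpowers x := by
          rintro _ ⟨j, rfl⟩
          obtain ⟨l, hl⟩ := n3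
          have hl' : (a * x * a⁻¹) ^ l = b * x * b⁻¹ := hl
          refine ⟨l * j, ?_⟩
          change x ^ (l * j) = (a⁻¹ * b) * x ^ j * (a⁻¹ * b)⁻¹
          have h6 : (a⁻¹ * b) * x * (a⁻¹ * b)⁻¹ = x ^ l := by
            calc (a⁻¹ * b) * x * (a⁻¹ * b)⁻¹ = a⁻¹ * (b * x * b⁻¹) * a := by group
              _ = a⁻¹ * (a * x * a⁻¹) ^ l * a := by rw [hl']
              _ = x ^ l := by rw [conj_zpow]; group
          rw [← conj_zpow, h6, ← zpow_mul]
        exact mem_normalizer_fintype key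
      have e5 : g = g' := by
        rw [← QuotientGroup.out_eq' g, ← QuotientGroup.out_eq' g']
        exact QuotientGroup.eq.2 e4
      subst e5
      have e6 : u = u' := Subtype.ext (mul_left_cancel (mul_right_cancel e1))
      have e7 : v = v' := Subtype.ext (mul_left_cancel (mul_right_cancel e2))
      subst e6
      subst e7
      rfl
  -- the conclusion
  have hC := card_cent_le (x := x) ht hinv
  set j := Nat.card (JJ x)
  set F := Nat.card ↥(centralizer ({x} : Set G) ⊓ centralizer ({t} : Set G) : Subgroup G)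
  set c := Nat.card ↥(centralizer ({x} : Set G))
  have h1 : (p - 1) * j ^ 2 ≤ p * Nat.card W := by
    have h2 : p * Nat.card W + p * Nat.card W' = p * j ^ 2 := by rw [← mul_add, hWW]
    have h3 : (p - 1) * j ^ 2 + j ^ 2 = p * j ^ 2 := by
      have : p - 1 + 1 = p := Nat.sub_add_cancel hp.one_lt.le
      calc (p - 1) * j ^ 2 + j ^ 2 = (p - 1 + 1) * j ^ 2 := by ring
        _ = p * j ^ 2 := by rw [this]
    have h4 : p * Nat.card W' ≤ j ^ 2 := by rw [mul_comm]; exact hW'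
    omega
  calc (NN x).index * ((p - 1) * c ^ 2) ≤ (NN x).index * ((p - 1) * (j * F) ^ 2) :=
        Nat.mul_le_mul_left _ (Nat.mul_le_mul_left _ (Nat.pow_le_pow_left hC 2))
    _ = (NN x).index * ((p - 1) * j ^ 2) * F ^ 2 := by ring
    _ ≤ (NN x).index * (p * Nat.card W) * F ^ 2 := Nat.mul_le_mul_right _ (Nat.mul_le_mul_left _ h1)
    _ = p * ((NN x).index * Nat.card W) * F ^ 2 := by ring
    _ ≤ p * i ^ 2 * F ^ 2 := Nat.mul_le_mul_right _ (Nat.mul_le_mul_left _ hW)

end Bound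

/-- `N(⟨x⟩) = C(x) (N(⟨x⟩) ∩ C(t))` -/
theorem norm_dvd {x t : G} {p : ℕ} (hp : p.Prime) (hx : orderOf x = p)
    (h2 : Odd (Nat.card ↥(centralizer ({x} : Set G)))) (ht : orderOf t = 2) (hinv : t * x * t⁻¹ = x⁻¹) :
    Nat.card ↥(NN x) ∣ Nat.card ↥(centralizer ({x} : Set G)) *
      Nat.card ↥(NN x ⊓ centralizer ({t} : Set G) : Subgroup G) := by
  have htt : t * t = 1 := by rw [← pow_two, ← ht, pow_orderOf_eq_one]
  have hti : t⁻¹ = t := inv_eq_of_mul_eq_one_left htt
  set C := centralizer ({x} : Set G) with hC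
  set D := NN x ⊓ centralizer ({t} : Set G) with hD
  have hCN : C ≤ NN x := cent_le_NN x
  -- a decomposition
  have key : ∀ g ∈ NN x, ∃ c ∈ C, c⁻¹ * g ∈ D := by
    intro g hg
    -- `g t g⁻¹ t` is in `C`
    obtain ⟨k, hk⟩ := (mem_normalizer_iff.1 (inv_mem hg) x).1 (mem_zpowers x)
    have hk' : x ^ k = g⁻¹ * x * g := by
      rw [inv_inv] at hk
      exact hk
    have hg' : g * x ^ k * g⁻¹ = x := by rw [hk']; group
    have h4 : (g * t * g⁻¹) * x * (g * t * g⁻¹)⁻¹ = x⁻¹ := by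
      calc (g * t * g⁻¹) * x * (g * t * g⁻¹)⁻¹ = g * (t * (g⁻¹ * x * g) * t⁻¹) * g⁻¹ := by group
        _ = g * (t * x ^ k * t⁻¹) * g⁻¹ := by rw [hk']
        _ = g * (x ^ k)⁻¹ * g⁻¹ := by rw [← conj_zpow, hinv, inv_zpow]
        _ = (g * x ^ k * g⁻¹)⁻¹ := by group
        _ = x⁻¹ := by rw [hg']
    have h5 : g * t * g⁻¹ * t ∈ C := by
      rw [hC, mem_centralizer_singleton_iff]
      have h6 : t * x = x⁻¹ * t := by rw [← hinv]; group
      have h7 : (g * t * g⁻¹) * x⁻¹ = x * (g * t * g⁻¹) := by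
        have h8 : (g * t * g⁻¹) * x⁻¹ * (g * t * g⁻¹)⁻¹ = x := by
          calc (g * t * g⁻¹) * x⁻¹ * (g * t * g⁻¹)⁻¹ = ((g * t * g⁻¹) * x * (g * t * g⁻¹)⁻¹)⁻¹ := by group
            _ = x := by rw [h4, inv_inv]
        calc (g * t * g⁻¹) * x⁻¹ = ((g * t * g⁻¹) * x⁻¹ * (g * t * g⁻¹)⁻¹) * (g * t * g⁻¹) := by group
          _ = x * (g * t * g⁻¹) := by rw [h8]
      calc g * t * g⁻¹ * t * x = g * t * g⁻¹ * (t * x) := by group
        _ = (g * t * g⁻¹ * x⁻¹) * t := by rw [h6]; group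
        _ = x * (g * t * g⁻¹ * t) := by rw [h7]; group
    obtain ⟨c, hc, hct⟩ := Cfsg.Agent.SporRec.LyFiveCore.exists_conj_of_coset (H := C) h2 htt h5 (by
      calc g * t * g⁻¹ * t * t * (g * t * g⁻¹ * t * t) = g * t * g⁻¹ * (t * t) * (g * t * g⁻¹) * (t * t) := by group
        _ = g * t * (g⁻¹ * g) * (t * g⁻¹) := by rw [htt, mul_one, mul_one]; group
        _ = g * (t * t) * g⁻¹ := by group
        _ = 1 := by rw [htt]; group)
    have h6 : c * t * c⁻¹ = g * t * g⁻¹ := by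
      rw [hct]
      calc g * t * g⁻¹ * t * t = g * t * g⁻¹ * (t * t) := by group
        _ = g * t * g⁻¹ := by rw [htt, mul_one]
    refine ⟨c, hc, (NN x).mul_mem ((NN x).inv_mem (hCN hc)) hg, mem_centralizer_singleton_iff.2 ?_⟩
    calc c⁻¹ * g * t = c⁻¹ * (g * t * g⁻¹) * g := by group
      _ = c⁻¹ * (c * t * c⁻¹) * g := by rw [h6]
      _ = t * (c⁻¹ * g) := by group
  -- `C` is normal in `N`
  have hnorm : ∀ g ∈ NN x, ∀ c ∈ C, g * c * g⁻¹ ∈ C := by
    intro g hg c hc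
    rw [hC, mem_centralizer_singleton_iff] at hc ⊢
    have h1 : g⁻¹ * x * g ∈ zpowers x := by
      have := (mem_normalizer_iff.1 (inv_mem hg) x).1 (mem_zpowers x)
      rwa [inv_inv] at this
    obtain ⟨i, hi⟩ := h1
    have hi' : x ^ i = g⁻¹ * x * g := hi
    have h2 : c * (g⁻¹ * x * g) = (g⁻¹ * x * g) * c := by
      rw [← hi']
      exact ((show Commute c x from hc).zpow_right i).eq
    calc g * c * g⁻¹ * x = g * (c * (g⁻¹ * x * g)) * g⁻¹ := by group
      _ = g * ((g⁻¹ * x * g) * c) * g⁻¹ := by rw [h2]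
      _ = x * (g * c * g⁻¹) := by group
  have hsup : C.subgroupOf (NN x) ⊔ D.subgroupOf (NN x) = ⊤ := by
    rw [eq_top_iff]
    rintro ⟨g, hg⟩ -
    obtain ⟨c, hc, hcg⟩ := key g hg
    have h1 : (⟨g, hg⟩ : ↥(NN x)) = ⟨c, hCN hc⟩ * ⟨c⁻¹ * g, hcg.1⟩ := Subtype.ext (by change g = c * (c⁻¹ * g); group)
    rw [h1]
    exact mul_mem (mem_sup_left (mem_subgroupOf.2 hc)) (mem_sup_right (mem_subgroupOf.2 hcg))
  have hCn : (C.subgroupOf (NN x)).Normal := by
    refine ⟨fun c hc g => ?_⟩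
    rw [mem_subgroupOf] at hc ⊢
    exact hnorm g g.2 c hc
  have h3 : (C.subgroupOf (NN x)).index = (C.subgroupOf (NN x)).relIndex (D.subgroupOf (NN x)) := by
    rw [← relIndex_top_right, ← hsup, sup_comm, relIndex_sup_right]
  have h4 : (C.subgroupOf (NN x)).index ∣ Nat.card ↥D := by
    rw [h3, ← Nat.card_congr (Subgroup.subgroupOfEquivOfLe (show D ≤ NN x from inf_le_left)).toEquiv]
    exact relIndex_dvd_card _ _
  have h5 := Subgroup.card_mul_index (C.subgroupOf (NN x))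
  rw [Nat.card_congr (Subgroup.subgroupOfEquivOfLe hCN).toEquiv] at h5
  rw [← h5]
  exact Nat.mul_dvd_mul_left _ h4

end Cfsg.Agent.H513.PairBound
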