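import Cfsg.Agent.H630.CJ.Two
import Cfsg.Agent.H468.PW.HN
import Cfsg.Agent.H468.PW.Th
import Cfsg.Agent.H845.HNNineteen
import Cfsg.Agent.H965.ASSporC
import Cfsg.Agent.H799.PB.Ly67
import Cfsg.Agent.H121.Cyc.SLy

/-!
# S4792: the rows HN, Th, Ly (helper513)
-/

set_option autoImplicit false

namespace Cfsg.Agent.H513.ConjRow

open Subgroup Cfsg Cfsg.Agent.H430.Conj
open Cfsg.Agent.H408.SporEng (Self)

universe u

/-- self-centralising element of order `p`, all irreducible degrees `≥ 2` are `≥ d > p - 1` -/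
theorem row_of_min {G : Type u} [Group G] [Finite G] [IsSimpleGroup G] (hna : ¬ IsMulCommutative G) {p d : ℕ}
    (hp : p.Prime) (h2 : 2 < p) (hpd : p ≤ d) (hm : H514.DP.MinDeg G d)
    (hL : ¬ Nonempty (G ≃* Matrix.ProjectiveSpecialLinearGroup (Fin 2) (ZMod p))) (hs : Self p G) : Row G := by
  refine H630.CJ.row_of_deg hna hp hL hs fun ρ hρ => ?_
  have := hm (p - 1) ρ hρ (by omega)
  omega

theorem not_psl {G : Type u} [Group G] {p : ℕ} [Fact p.Prime] (hodd : Odd p)
    (hc : Nat.card G * 2 ≠ p * (p ^ 2 - 1)) :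
    ¬ Nonempty (G ≃* Matrix.ProjectiveSpecialLinearGroup (Fin 2) (ZMod p)) := by
  rintro ⟨e⟩
  have hodd : Odd (Fintype.card (ZMod p)) := by
    rwa [ZMod.card]
  have h1 := Cfsg.Agent.ClassicalGeometry.PSL2Basic.card_PSL2_odd (ZMod p) hodd
  rw [← Nat.card_congr e.toEquiv, ZMod.card] at h1
  exact hc h1

theorem row_HN : Row Spor.HN := by
  have hs : IsSimpleGroup Spor.HN := Cfsg.Agent.S1701.result.1
  have hfin := Cfsg.Agent.H463.Sp.HN.finite_HN
  have hcard : Nat.card Spor.HN = 273030912000000 := Cfsg.Agent.S1701.result.2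
  have := Fact.mk (show Nat.Prime 19 by norm_num)
  exact row_of_min (H408.SporEng.not_comm (by rw [hcard]; norm_num)) (p := 19) (d := 25) (by norm_num)
    (by norm_num) (by norm_num) H468.PW.HNP.minDeg
    (not_psl (by decide) (by rw [hcard]; norm_num)) H845.HNNineteen.hn_nineteen

theorem row_hn {G : Type u} [Group G] [Finite G] (_hs : IsSimpleGroup G) (h : Spor.IsoHN G) : Row G := by
  have hfin := Cfsg.Agent.H463.Sp.HN.finite_HN
  obtain ⟨e⟩ := h
  exact H630.CJ.Row.of_equiv e.symm row_HN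

theorem row_Th : Row Spor.Th := by
  have hs : IsSimpleGroup Spor.Th := Cfsg.Agent.H513.AbTh.simple
  have hfin : Finite Spor.Th := Cfsg.Agent.H513.NilpTh.finite
  have hcard : Nat.card Spor.Th = 90745943887872000 := Cfsg.Agent.H513.NilpTh.card
  have := Fact.mk (show Nat.Prime 19 by norm_num)
  exact row_of_min (H408.SporEng.not_comm (by rw [hcard]; norm_num)) (p := 19) (d := 48) (by norm_num)
    (by norm_num) (by norm_num) H468.PW.ThP.minDeg
    (not_psl (by decide) (by rw [hcard]; norm_num)) H965.AS.self_th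

theorem row_th {G : Type u} [Group G] [Finite G] (_hs : IsSimpleGroup G) (h : Spor.IsoTh G) : Row G := by
  have hfin : Finite Spor.Th := Cfsg.Agent.H513.NilpTh.finite
  obtain ⟨e⟩ := h
  exact H630.CJ.Row.of_equiv e.symm row_Th

theorem self_ly : Self 67 Spor.Ly := by
  have hfin : Finite Cfsg.Spor.Ly := Ly.Setup.finite_ly
  have : Fact (Nat.Prime 67) := ⟨by norm_num⟩
  obtain ⟨x, hx⟩ := exists_prime_orderOf_dvd_card' (G := Cfsg.Spor.Ly) 67 (by rw [Ly.Setup.card_ly]; norm_num)
  refine ⟨x, hx, ?_⟩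
  obtain ⟨k, hk⟩ := IsPGroup.iff_card.1 (H799.PB.Ly67.isPGroup_cent hx)
  have h1 : 67 ∣ Nat.card (centralizer ({x} : Set Spor.Ly)) := by
    rw [← hx]
    exact Subgroup.orderOf_dvd_natCard _ (Subgroup.mem_centralizer_singleton_iff.2 rfl)
  have hG : Nat.card (centralizer ({x} : Set Spor.Ly)) ∣ 51765179004000000 := by
    rw [← Ly.Setup.card_ly]; exact Subgroup.card_subgroup_dvd_card _
  rw [hk] at h1 hG ⊢
  rcases k with _ | _ | k
  · norm_num at h1
  · rfl
  · exfalso
    have : 67 ^ 2 ∣ 51765179004000000 := (pow_dvd_pow 67 (by omega)).trans hG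
    norm_num at this

theorem row_ly {G : Type u} [Group G] [Finite G] (hs : IsSimpleGroup G) (h : Spor.IsoLy G) : Row G := by
  have hcard := NotCT.Orders.ly h
  have hm := H121.Cyc.SLy.ly h
  obtain ⟨e⟩ := h
  exact H630.CJ.row_of_minDeg (H408.SporEng.not_comm (by rw [hcard]; norm_num)) (p := 67) (by norm_num)
    (self_ly.congr e.symm) (hm.mono (by norm_num))

end Cfsg.Agent.H513.ConjRow
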