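import Cfsg.Agent.H536.T5.Prog

/-!
# Straight line programs of packed matrices, cut at intermediate values (helper513)

* `checkV` : run a program and compare results with given values; `checkV_sound` : these values are codes of the results;
* `sim` : a program which computes some results of another program from known results of it; `sim_sound`.
-/

set_option autoImplicit false

namespace Cfsg.Agent.H513.HNCut

open Cfsg.Agent.Lib.PackMat Cfsg.Agent.Lib.PackMatGroup Cfsg.Agent.Lib.PackMatMul
open Cfsg.Agent.H536.T5.Prog

variable {C : Cfg}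

/-- The results with index `a` have code `b`. -/
noncomputable def vlS (ls : List (ℕ × ℕ)) (L : List ℕ) : Bool :=
  List.rec true (fun q _ ih => bif Nat.beq (get L q.1) q.2 then ih else false) ls

/-- Run the program, compare results with given values. -/
noncomputable def checkV (C : Cfg) (ws : List (ℕ × List ℕ)) (ls : List (ℕ × ℕ)) (L : List ℕ) : Bool :=
  bif okS ws L.length then withM C fun f => runS f ws L fun L => vlS ls L else false

theorem vlS_sound {ls : List (ℕ × ℕ)} {LG : List (U C)} {L : List ℕ} (h : List.Forall₂ (CodesR C) LG L)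
    (he : vlS ls L = true) (hr : ∀ i ∈ ls.map Prod.fst, i < L.length) :
    List.Forall₂ (CodesR C) (ls.map fun q => LG.getD q.1 1) (ls.map Prod.snd) := by
  induction ls with
  | nil => exact .nil
  | cons a ls ih =>
    have he' : (bif Nat.beq (get L a.1) a.2 then vlS ls L else false) = true := he
    rcases hb : Nat.beq (get L a.1) a.2 with _ | _
    · rw [hb] at he'; simp at he'
    rw [hb, cond_true] at he'
    refine .cons ?_ (ih he' fun q hq => hr q (List.mem_cons_of_mem _ hq))
    rw [← Nat.eq_of_beq_eq_true hb]
    exact codesR_get h (hr a.1 List.mem_cons_self)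

theorem checkV_sound (hC : Good C) {LG : List (U C)} {L : List ℕ} (h : List.Forall₂ (CodesR C) LG L)
    {ws : List (ℕ × List ℕ)} {ls : List (ℕ × ℕ)} (hc : checkV C ws ls L = true)
    (hr : ∀ i ∈ ls.map Prod.fst, i < ws.length + L.length) :
    List.Forall₂ (CodesR C) (ls.map fun q => (runG ws LG).getD q.1 1) (ls.map Prod.snd) := by
  unfold checkV at hc
  rcases h1 : okS ws L.length with _ | _
  · rw [h1] at hc; simp at hc
  rw [h1, cond_true, withM_eq] at hc
  obtain ⟨L', hL', hk⟩ := runS_sound hC h h1 hc
  refine vlS_sound hL' hk fun q hq => ?_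
  rw [← hL'.length_eq, runG_length, h.length_eq]
  exact hr q hq

theorem forall₂_append {α β : Type*} {R : α → β → Prop} {a c : List α} {b d : List β} (h : List.Forall₂ R a b)
    (h' : List.Forall₂ R c d) : List.Forall₂ R (a ++ c) (b ++ d) := by
  induction h with
  | nil => exact h'
  | cons h1 _ ih => exact .cons h1 ih

/-- `ws` computes the results `ks` of `ws0` from the results `σ`. -/
def sim (ws0 : List (ℕ × List ℕ)) : List (ℕ × List ℕ) → List ℕ → List ℕ → Bool
  | [], [], _ => true
  | w :: ws, k :: ks, σ => decide (k < ws0.length) && ((w.1 :: w.2).all (fun i => decide (i < σ.length)) &&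
      (decide (wordAt ws0 k = (w.1 :: w.2).map fun i => σ.getD i 0) && sim ws0 ws ks (k :: σ)))
  | _, _, _ => false

theorem evG_map_getD {G : Type*} [Group G] (f : ℕ → G) {LG : List G} (hf : ∀ i, f i = LG.getD i 1) (σ : List ℕ) (w : List ℕ)
    (hw : ∀ i ∈ w, i < σ.length) : evG (σ.map f) w = evG LG (w.map fun i => σ.getD i 0) := by
  induction w with
  | nil => rfl
  | cons i w ih =>
    rw [List.map_cons, evG_cons, evG_cons, ih fun j hj => hw j (List.mem_cons_of_mem _ hj)]
    congr 1
    have h1 := hw i List.mem_cons_self
    rw [← hf, List.getD_eq_getElem _ _ (by rw [List.length_map]; exact h1), List.getElem_map, List.getD_eq_getElem _ _ h1]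

theorem sim_sound {G : Type*} [Group G] {ws0 : List (ℕ × List ℕ)} {LG : List G} (f : ℕ → G)
    (hf : ∀ i, f i = (runG ws0 LG).getD i 1) : ∀ (ws : List (ℕ × List ℕ)) (ks σ : List ℕ), sim ws0 ws ks σ = true →
      runG ws (σ.map f) = (ks.reverse ++ σ).map f := by
  intro ws
  induction ws with
  | nil =>
    intro ks σ h
    cases ks with
    | nil => rfl
    | cons k ks => simp [sim] at h
  | cons w ws ih =>
    intro ks σ h
    cases ks with
    | nil => simp [sim] at h
    | cons k ks =>
      unfold sim at h
      simp only [Bool.and_eq_true, decide_eq_true_eq, List.all_eq_true] at h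
      obtain ⟨h1, h2, h3, h4⟩ := h
      rw [runG_cons, evG_map_getD f hf σ _ h2, ← h3, ← runG_word ws0 LG h1 rfl, ← hf, ← List.map_cons, ih ks _ h4]
      simp

end Cfsg.Agent.H513.HNCut
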