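import Cfsg.Agent.H513.HNCert
import Cfsg.Agent.H513.CentTools

/-!
# Centralizers of elements of order 5, 7, 11 of `2.HS.2` (helper513)
-/

set_option autoImplicit false
set_option maxRecDepth 100000

namespace Cfsg.Agent.H513.HNH0

open Cfsg.Agent.HN.Pres Cfsg.Agent.HN.HS100 Cfsg.Agent.HN.P1408 Cfsg.Agent.HN.H0Basic
open Cfsg.Agent.HN.Syl Cfsg.Agent.HN.Classes Cfsg.Agent.HN.ColChain Cfsg.Agent.HN.CentUp
open Cfsg.Agent.CpAutHNFive.HTab Cfsg.Agent.CpAutHNFive.HFacts
open Cfsg.Agent.H513.HNCert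
open Subgroup

theorem cent_le_wset {ws : List (List ℕ)} {g : H0} (h : ∀ w ∈ ws, ∃ k : ℕ, hw w = g ^ k) :
    centralizer ({g} : Set H0) ≤ centralizer (wset ws) := by
  intro c hc
  have hcg : c * g = g * c := mem_centralizer_singleton_iff.1 hc
  rw [mem_centralizer_iff]
  rintro _ ⟨w, hw', rfl⟩
  obtain ⟨k, hk⟩ := h w hw'
  rw [hk]
  exact ((show Commute c g from hcg).pow_right k).eq.symm

theorem card_le_of {ws : List (List ℕ)} {g : H0} {N : ℕ} (h : ∀ w ∈ ws, ∃ k : ℕ, hw w = g ^ k)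
    (hN : Nat.card (cenA ws) ≤ N) : Nat.card ↥(centralizer ({g} : Set H0)) ≤ 2 * N := by
  have := finite_H0
  exact (Nat.card_le_card_of_injective _ (inclusion_injective (cent_le_wset h))).trans (card_centralizer_le hN)

/-- element of order 14 -/
def wr : List ℕ := [3, 1, 4, 3, 0, 3, 3]
/-- element of order 7 -/
def w7 : List ℕ := [3, 1, 4, 3, 0, 3, 3, 3, 1, 4, 3, 0, 3, 3]
/-- element of order 11 -/
def w11 : List ℕ := [3, 4, 2, 4, 0, 3, 3]

theorem w7_eq : hw w7 = hw wr ^ 2 := by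
  rw [show w7 = wr ++ wr from rfl, hw_append, pow_two]

theorem w7_pow : hw w7 ^ 7 = 1 := pow_one_of (by decide +kernel)
theorem w11_pow : hw w11 ^ 11 = 1 := pow_one_of (by decide +kernel)

theorem w7_ne : hw w7 ≠ 1 := by
  rw [← hw_nil]
  exact hw_ne (p := 3) (by decide +kernel) (by decide) (by norm_num) (by decide +kernel)
theorem w11_ne : hw w11 ≠ 1 := by
  rw [← hw_nil]
  exact hw_ne (p := 3) (by decide +kernel) (by decide) (by norm_num) (by decide +kernel)

theorem order_w7 : orderOf (hw w7) = 7 := by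
  have : Fact (Nat.Prime 7) := ⟨by norm_num⟩
  exact orderOf_eq_prime w7_pow w7_ne
theorem order_w11 : orderOf (hw w11) = 11 := by
  have : Fact (Nat.Prime 11) := ⟨by norm_num⟩
  exact orderOf_eq_prime w11_pow w11_ne

theorem card_le_seven : Nat.card ↥(centralizer ({hw w7} : Set H0)) ≤ 28 := by
  refine card_le_of (fun w hw' => ?_) c7_le
  rcases List.mem_cons.1 hw' with rfl | hw'
  · exact ⟨1, by rw [pow_one]; rfl⟩
  rcases List.mem_cons.1 hw' with rfl | hw'
  · refine ⟨2, ?_⟩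
    rw [pow_two, ← hw_append]
    rfl
  · exact absurd hw' List.not_mem_nil

theorem card_le_eleven : Nat.card ↥(centralizer ({hw w11} : Set H0)) ≤ 22 := by
  refine card_le_of (fun w hw' => ?_) c11_le
  rcases List.mem_cons.1 hw' with rfl | hw'
  · exact ⟨1, by rw [pow_one]; rfl⟩
  rcases List.mem_cons.1 hw' with rfl | hw'
  · refine ⟨2, ?_⟩
    rw [pow_two, ← hw_append]
    rfl
  rcases List.mem_cons.1 hw' with rfl | hw'
  · refine ⟨3, ?_⟩
    rw [pow_succ, pow_two, ← hw_append, ← hw_append]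
    rfl
  · exact absurd hw' List.not_mem_nil

theorem card_le_five : Nat.card ↥(centralizer ({hw w1} : Set H0)) ≤ 2000 := by
  refine card_le_of (fun w hw' => ?_) c5_le
  rcases List.mem_cons.1 hw' with rfl | hw'
  · exact ⟨1, by rw [pow_one]; rfl⟩
  · exact absurd hw' List.not_mem_nil

/-! ### `w7` -/

theorem wr_pow : hw wr ^ 14 = 1 := pow_one_of (by decide +kernel)

theorem τ_not_mem_wr : τ ∉ zpowers (hw wr) := by
  intro h
  obtain ⟨k, hk, h1⟩ := mem_zpowers_lt (by norm_num) wr_pow h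
  rw [← hw_rp, ← hw_τ] at h1
  have key : ∀ k < 14, tr [0, 0] 3 ≠ tr (rp k wr) 3 ∨ tr [0, 0] 4 ≠ tr (rp k wr) 4 := by decide +kernel
  have ok : ∀ k < 14, okw (rp k wr) = true := by decide +kernel
  rcases key k hk with h2 | h2
  · exact hw_ne (by decide +kernel) (ok k hk) (by norm_num) h2 h1
  · exact hw_ne (by decide +kernel) (ok k hk) (by norm_num) h2 h1

theorem order_wr : orderOf (hw wr) = 14 := by
  have h1 : orderOf (hw wr) ∣ 14 := orderOf_dvd_of_pow_eq_one wr_pow
  have h2 : ¬ orderOf (hw wr) ∣ 7 := by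
    intro h
    have h3 := orderOf_dvd_iff_pow_eq_one.1 h
    rw [← hw_rp, ← hw_nil] at h3
    exact hw_ne (p := 3) (by decide +kernel) (by decide) (by norm_num) (by decide +kernel) h3
  have h3 : ¬ orderOf (hw wr) ∣ 2 := by
    intro h
    have h4 := orderOf_dvd_iff_pow_eq_one.1 h
    rw [← w7_eq] at h4
    exact w7_ne h4
  have h4 : orderOf (hw wr) ∈ Nat.divisors 14 := Nat.mem_divisors.2 ⟨h1, by norm_num⟩
  have h5 : Nat.divisors 14 = {1, 2, 7, 14} := by decide
  rw [h5] at h4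
  simp only [Finset.mem_insert, Finset.mem_singleton] at h4
  rcases h4 with h4 | h4 | h4 | h4
  · exact absurd (h4.dvd.trans (one_dvd 7)) h2
  · exact absurd h4.dvd h3
  · exact absurd h4.dvd h2
  · exact h4

theorem wr_mem : hw wr ∈ centralizer ({hw w7} : Set H0) := by
  rw [mem_centralizer_singleton_iff, w7_eq]
  exact (Commute.refl (hw wr)).pow_right 2

theorem τ_mem (g : H0) : τ ∈ centralizer ({g} : Set H0) := mem_centralizer_singleton_iff.2 (τ_comm g).symm

/-- **the centralizer of `w7`** -/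
theorem cent_seven : Nat.card ↥(centralizer ({hw w7} : Set H0)) = 28 ∧
    ∀ g ∈ centralizer ({hw w7} : Set H0), ∃ i j : ℤ, g = hw wr ^ i * τ ^ j := by
  have := finite_H0
  obtain ⟨E, hE, hm⟩ := exists_prod (C := ↥(centralizer ({hw w7} : Set H0))) (a := ⟨hw wr, wr_mem⟩) (b := ⟨τ, τ_mem _⟩)
    (Subtype.ext (τ_comm (hw wr))) (by
      rw [inf_comm]
      refine inf_eq_bot_of_prime Nat.prime_two (by rw [← Subgroup.orderOf_coe]; exact order_τ) ?_
      intro h
      obtain ⟨k, hk⟩ := mem_zpowers_iff.1 h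
      exact τ_not_mem_wr (mem_zpowers_iff.2 ⟨k, congrArg Subtype.val hk⟩))
  rw [← Subgroup.orderOf_coe, ← Subgroup.orderOf_coe] at hE
  have hE' : Nat.card ↥E = 28 := by
    rw [hE]
    change orderOf (hw wr) * orderOf τ = 28
    rw [order_wr, order_τ]
  have h1 : E = ⊤ := by
    apply Subgroup.eq_top_of_le_card
    rw [hE']
    exact card_le_seven
  refine ⟨?_, fun g hg => ?_⟩
  · rw [h1, Subgroup.card_top] at hE'
    exact hE'
  · have h2 : (⟨g, hg⟩ : ↥(centralizer ({hw w7} : Set H0))) ∈ E := by rw [h1]; exact mem_top _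
    obtain ⟨i, j, h3⟩ := hm _ h2
    exact ⟨i, j, congrArg Subtype.val h3⟩

theorem card_seven : Nat.card ↥(centralizer ({hw w7} : Set H0)) = 28 := cent_seven.1

theorem comm_seven {a b : H0} (ha : a * hw w7 = hw w7 * a) (hb : b * hw w7 = hw w7 * b) : a * b = b * a := by
  obtain ⟨i, j, rfl⟩ := cent_seven.2 a (mem_centralizer_singleton_iff.2 ha)
  obtain ⟨k, l, rfl⟩ := cent_seven.2 b (mem_centralizer_singleton_iff.2 hb)
  have h1 : ∀ (i j : ℤ), Commute (hw wr ^ i) (τ ^ j) := fun i j =>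
    ((show Commute (hw wr) τ from τ_comm (hw wr)).zpow_left i).zpow_right j
  exact ((((Commute.refl (hw wr)).zpow_left i).zpow_right k).mul_right (h1 i l)).mul_left
    (((h1 k j).symm).mul_right (((Commute.refl τ).zpow_left j).zpow_right l))

theorem pow_seven {a : H0} (ha : a * hw w7 = hw w7 * a) : a ^ 14 = 1 := by
  obtain ⟨i, j, rfl⟩ := cent_seven.2 a (mem_centralizer_singleton_iff.2 ha)
  have h1 : Commute (hw wr ^ i) (τ ^ j) := ((show Commute (hw wr) τ from τ_comm (hw wr)).zpow_left i).zpow_right j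
  have h2 : (hw wr ^ i) ^ 14 = 1 := by
    rw [← zpow_natCast, ← zpow_mul, mul_comm, zpow_mul, zpow_natCast, wr_pow, one_zpow]
  have h3 : (τ ^ j) ^ 14 = 1 := by
    rw [← zpow_natCast, ← zpow_mul, mul_comm, zpow_mul, zpow_natCast, show 14 = 2 * 7 from rfl, pow_mul, τ_sq,
      one_pow, one_zpow]
  rw [h1.mul_pow, h2, h3, one_mul]

/-! ### `w11` -/

theorem card_eleven : Nat.card ↥(centralizer ({hw w11} : Set H0)) = 22 := by
  have := finite_H0
  have h11 : 11 ∣ Nat.card ↥(centralizer ({hw w11} : Set H0)) := CentTools.dvd_cent order_w11 rfl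
  have h2 : 2 ∣ Nat.card ↥(centralizer ({hw w11} : Set H0)) := CentTools.dvd_cent order_τ (τ_comm (hw w11))
  have h22 : 22 ∣ Nat.card ↥(centralizer ({hw w11} : Set H0)) :=
    Nat.Coprime.mul_dvd_of_dvd_of_dvd (by norm_num : Nat.Coprime 2 11) h2 h11
  exact le_antisymm card_le_eleven (Nat.le_of_dvd Nat.card_pos h22)

/-! ### `w1` -/

theorem exists_conj_wz : ∃ (g : H0) (m : ℕ), 1 ≤ m ∧ m < 5 ∧ g⁻¹ * hw wz * g = hw w1 ^ m := by
  have h : ∀ e ∈ tb, e.1 = 0 → e.2.1 = 0 → e.2.2.1 = 1 → tP.getD e.2.2.2.2.2.1 [] = w1 := by decide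
  obtain ⟨e, he, h1, h2, h3⟩ := (tb_cover 0 (by norm_num) 0 (by norm_num) 1 (by norm_num)).resolve_left (by simp)
  obtain ⟨h4, h5, h6, h7⟩ := tb_ok e he
  refine ⟨hw (cwd e), e.2.2.2.2.2.2, h6, h7, ?_⟩
  have h8 := hw_eq h4
  rw [h e he h1 h2 h3, h1, h2, h3, hw_append, hw_append, elw, hw_append, hw_append, hw_rp, hw_rp, hw_rp, hw_rp,
    pow_zero, pow_zero, pow_one, one_mul, one_mul] at h8
  rw [mul_assoc, h8, inv_mul_cancel_left]

theorem dvd_wz : 5 ^ 3 ∣ Nat.card ↥(centralizer ({hw wz} : Set H0)) := by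
  have := finite_H0
  rw [← card_closure c5 d5 z5 z1 cz dz cd]
  apply card_dvd_of_le
  rw [closure_le]
  rintro _ (rfl | rfl)
  · exact mem_centralizer_singleton_iff.2 cz
  · exact mem_centralizer_singleton_iff.2 dz

theorem cent_pow_eq {G : Type*} [Group G] {x : G} {p m : ℕ} (hp : p.Prime) (hx : orderOf x = p) (h1 : 1 ≤ m) (h5 : m < p) :
    centralizer ({x ^ m} : Set G) = centralizer ({x} : Set G) := by
  obtain ⟨k, hk⟩ := exists_pow_eq_self_of_coprime (x := x) (n := m) (by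
    rw [hx]
    exact ((Nat.Prime.coprime_iff_not_dvd hp).2 (fun h => by
      have := Nat.le_of_dvd (by omega) h
      omega)).symm)
  apply le_antisymm
  · intro g hg
    rw [mem_centralizer_singleton_iff] at hg ⊢
    have h2 := ((show Commute g (x ^ m) from hg).pow_right k).eq
    rwa [hk] at h2
  · intro g hg
    rw [mem_centralizer_singleton_iff] at hg ⊢
    exact ((show Commute g x from hg).pow_right m).eq

theorem card_cent_conj {G : Type*} [Group G] (g x : G) : Nat.card ↥(centralizer ({g * x * g⁻¹} : Set G)) =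
    Nat.card ↥(centralizer ({x} : Set G)) := by
  refine Nat.card_congr
    { toFun := fun c => ⟨g⁻¹ * c * g, ?_⟩
      invFun := fun c => ⟨g * c * g⁻¹, ?_⟩
      left_inv := fun c => Subtype.ext (by simp [mul_assoc])
      right_inv := fun c => Subtype.ext (by simp [mul_assoc]) }
  · have h := mem_centralizer_singleton_iff.1 c.2
    rw [mem_centralizer_singleton_iff]
    calc g⁻¹ * c * g * x = g⁻¹ * (c * (g * x * g⁻¹)) * g := by group
      _ = x * (g⁻¹ * c * g) := by rw [h]; group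
  · have h := mem_centralizer_singleton_iff.1 c.2
    rw [mem_centralizer_singleton_iff]
    calc g * c * g⁻¹ * (g * x * g⁻¹) = g * (c * x) * g⁻¹ := by group
      _ = g * x * g⁻¹ * (g * c * g⁻¹) := by rw [h]; group

/-- **`3 ∤ |C(w1)|`** -/
theorem not_three : ¬ 3 ∣ Nat.card ↥(centralizer ({hw w1} : Set H0)) := by
  have := finite_H0
  have h125 : 5 ^ 3 ∣ Nat.card ↥(centralizer ({hw w1} : Set H0)) := by
    obtain ⟨g, m, h1, h5, h⟩ := exists_conj_wz
    have h2 := dvd_wz
    rw [← card_cent_conj g⁻¹, inv_inv, h, cent_pow_eq Nat.prime_five order_w1 h1 h5] at h2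
    exact h2
  have h8 : 8 ∣ Nat.card ↥(centralizer ({hw w1} : Set H0)) := by
    have h1 := mul_order_dvd (C := ↥(centralizer ({hw w1} : Set H0)))
      (a := ⟨hw wq, mem_centralizer_singleton_iff.2 q_comm⟩) (b := ⟨τ, τ_mem _⟩)
      (Subtype.ext (τ_comm (hw wq))) (by
        rw [inf_comm]
        refine inf_eq_bot_of_prime Nat.prime_two (by rw [← Subgroup.orderOf_coe]; exact order_τ) ?_
        intro h
        obtain ⟨k, hk⟩ := mem_zpowers_iff.1 h
        exact τ_not_mem (mem_zpowers_iff.2 ⟨k, congrArg Subtype.val hk⟩))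
    rw [← Subgroup.orderOf_coe, ← Subgroup.orderOf_coe] at h1
    change orderOf (hw wq) * orderOf τ ∣ _ at h1
    rw [order_q, order_τ] at h1
    exact h1
  intro h3
  have h24 : 24 ∣ Nat.card ↥(centralizer ({hw w1} : Set H0)) :=
    Nat.Coprime.mul_dvd_of_dvd_of_dvd (by norm_num : Nat.Coprime 3 8) h3 h8
  have h3000 : 24 * 5 ^ 3 ∣ Nat.card ↥(centralizer ({hw w1} : Set H0)) :=
    Nat.Coprime.mul_dvd_of_dvd_of_dvd (by norm_num) h24 h125
  have h4 := (Nat.le_of_dvd Nat.card_pos h3000).trans card_le_five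
  norm_num at h4

theorem not_three_w3 : ¬ 3 ∣ Nat.card ↥(centralizer ({hw w3} : Set H0)) := by
  rw [card_three]
  norm_num

end Cfsg.Agent.H513.HNH0
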