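import Cfsg.Agent.H513.HNThree

/-!
# Abelian subgroups of the centralizers of the involutions of `HN` (helper513)
-/

set_option autoImplicit false
set_option maxRecDepth 100000

namespace Cfsg.Agent.H513.HNInv

open Subgroup
open Cfsg.Agent.HN.Pres Cfsg.Agent.HN.H0Basic
open Cfsg.Agent.HN.P1408 hiding ψ
open Cfsg.Agent.HN.XWords (W0 W0_sq)
open Cfsg.Agent.HN.NormalH (ψ)
open Cfsg Cfsg.Agent
open Cfsg.Agent.KFacts.HN
open Cfsg.Agent.CpAutHNFive.TFive
open Cfsg.Agent.H498.Ab Cfsg.Agent.H513.AbTools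

/-- `H0 = 2.HS.2` -/
theorem abLE_H0 : AbLE 26636 H0 := by
  have hx : gx ^ 2 ≠ 1 := by
    intro h
    have h1 := CpAutHNFive.HFacts.order_τ
    rw [show τ = gx ^ 2 from rfl, h, orderOf_one] at h1
    norm_num at h1
  have hcard := Cfsg.Agent.HN.H0Basic.card_H0
  have hfin0 := finite_H0
  have hQ := (Cfsg.Agent.HN.DoubleCover.nonempty_Q hcard hx).2
  have hQc := Cfsg.Agent.HN.DoubleCover.card_Q hcard hx
  have hnc : ¬ IsMulCommutative ↥Cfsg.Agent.HN.HS100.Q := by
    intro h
    have h1 := Cfsg.Agent.HN.DoubleCover.center_Q hcard hx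
    have h2 : center ↥Cfsg.Agent.HN.HS100.Q = ⊤ := by
      rw [eq_top_iff]
      intro g _
      exact mem_center_iff.2 fun k => h.is_comm.comm k g
    rw [h2] at h1
    have h3 := congrArg (fun K : Subgroup ↥Cfsg.Agent.HN.HS100.Q => Nat.card ↥K) h1
    change Nat.card ↥(⊤ : Subgroup ↥Cfsg.Agent.HN.HS100.Q) = Nat.card ↥(⊥ : Subgroup ↥Cfsg.Agent.HN.HS100.Q) at h3
    rw [Subgroup.card_top, Subgroup.card_bot, hQc] at h3
    norm_num at h3
  have hfin : Finite ↥Cfsg.Agent.HN.HS100.Q := Nat.finite_of_card_ne_zero (by rw [hQc]; norm_num)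
  have h1 : AbLE 6659 ↥Cfsg.Agent.HN.HS100.Q := abLE_simple hnc (by rw [hQc]; norm_num)
  have h2 : AbLE 13318 ↥Cfsg.Agent.HN.HS100.K :=
    (AbLE.of_hom (c := 2) Cfsg.Agent.HN.DoubleCover.φK (h1.of_injective _ (Subgroup.subtype_injective _))
      (abLE_of_card_le (Cfsg.Agent.HN.DoubleCover.card_ker hcard hx).le)).mono (by norm_num)
  have h3 := AbLE.of_index _ h2
  rw [Cfsg.Agent.HN.HS100.K_index] at h3
  exact h3.mono (by norm_num)

theorem abLE_A5 : AbLE 7 A5 := abLE_alt (by norm_num) (by norm_num [Nat.factorial])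

theorem abLE_LL : AbLE 49 ↥LL := by
  have hfA : Finite A5 := inferInstance
  have h1 : AbLE (7 * 7) (A5 × A5) := by
    refine AbLE.of_hom (MonoidHom.fst A5 A5) (abLE_A5.of_injective _ (Subgroup.subtype_injective _)) ?_
    refine abLE_A5.of_injective ((MonoidHom.snd A5 A5).comp (MonoidHom.fst A5 A5).ker.subtype) ?_
    rw [injective_iff_map_eq_one]
    rintro ⟨⟨a, b⟩, h⟩ h'
    have ha : a = 1 := h
    have hb : b = 1 := h'
    exact Subtype.ext (Prod.ext ha hb)
  have hinj : Function.Injective φ2 := by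
    rintro ⟨a, b⟩ ⟨a', b'⟩ h
    obtain ⟨h1, h2⟩ := φ2_inj (a := a) (b := b) (a' := a') (b' := b') h
    rw [h1, h2]
  exact (h1.congr (MonoidHom.ofInjective hinj)).mono (by norm_num)

/-- `C(W0)` -/
theorem abLE_PP : AbLE 50176 ↥PP := by
  have hfL : Finite Lq := Nat.finite_of_card_ne_zero (by rw [card_Lq]; norm_num)
  have hfP : Finite ↥PP := Nat.finite_of_card_ne_zero (by rw [card_PP]; norm_num)
  have h1 : AbLE 98 Lq := by
    have h2 := AbLE.of_index _ abLE_LL
    rw [index_LL] at h2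
    exact h2.mono (by norm_num)
  exact (AbLE.of_hom ρ (h1.of_injective _ (Subgroup.subtype_injective _))
    (abLE_of_card_le (b := 512) card_ker.le)).mono (by norm_num)

/-- **the centralizers of the involutions** -/
theorem abLE_inv {x : G} (hx : orderOf x = 2) : AbLE 64873 ↥(centralizer ({x} : Set G)) := by
  have hfin : Finite G := inferInstance
  rcases KFacts.HN.Classes.inv_class hx with h | h
  · obtain ⟨g, hg⟩ := isConj_iff.1 h.symm
    have h1 : AbLE 26636 ↥(ψ.range) := abLE_H0.congr (MonoidHom.ofInjective emb.inj)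
    have h2 : AbLE 26636 ↥(centralizer ({ψ τ} : Set G)) := by
      have hle : centralizer ({ψ τ} : Set G) ≤ ψ.range := fun u hu => by
        obtain ⟨v, hv⟩ := emb.cent u (mem_centralizer_singleton_iff.1 hu)
        exact ⟨v, hv⟩
      exact h1.of_injective _ (inclusion_injective hle)
    exact (h2.congr (SporRec.LyType.conjCentEquiv g hg)).mono (by norm_num)
  · obtain ⟨g, hg⟩ := isConj_iff.1 h.symm
    exact (abLE_PP.congr (SporRec.LyType.conjCentEquiv g hg)).mono (by norm_num)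

end Cfsg.Agent.H513.HNInv
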