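import Cfsg.Agent.H536.T5.DataB
import Cfsg.Agent.H513.HNCut
import Cfsg.Agent.H513.HNStrData

/-!
# The Harada-Norton group: strong pairs of elements of order 5, checked in the 133-dimensional representation (helper513)

The four elements `x1, x2, x3, a` of order 5 of `H536.T5`: `x1, x2, x3` are conjugate to their squares, `a` to its inverse;
products of order prime to 5; elements `u`, `v`, `u v` of coprime orders in the groups generated by two of them.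
The straight line program was found by a computer search (tools: helper839, helper536).
-/

set_option autoImplicit false
set_option maxRecDepth 100000

namespace Cfsg.Agent.H513.HNStr

open Cfsg.Agent.HN.XWords (V)
open Cfsg.Agent.Lib.PackMat Cfsg.Agent.Lib.PackMatGroup Cfsg.Agent.Lib.PackMatMul Cfsg.Agent.HN.RepData
open Cfsg.Agent.HN.Rep (L LG gens rho)
open Cfsg.Agent.HN Cfsg.Agent.H536.T5.Prog
open Cfsg.Agent.H536.T5 (g1w g2w zw w2w w3w aa)
open Cfsg.Agent.H513.HNCut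

/-- the straight line program -/
def prog : List (ℕ × List ℕ) := [
  (4, [4]),
  (5, [3, 5, 3, 3, 1, 3, 1, 3, 3, 5, 4, 2, 4, 4, 5]),
  (6, [5, 9, 5, 9, 5, 6, 8, 5, 5, 5, 6]),
  (1, [0, 1, 0, 6]),
  (4, [6, 8, 6, 4, 6, 6, 6, 5, 7, 7, 8, 6, 8, 4, 6, 8, 5]),
  (7, [7, 6, 7, 7, 5]),
  (6, [8, 6, 9, 9, 10, 8, 10, 6, 8]),
  (3, [3]),
  (3, [3]),
  (3, [3]),
  (3, [3]),
  (3, [7]),
  (15, [16, 15, 13, 15, 13, 14, 16, 14, 16, 14, 16]),
  (0, [8]),
  (5, [1]),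
  (17, [16, 17, 16, 17, 17, 17, 15, 18, 18, 15, 17]),
  (0, [10]),
  (7, [1]),
  (19, [21, 21, 22, 20, 20, 18, 21, 21, 22, 20]),
  (0, [12]),
  (9, [1]),
  (23, [23, 23, 21, 21]),
  (0, [26, 29, 0, 28, 26]),
  (0, [0]),
  (0, [0]),
  (0, [29, 32]),
  (4, [30, 32, 4, 33, 30]),
  (0, [0]),
  (0, [0]),
  (0, [33, 35]),
  (4, [33, 0, 32, 0]),
  (27, [0, 27]),
  (23, [22]),
  (0, [0]),
  (0, [0]),
  (0, [0]),
  (30, [2]),
  (0, [0, 0]),
  (0, [0, 1]),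
  (30, [32]),
  (0, [0, 0]),
  (0, [0, 1]),
  (37, [2]),
  (0, [0]),
  (0, [0]),
  (0, [0]),
  (40, [39]),
  (0, [0, 0]),
  (0, [0]),
  (0, [0]),
  (44, [3]),
  (0, [0, 0]),
  (0, [0, 1]),
  (55, [49, 56]),
  (0, [0]),
  (46, [46]),
  (51, [1, 0, 1]),
  (0, [0, 0]),
  (3, [1]),
  (0, [0]),
  (0, [0]),
  (51, [55]),
  (56, [54, 0, 58]),
  (0, [0, 0]),
  (0, [0]),
  (57, [2]),
  (0, [0, 0]),
  (0, [0, 1]),
  (61, [56]),
  (0, [0, 0]),
  (0, [0, 1]),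
  (0, [0]),
  (61, [3]),
  (0, [0, 0]),
  (0, [0, 0]),
  (66, [75, 67, 76]),
  (0, [0, 0]),
  (0, [0, 0]),
  (72, [70]),
  (0, [0]),
  (0, [0, 1]),
  (0, [0, 2]),
  (0, [0]),
  (79, [85, 75, 86]),
  (0, [0, 0])]

/-- the equalities -/
def es : List (ℕ × ℕ) := [(71, 70), (68, 67), (65, 64), (53, 54), (49, 84), (46, 84), (43, 84), (39, 84), (35, 84), (32, 84), (27, 84), (24, 84), (20, 84), (17, 84), (13, 84), (10, 84), (7, 84), (2, 84), (0, 84)]

/-- the inequalities -/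
def ns : List (ℕ × ℕ) := [(52, 84), (45, 84), (38, 84), (16, 84), (9, 84), (6, 84), (1, 84)]

/-- the results 84, ..., 78 -/
def progA : List (ℕ × List ℕ) := [
  (4, [4]),
  (5, [3, 5, 3, 3, 1, 3, 1, 3, 3, 5, 4, 2, 4, 4, 5]),
  (6, [5, 9, 5, 9, 5, 6, 8, 5, 5, 5, 6]),
  (1, [0, 1, 0, 6]),
  (4, [6, 8, 6, 4, 6, 6, 6, 5, 7, 7, 8, 6, 8, 4, 6, 8, 5]),
  (7, [7, 6, 7, 7, 5]),
  (6, [8, 6, 9, 9, 10, 8, 10, 6, 8])]

/-- centralizers of squares -/
def progB : List (ℕ × List ℕ) := [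
  (8, [8]),
  (2, [2]),
  (4, [4]),
  (6, [6]),
  (11, [12, 11, 9, 11, 9, 10, 12, 10, 12, 10, 12]),
  (0, [6]),
  (4, [1]),
  (13, [12, 13, 12, 13, 13, 13, 11, 14, 14, 11, 13]),
  (0, [10]),
  (6, [1]),
  (15, [17, 17, 18, 16, 16, 14, 17, 17, 18, 16]),
  (0, [14]),
  (8, [1]),
  (19, [19, 19, 17, 17]),
  (0, [22, 25, 0, 24, 22]),
  (0, [0]),
  (0, [0]),
  (0, [25, 28]),
  (4, [26, 28, 4, 29, 26]),
  (0, [0]),
  (0, [0]),
  (0, [29, 31]),
  (4, [29, 0, 28, 0]),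
  (23, [0, 23])]

/-- products -/
def progC : List (ℕ × List ℕ) := [
  (8, [8]),
  (1, [1]),
  (3, [3]),
  (5, [5]),
  (7, [7]),
  (3, [5]),
  (3, [2]),
  (0, [0]),
  (0, [0]),
  (0, [0]),
  (12, [2]),
  (0, [0, 0]),
  (0, [0, 1]),
  (10, [16]),
  (0, [0, 0]),
  (0, [0, 1]),
  (17, [2]),
  (0, [0]),
  (0, [0]),
  (0, [0]),
  (22, [23]),
  (0, [0, 0]),
  (0, [0]),
  (0, [0]),
  (26, [3]),
  (0, [0, 0]),
  (0, [0, 1]),
  (33, [27, 34]),
  (0, [0]),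
  (26, [26]),
  (31, [1, 0, 1]),
  (0, [0, 0]),
  (3, [1]),
  (0, [0]),
  (0, [0]),
  (31, [37]),
  (38, [34, 0, 36]),
  (0, [0, 0]),
  (0, [0]),
  (37, [2]),
  (0, [0, 0]),
  (0, [0, 1]),
  (45, [36]),
  (0, [0, 0]),
  (0, [0, 1]),
  (0, [0]),
  (41, [3]),
  (0, [0, 0]),
  (0, [0, 0]),
  (46, [53, 47, 54]),
  (0, [0, 0]),
  (0, [0, 0]),
  (54, [50]),
  (0, [0]),
  (0, [0, 1]),
  (0, [0, 2]),
  (0, [0]),
  (57, [63, 55, 64]),
  (0, [0, 0])]

/-- the indices of the results of `progA` -/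
def ksA : List ℕ := [84, 83, 82, 81, 80, 79, 78]
/-- the indices of the results of `progB` -/
def ksB : List ℕ := [84, 76, 75, 74, 72, 71, 70, 69, 68, 67, 66, 65, 64, 63, 62, 61, 60, 59, 58, 57, 56, 55, 54, 53]
/-- the indices of the results of `progC` -/
def ksC : List ℕ := [84, 77, 76, 75, 74, 73, 52, 51, 50, 49, 48, 47, 46, 45, 44, 43, 42, 41, 40, 39, 38, 37, 36, 35, 34, 33, 32, 31, 30, 29, 28, 27, 26, 25, 24, 23, 22, 21, 20, 19, 18, 17, 16, 15, 14, 13, 12, 11, 10, 9, 8, 7, 6, 5, 4, 3, 2, 1, 0]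
/-- the equalities -/
def esB : List (ℕ × ℕ) := [(18, 17), (15, 14), (12, 11), (0, 1)]
/-- the equalities -/
def esC : List (ℕ × ℕ) := [(49, 58), (46, 58), (43, 58), (39, 58), (35, 58), (32, 58), (27, 58), (24, 58), (20, 58), (17, 58), (13, 58), (10, 58), (7, 58), (2, 58), (0, 58)]
/-- the inequalities -/
def nsC : List (ℕ × ℕ) := [(52, 58), (45, 58), (38, 58), (16, 58), (9, 58), (6, 58), (1, 58)]



theorem chkB : checkS C progB esB [] (vA :: v1 :: v2 :: v3 :: L) = true := by decide +kernel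

theorem chkC : checkS C progC esC nsC (vA :: v1 :: v2 :: v3 :: L) = true := by decide +kernel

/-- the results in the matrix group -/
noncomputable def fR (i : ℕ) : U C := (runG prog LG).getD i 1

/-- the indices of the letters -/
def lI : List ℕ := [85, 86, 87, 88, 89, 90, 91, 92]

theorem map_lI : lI.map fR = LG := by
  have h : ∀ k, fR (85 + k) = LG.getD k 1 := fun k => runG_getD_add prog LG k
  have h1 : lI = (List.range 8).map (85 + ·) := by decide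
  have h2 : (List.range 8).map (fun k => LG.getD k 1) = LG := by
    unfold LG
    rfl
  rw [h1, List.map_map, ← h2]
  exact List.map_congr_left fun k _ => h k

theorem runA : runG progA LG = (ksA.reverse ++ lI).map fR := by
  have h := sim_sound (ws0 := prog) (LG := LG) fR (fun _ => rfl) progA ksA lI (by decide)
  rwa [map_lI] at h

theorem getD_map {σ : List ℕ} {i : ℕ} (hi : i < σ.length) : (σ.map fR).getD i 1 = fR (σ.getD i 0) := by
  rw [List.getD_eq_getElem _ _ (by rw [List.length_map]; exact hi), List.getElem_map, List.getD_eq_getElem _ _ hi]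

/-- the values -/
def lits (a b c d : ℕ) : List (ℕ × ℕ) := [(3, a), (2, b), (1, c), (0, d)]

theorem lits_fst (a b c d : ℕ) : (lits a b c d).map Prod.fst = [3, 2, 1, 0] := rfl

theorem lits_snd (a b c d : ℕ) : (lits a b c d).map Prod.snd = [a, b, c, d] := rfl

theorem lits_get {α : Type*} (g : ℕ → α) (a b c d : ℕ) : ((lits a b c d).map fun q => g q.1) = [g 3, g 2, g 1, g 0] := rfl

theorem codes_of {a b c d : ℕ} (hc : checkV C progA (lits a b c d) L = true) :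
    List.Forall₂ (CodesR C) ([81, 80, 79, 78].map fR ++ lI.map fR) ([a, b, c, d] ++ L) := by
  have h := checkV_sound (good_of_check Rep.good) A12Group.codesR hc (by rw [lits_fst]; decide)
  rw [runA, lits_snd, lits_get (fun i => ((ksA.reverse ++ lI).map fR).getD i 1)] at h
  refine forall₂_append ?_ (by rw [map_lI]; exact A12Group.codesR)
  have e1 : [81, 80, 79, 78].map fR = [((ksA.reverse ++ lI).map fR).getD 3 1, ((ksA.reverse ++ lI).map fR).getD 2 1,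
      ((ksA.reverse ++ lI).map fR).getD 1 1, ((ksA.reverse ++ lI).map fR).getD 0 1] := by
    rw [getD_map (by decide), getD_map (by decide), getD_map (by decide), getD_map (by decide)]
    rfl
  rw [e1]
  exact h

theorem chkA : checkV C progA (lits vA v1 v2 v3) L = true := by decide +kernel

theorem codesA : List.Forall₂ (CodesR C) ((81 :: 80 :: 79 :: 78 :: lI).map fR) (vA :: v1 :: v2 :: v3 :: L) :=
  codes_of chkA

/-- the indices of the results of the second part -/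
def sB : List ℕ := ksB.reverse ++ 81 :: 80 :: 79 :: 78 :: lI

/-- the indices of the results of the third part -/
def sC : List ℕ := ksC.reverse ++ 81 :: 80 :: 79 :: 78 :: lI

theorem soundB : ∀ q ∈ esB, fR (sB.getD q.1 0) = fR (sB.getD q.2 0) := by
  have h := (checkS_sound (good_of_check Rep.good) codesA chkB (by decide)).1
  rw [sim_sound (ws0 := prog) (LG := LG) fR (fun _ => rfl) progB ksB (81 :: 80 :: 79 :: 78 :: lI) (by decide)] at h
  intro q hq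
  have hl : ∀ q ∈ esB, q.1 < sB.length ∧ q.2 < sB.length := by decide
  rw [← getD_map (hl q hq).1, ← getD_map (hl q hq).2]
  exact h q hq

theorem soundC : (∀ q ∈ esC, fR (sC.getD q.1 0) = fR (sC.getD q.2 0)) ∧
    (∀ q ∈ nsC, fR (sC.getD q.1 0) ≠ fR (sC.getD q.2 0)) := by
  have h := checkS_sound (good_of_check Rep.good) codesA chkC (by decide)
  rw [sim_sound (ws0 := prog) (LG := LG) fR (fun _ => rfl) progC ksC (81 :: 80 :: 79 :: 78 :: lI) (by decide)] at h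
  have hl : ∀ q ∈ esC ++ nsC, q.1 < sC.length ∧ q.2 < sC.length := by decide
  refine ⟨fun q hq => ?_, fun q hq => ?_⟩
  · have hq' := hl q (List.mem_append_left _ hq)
    rw [← getD_map hq'.1, ← getD_map hq'.2]
    exact h.1 q hq
  · have hq' := hl q (List.mem_append_right _ hq)
    rw [← getD_map hq'.1, ← getD_map hq'.2]
    exact h.2 q hq

theorem es_eq : es = esB.map (fun q => (sB.getD q.1 0, sB.getD q.2 0)) ++ esC.map (fun q => (sC.getD q.1 0, sC.getD q.2 0)) := by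
  decide

theorem ns_eq : ns = nsC.map (fun q => (sC.getD q.1 0, sC.getD q.2 0)) := by decide

theorem sound : (∀ q ∈ es, (runG prog LG).getD q.1 1 = (runG prog LG).getD q.2 1) ∧
    (∀ q ∈ ns, (runG prog LG).getD q.1 1 ≠ (runG prog LG).getD q.2 1) := by
  refine ⟨fun q hq => ?_, fun q hq => ?_⟩
  · rw [es_eq] at hq
    rcases List.mem_append.1 hq with hq | hq
    · obtain ⟨a, ha, rfl⟩ := List.mem_map.1 hq
      exact soundB a ha
    · obtain ⟨a, ha, rfl⟩ := List.mem_map.1 hq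
      exact soundC.1 a ha
  · rw [ns_eq] at hq
    obtain ⟨a, ha, rfl⟩ := List.mem_map.1 hq
    exact soundC.2 a ha

/-- the results in the presented group -/
noncomputable def R (i : ℕ) : Cfsg.Spor.HN := (runG prog gens).getD i 1

theorem rho_R (i : ℕ) : rho (R i) = (runG prog LG).getD i 1 := by
  unfold R
  rw [← Rep.gens_map, runG_map, List.getD_eq_getElem?_getD, List.getD_eq_getElem?_getD, List.getElem?_map]
  cases (runG prog gens)[i]? with
  | none => simp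
  | some b => simp

theorem mul_evG (g : Cfsg.Spor.HN) (w : List ℕ) :
    g * evG (runG prog gens) w = w.foldl (fun g j => g * R j) g := by
  induction w generalizing g with
  | nil => rw [evG_nil, mul_one]; rfl
  | cons i w ih => rw [evG_cons, ← mul_assoc, ih]; rfl

/-- the steps -/
theorem st (k i : ℕ) (w : List ℕ) (hk : k < prog.length) (h : wordAt prog k = i :: w) :
    R k = w.foldl (fun g j => g * R j) (R i) := by
  rw [← mul_evG]
  exact runG_word prog gens hk h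

/-- the words in the letters -/
theorem sw (k : ℕ) (w : List ℕ) (hk : k < prog.length) (h : wordAt prog k = w.map (· + 85)) : R k = V w := by
  have e : R k = evG (runG prog gens) (w.map (· + 85)) := runG_word prog gens hk h
  rw [e, V]
  refine evG_shift (fun c => ?_) w
  rw [add_comm]
  exact runG_getD_add prog gens c

/-- the letters -/
theorem lt (k : ℕ) : R (85 + k) = gens.getD k 1 := runG_getD_add prog gens k

theorem eqn (i j : ℕ) (h : (i, j) ∈ es) : R i = R j := by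
  have : IsSimpleGroup Cfsg.Spor.HN := Cfsg.Agent.S1701.result.1
  exact A12Group.rho_injective (by rw [rho_R, rho_R]; exact sound.1 (i, j) h)

theorem neq (i j : ℕ) (h : (i, j) ∈ ns) : R i ≠ R j := fun e =>
  sound.2 (i, j) h (by rw [← rho_R, ← rho_R, e])

theorem mul_pw {G : Type*} [Group G] {x a b : G} {i j : ℕ} (ha : a = x ^ i) (hb : b = x ^ j) : a * b = x ^ (i + j) := by
  rw [ha, hb, pow_add]

theorem v_one : R 84 = V [4, 4] := sw 84 [4, 4] (by decide) (by decide)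
theorem v_G1 : R 83 = V g1w := sw 83 g1w (by decide) (by decide)
theorem v_G2 : R 82 = V g2w := sw 82 g2w (by decide) (by decide)
theorem v_x1 : R 80 = V zw := sw 80 zw (by decide) (by decide)
theorem v_x2 : R 79 = V w2w := sw 79 w2w (by decide) (by decide)
theorem v_x3 : R 78 = V w3w := sw 78 w3w (by decide) (by decide)
theorem one : R 84 = 1 := by
  rw [v_one]
  change _ * (_ * 1) = 1
  rw [mul_one]; exact XWords.zz
theorem s_a : R 81 = R 83 * R 82 * R 83 * R 82 * R 88 := st 81 83 [82, 83, 82, 88] (by decide) (by decide)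
theorem v_a : R 81 = aa := by
  have e3 : R 88 = V [3] := by rw [lt 3]; exact (mul_one _).symm
  rw [s_a, v_G1, v_G2, e3]; rfl
theorem s_x1s : R 76 = R 80 * R 80 := st 76 80 [80] (by decide) (by decide)
theorem s_x2s : R 75 = R 79 * R 79 := st 75 79 [79] (by decide) (by decide)
theorem s_x3s : R 74 = R 78 * R 78 := st 74 78 [78] (by decide) (by decide)
theorem s_as : R 77 = R 81 * R 81 := st 77 81 [81] (by decide) (by decide)
theorem s_a3 : R 73 = R 77 * R 81 := st 73 77 [81] (by decide) (by decide)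
theorem s_cl1 : R 71 = R 72 * R 80 := st 71 72 [80] (by decide) (by decide)
theorem s_cr1 : R 70 = R 76 * R 72 := st 70 76 [72] (by decide) (by decide)
theorem s_cl2 : R 68 = R 69 * R 79 := st 68 69 [79] (by decide) (by decide)
theorem s_cr2 : R 67 = R 75 * R 69 := st 67 75 [69] (by decide) (by decide)
theorem s_cl3 : R 65 = R 66 * R 78 := st 65 66 [78] (by decide) (by decide)
theorem s_cr3 : R 64 = R 74 * R 66 := st 64 74 [66] (by decide) (by decide)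
theorem s_aha : R 53 = R 81 * R 54 * R 81 := st 53 81 [54, 81] (by decide) (by decide)
theorem s_s12 : R 52 = R 76 * R 75 := st 52 76 [75] (by decide) (by decide)
theorem s_v12 : R 51 = R 52 * R 52 := st 51 52 [52] (by decide) (by decide)
theorem s_u12 : R 48 = R 79 * R 51 := st 48 79 [51] (by decide) (by decide)
theorem s_v13 : R 45 = R 76 * R 78 := st 45 76 [78] (by decide) (by decide)
theorem s_u13 : R 42 = R 80 * R 45 := st 42 80 [45] (by decide) (by decide)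
theorem s_v23 : R 38 = R 79 * R 78 := st 38 79 [78] (by decide) (by decide)
theorem s_u23 : R 34 = R 79 * R 38 := st 34 79 [38] (by decide) (by decide)
theorem s_y : R 31 = R 87 * R 81 * R 88 := st 31 87 [81, 88] (by decide) (by decide)
theorem s_ys : R 30 = R 31 * R 31 := st 30 31 [31] (by decide) (by decide)
theorem s_x1i : R 29 = R 76 * R 76 := st 29 76 [76] (by decide) (by decide)
theorem s_v1a : R 28 = R 80 * R 30 * R 29 * R 30 := st 28 80 [30, 29, 30] (by decide) (by decide)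
theorem s_u1a : R 26 = R 30 * R 28 := st 26 30 [28] (by decide) (by decide)
theorem s_x2c : R 23 = R 75 * R 79 := st 23 75 [79] (by decide) (by decide)
theorem s_v2a : R 22 = R 79 * R 77 * R 23 * R 81 := st 22 79 [77, 23, 81] (by decide) (by decide)
theorem s_u2a : R 19 = R 77 * R 22 := st 19 77 [22] (by decide) (by decide)
theorem s_v3a : R 16 = R 78 * R 73 := st 16 78 [73] (by decide) (by decide)
theorem s_u3a : R 12 = R 74 * R 16 := st 12 74 [16] (by decide) (by decide)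
theorem s_q1a : R 9 = R 76 * R 85 * R 77 * R 86 := st 9 76 [85, 77, 86] (by decide) (by decide)
theorem s_q2a : R 6 = R 79 * R 77 := st 6 79 [77] (by decide) (by decide)
theorem s_qaa : R 1 = R 81 * R 87 * R 77 * R 88 := st 1 81 [87, 77, 88] (by decide) (by decide)
theorem p_v12_1 : R 51 = R 51 ^ 1 := (pow_one _).symm
theorem s_v12_2 : R 50 = R 51 * R 51 := st 50 51 [51] (by decide) (by decide)
theorem p_v12_2 : R 50 = R 51 ^ 2 := s_v12_2.trans (mul_pw p_v12_1 p_v12_1)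
theorem s_v12_4 : R 49 = R 50 * R 50 := st 49 50 [50] (by decide) (by decide)
theorem p_v12_4 : R 49 = R 51 ^ 4 := s_v12_4.trans (mul_pw p_v12_2 p_v12_2)
theorem o_v12 : R 51 ^ 4 = 1 := by rw [← p_v12_4, eqn 49 84 (by decide), one]
theorem p_u12_1 : R 48 = R 48 ^ 1 := (pow_one _).symm
theorem s_u12_3 : R 47 = R 48 * R 48 * R 48 := st 47 48 [48, 48] (by decide) (by decide)
theorem p_u12_3 : R 47 = R 48 ^ 3 := s_u12_3.trans (mul_pw (mul_pw p_u12_1 p_u12_1) p_u12_1)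
theorem s_u12_7 : R 46 = R 47 * R 47 * R 48 := st 46 47 [47, 48] (by decide) (by decide)
theorem p_u12_7 : R 46 = R 48 ^ 7 := s_u12_7.trans (mul_pw (mul_pw p_u12_3 p_u12_3) p_u12_1)
theorem o_u12 : R 48 ^ 7 = 1 := by rw [← p_u12_7, eqn 46 84 (by decide), one]
theorem p_v13_1 : R 45 = R 45 ^ 1 := (pow_one _).symm
theorem s_v13_3 : R 44 = R 45 * R 45 * R 45 := st 44 45 [45, 45] (by decide) (by decide)
theorem p_v13_3 : R 44 = R 45 ^ 3 := s_v13_3.trans (mul_pw (mul_pw p_v13_1 p_v13_1) p_v13_1)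
theorem s_v13_7 : R 43 = R 44 * R 44 * R 45 := st 43 44 [44, 45] (by decide) (by decide)
theorem p_v13_7 : R 43 = R 45 ^ 7 := s_v13_7.trans (mul_pw (mul_pw p_v13_3 p_v13_3) p_v13_1)
theorem o_v13 : R 45 ^ 7 = 1 := by rw [← p_v13_7, eqn 43 84 (by decide), one]
theorem p_u13_1 : R 42 = R 42 ^ 1 := (pow_one _).symm
theorem s_u13_2 : R 41 = R 42 * R 42 := st 41 42 [42] (by decide) (by decide)
theorem p_u13_2 : R 41 = R 42 ^ 2 := s_u13_2.trans (mul_pw p_u13_1 p_u13_1)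
theorem s_u13_4 : R 40 = R 41 * R 41 := st 40 41 [41] (by decide) (by decide)
theorem p_u13_4 : R 40 = R 42 ^ 4 := s_u13_4.trans (mul_pw p_u13_2 p_u13_2)
theorem s_u13_8 : R 39 = R 40 * R 40 := st 39 40 [40] (by decide) (by decide)
theorem p_u13_8 : R 39 = R 42 ^ 8 := s_u13_8.trans (mul_pw p_u13_4 p_u13_4)
theorem o_u13 : R 42 ^ 8 = 1 := by rw [← p_u13_8, eqn 39 84 (by decide), one]
theorem p_v23_1 : R 38 = R 38 ^ 1 := (pow_one _).symm
theorem s_v23_3 : R 37 = R 38 * R 38 * R 38 := st 37 38 [38, 38] (by decide) (by decide)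
theorem p_v23_3 : R 37 = R 38 ^ 3 := s_v23_3.trans (mul_pw (mul_pw p_v23_1 p_v23_1) p_v23_1)
theorem s_v23_6 : R 36 = R 37 * R 37 := st 36 37 [37] (by decide) (by decide)
theorem p_v23_6 : R 36 = R 38 ^ 6 := s_v23_6.trans (mul_pw p_v23_3 p_v23_3)
theorem s_v23_12 : R 35 = R 36 * R 36 := st 35 36 [36] (by decide) (by decide)
theorem p_v23_12 : R 35 = R 38 ^ 12 := s_v23_12.trans (mul_pw p_v23_6 p_v23_6)
theorem o_v23 : R 38 ^ 12 = 1 := by rw [← p_v23_12, eqn 35 84 (by decide), one]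
theorem p_u23_1 : R 34 = R 34 ^ 1 := (pow_one _).symm
theorem s_u23_3 : R 33 = R 34 * R 34 * R 34 := st 33 34 [34, 34] (by decide) (by decide)
theorem p_u23_3 : R 33 = R 34 ^ 3 := s_u23_3.trans (mul_pw (mul_pw p_u23_1 p_u23_1) p_u23_1)
theorem s_u23_7 : R 32 = R 33 * R 33 * R 34 := st 32 33 [33, 34] (by decide) (by decide)
theorem p_u23_7 : R 32 = R 34 ^ 7 := s_u23_7.trans (mul_pw (mul_pw p_u23_3 p_u23_3) p_u23_1)
theorem o_u23 : R 34 ^ 7 = 1 := by rw [← p_u23_7, eqn 32 84 (by decide), one]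
theorem p_v1a_1 : R 28 = R 28 ^ 1 := (pow_one _).symm
theorem s_v1a_3 : R 27 = R 28 * R 28 * R 28 := st 27 28 [28, 28] (by decide) (by decide)
theorem p_v1a_3 : R 27 = R 28 ^ 3 := s_v1a_3.trans (mul_pw (mul_pw p_v1a_1 p_v1a_1) p_v1a_1)
theorem o_v1a : R 28 ^ 3 = 1 := by rw [← p_v1a_3, eqn 27 84 (by decide), one]
theorem p_u1a_1 : R 26 = R 26 ^ 1 := (pow_one _).symm
theorem s_u1a_2 : R 25 = R 26 * R 26 := st 25 26 [26] (by decide) (by decide)
theorem p_u1a_2 : R 25 = R 26 ^ 2 := s_u1a_2.trans (mul_pw p_u1a_1 p_u1a_1)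
theorem s_u1a_4 : R 24 = R 25 * R 25 := st 24 25 [25] (by decide) (by decide)
theorem p_u1a_4 : R 24 = R 26 ^ 4 := s_u1a_4.trans (mul_pw p_u1a_2 p_u1a_2)
theorem o_u1a : R 26 ^ 4 = 1 := by rw [← p_u1a_4, eqn 24 84 (by decide), one]
theorem p_v2a_1 : R 22 = R 22 ^ 1 := (pow_one _).symm
theorem s_v2a_3 : R 21 = R 22 * R 22 * R 22 := st 21 22 [22, 22] (by decide) (by decide)
theorem p_v2a_3 : R 21 = R 22 ^ 3 := s_v2a_3.trans (mul_pw (mul_pw p_v2a_1 p_v2a_1) p_v2a_1)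
theorem s_v2a_6 : R 20 = R 21 * R 21 := st 20 21 [21] (by decide) (by decide)
theorem p_v2a_6 : R 20 = R 22 ^ 6 := s_v2a_6.trans (mul_pw p_v2a_3 p_v2a_3)
theorem o_v2a : R 22 ^ 6 = 1 := by rw [← p_v2a_6, eqn 20 84 (by decide), one]
theorem p_u2a_1 : R 19 = R 19 ^ 1 := (pow_one _).symm
theorem s_u2a_3 : R 18 = R 19 * R 19 * R 19 := st 18 19 [19, 19] (by decide) (by decide)
theorem p_u2a_3 : R 18 = R 19 ^ 3 := s_u2a_3.trans (mul_pw (mul_pw p_u2a_1 p_u2a_1) p_u2a_1)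
theorem s_u2a_7 : R 17 = R 18 * R 18 * R 19 := st 17 18 [18, 19] (by decide) (by decide)
theorem p_u2a_7 : R 17 = R 19 ^ 7 := s_u2a_7.trans (mul_pw (mul_pw p_u2a_3 p_u2a_3) p_u2a_1)
theorem o_u2a : R 19 ^ 7 = 1 := by rw [← p_u2a_7, eqn 17 84 (by decide), one]
theorem p_v3a_1 : R 16 = R 16 ^ 1 := (pow_one _).symm
theorem s_v3a_3 : R 15 = R 16 * R 16 * R 16 := st 15 16 [16, 16] (by decide) (by decide)
theorem p_v3a_3 : R 15 = R 16 ^ 3 := s_v3a_3.trans (mul_pw (mul_pw p_v3a_1 p_v3a_1) p_v3a_1)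
theorem s_v3a_7 : R 14 = R 15 * R 15 * R 16 := st 14 15 [15, 16] (by decide) (by decide)
theorem p_v3a_7 : R 14 = R 16 ^ 7 := s_v3a_7.trans (mul_pw (mul_pw p_v3a_3 p_v3a_3) p_v3a_1)
theorem s_v3a_14 : R 13 = R 14 * R 14 := st 13 14 [14] (by decide) (by decide)
theorem p_v3a_14 : R 13 = R 16 ^ 14 := s_v3a_14.trans (mul_pw p_v3a_7 p_v3a_7)
theorem o_v3a : R 16 ^ 14 = 1 := by rw [← p_v3a_14, eqn 13 84 (by decide), one]
theorem p_u3a_1 : R 12 = R 12 ^ 1 := (pow_one _).symm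
theorem s_u3a_3 : R 11 = R 12 * R 12 * R 12 := st 11 12 [12, 12] (by decide) (by decide)
theorem p_u3a_3 : R 11 = R 12 ^ 3 := s_u3a_3.trans (mul_pw (mul_pw p_u3a_1 p_u3a_1) p_u3a_1)
theorem s_u3a_9 : R 10 = R 11 * R 11 * R 11 := st 10 11 [11, 11] (by decide) (by decide)
theorem p_u3a_9 : R 10 = R 12 ^ 9 := s_u3a_9.trans (mul_pw (mul_pw p_u3a_3 p_u3a_3) p_u3a_3)
theorem o_u3a : R 12 ^ 9 = 1 := by rw [← p_u3a_9, eqn 10 84 (by decide), one]
theorem p_q1a_1 : R 9 = R 9 ^ 1 := (pow_one _).symm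
theorem s_q1a_3 : R 8 = R 9 * R 9 * R 9 := st 8 9 [9, 9] (by decide) (by decide)
theorem p_q1a_3 : R 8 = R 9 ^ 3 := s_q1a_3.trans (mul_pw (mul_pw p_q1a_1 p_q1a_1) p_q1a_1)
theorem s_q1a_9 : R 7 = R 8 * R 8 * R 8 := st 7 8 [8, 8] (by decide) (by decide)
theorem p_q1a_9 : R 7 = R 9 ^ 9 := s_q1a_9.trans (mul_pw (mul_pw p_q1a_3 p_q1a_3) p_q1a_3)
theorem o_q1a : R 9 ^ 9 = 1 := by rw [← p_q1a_9, eqn 7 84 (by decide), one]
theorem p_q2a_1 : R 6 = R 6 ^ 1 := (pow_one _).symm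
theorem s_q2a_2 : R 5 = R 6 * R 6 := st 5 6 [6] (by decide) (by decide)
theorem p_q2a_2 : R 5 = R 6 ^ 2 := s_q2a_2.trans (mul_pw p_q2a_1 p_q2a_1)
theorem s_q2a_5 : R 4 = R 5 * R 5 * R 6 := st 4 5 [5, 6] (by decide) (by decide)
theorem p_q2a_5 : R 4 = R 6 ^ 5 := s_q2a_5.trans (mul_pw (mul_pw p_q2a_2 p_q2a_2) p_q2a_1)
theorem s_q2a_11 : R 3 = R 4 * R 4 * R 6 := st 3 4 [4, 6] (by decide) (by decide)
theorem p_q2a_11 : R 3 = R 6 ^ 11 := s_q2a_11.trans (mul_pw (mul_pw p_q2a_5 p_q2a_5) p_q2a_1)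
theorem s_q2a_22 : R 2 = R 3 * R 3 := st 2 3 [3] (by decide) (by decide)
theorem p_q2a_22 : R 2 = R 6 ^ 22 := s_q2a_22.trans (mul_pw p_q2a_11 p_q2a_11)
theorem o_q2a : R 6 ^ 22 = 1 := by rw [← p_q2a_22, eqn 2 84 (by decide), one]
theorem p_qaa_1 : R 1 = R 1 ^ 1 := (pow_one _).symm
theorem s_qaa_3 : R 0 = R 1 * R 1 * R 1 := st 0 1 [1, 1] (by decide) (by decide)
theorem p_qaa_3 : R 0 = R 1 ^ 3 := s_qaa_3.trans (mul_pw (mul_pw p_qaa_1 p_qaa_1) p_qaa_1)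
theorem o_qaa : R 1 ^ 3 = 1 := by rw [← p_qaa_3, eqn 0 84 (by decide), one]
theorem n_s12 : R 52 ≠ 1 := by rw [← one]; exact neq 52 84 (by decide)
theorem n_v13 : R 45 ≠ 1 := by rw [← one]; exact neq 45 84 (by decide)
theorem n_v23 : R 38 ≠ 1 := by rw [← one]; exact neq 38 84 (by decide)
theorem n_v3a : R 16 ≠ 1 := by rw [← one]; exact neq 16 84 (by decide)
theorem n_q1a : R 9 ≠ 1 := by rw [← one]; exact neq 9 84 (by decide)
theorem n_q2a : R 6 ≠ 1 := by rw [← one]; exact neq 6 84 (by decide)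
theorem n_qaa : R 1 ≠ 1 := by rw [← one]; exact neq 1 84 (by decide)

/-! ### The facts -/

theorem conj_1 : ∃ g : Cfsg.Spor.HN, g * V zw = V zw ^ 2 * g := by
  refine ⟨R 72, ?_⟩
  rw [pow_two, ← v_x1, ← s_x1s, ← s_cl1, ← s_cr1]
  exact eqn 71 70 (by decide)

theorem conj_2 : ∃ g : Cfsg.Spor.HN, g * V w2w = V w2w ^ 2 * g := by
  refine ⟨R 69, ?_⟩
  rw [pow_two, ← v_x2, ← s_x2s, ← s_cl2, ← s_cr2]
  exact eqn 68 67 (by decide)

theorem conj_3 : ∃ g : Cfsg.Spor.HN, g * V w3w = V w3w ^ 2 * g := by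
  refine ⟨R 66, ?_⟩
  rw [pow_two, ← v_x3, ← s_x3s, ← s_cl3, ← s_cr3]
  exact eqn 65 64 (by decide)

theorem conj_a : ∃ g : Cfsg.Spor.HN, aa * g * aa = g := by
  refine ⟨R 54, ?_⟩
  rw [← v_a, ← s_aha]
  exact eqn 53 54 (by decide)

theorem l01 : R 85 * R 86 = 1 := by rw [lt 0, lt 1]; exact mul_inv_cancel _
theorem l23 : R 87 * R 88 = 1 := by rw [lt 2, lt 3]; exact mul_inv_cancel _

theorem e_x1s : R 76 = V zw ^ 2 := by rw [s_x1s, v_x1, pow_two]
theorem e_x2s : R 75 = V w2w ^ 2 := by rw [s_x2s, v_x2, pow_two]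
theorem e_x3s : R 74 = V w3w ^ 2 := by rw [s_x3s, v_x3, pow_two]
theorem e_as : R 77 = aa ^ 2 := by rw [s_as, v_a, pow_two]
theorem e_a3 : R 73 = aa ^ 3 := by rw [s_a3, e_as, v_a, ← pow_succ]
theorem e_x1i : R 29 = V zw ^ 4 := by rw [s_x1i, e_x1s, ← pow_add]
theorem e_x2c : R 23 = V w2w ^ 3 := by rw [s_x2c, e_x2s, v_x2, ← pow_succ]

theorem b12 : V zw ^ 2 * V w2w ^ 2 ≠ 1 ∧ (V zw ^ 2 * V w2w ^ 2) ^ 8 = 1 := by
  have h : R 52 = V zw ^ 2 * V w2w ^ 2 := by rw [s_s12, e_x1s, e_x2s]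
  rw [← h]
  refine ⟨n_s12, ?_⟩
  have h2 := o_v12
  rw [s_v12, ← pow_two, ← pow_mul] at h2
  exact h2

theorem a12 : ((V zw ^ 2 * V w2w ^ 2) * (V zw ^ 2 * V w2w ^ 2)) ^ 4 = 1 ∧
    (V w2w * ((V zw ^ 2 * V w2w ^ 2) * (V zw ^ 2 * V w2w ^ 2))) ^ 7 = 1 := by
  have h : R 52 = V zw ^ 2 * V w2w ^ 2 := by rw [s_s12, e_x1s, e_x2s]
  rw [← h, ← s_v12, ← v_x2, ← s_u12]
  exact ⟨o_v12, o_u12⟩

theorem b13 : V zw ^ 2 * V w3w ≠ 1 ∧ (V zw ^ 2 * V w3w) ^ 7 = 1 := by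
  rw [← e_x1s, ← v_x3, ← s_v13]
  exact ⟨n_v13, o_v13⟩

theorem a13 : (V zw * (V zw ^ 2 * V w3w)) ^ 8 = 1 := by
  rw [← e_x1s, ← v_x3, ← s_v13, ← v_x1, ← s_u13]
  exact o_u13

theorem b23 : V w2w * V w3w ≠ 1 ∧ (V w2w * V w3w) ^ 12 = 1 := by
  rw [← v_x2, ← v_x3, ← s_v23]
  exact ⟨n_v23, o_v23⟩

theorem a23 : (V w2w * (V w2w * V w3w)) ^ 7 = 1 := by
  rw [← v_x2, ← v_x3, ← s_v23, ← s_u23]
  exact o_u23

theorem a1a : ∃ g : Cfsg.Spor.HN, (V zw * (g * aa * g⁻¹) ^ 2 * V zw ^ 4 * (g * aa * g⁻¹) ^ 2) ^ 3 = 1 ∧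
    ((g * aa * g⁻¹) ^ 2 * (V zw * (g * aa * g⁻¹) ^ 2 * V zw ^ 4 * (g * aa * g⁻¹) ^ 2)) ^ 4 = 1 := by
  refine ⟨R 87, ?_⟩
  have h : (R 87)⁻¹ = R 88 := inv_eq_of_mul_eq_one_right l23
  have h1 : R 30 = (R 87 * aa * (R 87)⁻¹) ^ 2 := by rw [s_ys, s_y, v_a, h, pow_two]
  rw [← h1, ← e_x1i, ← v_x1, ← s_v1a, ← s_u1a]
  exact ⟨o_v1a, o_u1a⟩

theorem a2a : (V w2w * aa ^ 2 * V w2w ^ 3 * aa) ^ 6 = 1 ∧ (aa ^ 2 * (V w2w * aa ^ 2 * V w2w ^ 3 * aa)) ^ 7 = 1 := by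
  rw [← e_as, ← e_x2c, ← v_x2, ← v_a, ← s_v2a, ← s_u2a]
  exact ⟨o_v2a, o_u2a⟩

theorem b3a : V w3w * aa ^ 3 ≠ 1 ∧ (V w3w * aa ^ 3) ^ 14 = 1 := by
  rw [← e_a3, ← v_x3, ← s_v3a]
  exact ⟨n_v3a, o_v3a⟩

theorem a3a : (V w3w ^ 2 * (V w3w * aa ^ 3)) ^ 9 = 1 := by
  rw [← e_a3, ← e_x3s, ← v_x3, ← s_v3a, ← s_u3a]
  exact o_u3a

theorem b1a : ∃ g : Cfsg.Spor.HN, V zw ^ 2 * (g * aa ^ 2 * g⁻¹) ≠ 1 ∧ (V zw ^ 2 * (g * aa ^ 2 * g⁻¹)) ^ 9 = 1 := by
  refine ⟨R 85, ?_⟩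
  have h : (R 85)⁻¹ = R 86 := inv_eq_of_mul_eq_one_right l01
  have h1 : R 9 = V zw ^ 2 * (R 85 * aa ^ 2 * (R 85)⁻¹) := by
    rw [s_q1a, e_x1s, e_as, h]; simp only [mul_assoc]
  rw [← h1]
  exact ⟨n_q1a, o_q1a⟩

theorem b2a : V w2w * aa ^ 2 ≠ 1 ∧ (V w2w * aa ^ 2) ^ 22 = 1 := by
  rw [← e_as, ← v_x2, ← s_q2a]
  exact ⟨n_q2a, o_q2a⟩

theorem baa : ∃ g : Cfsg.Spor.HN, aa * (g * aa ^ 2 * g⁻¹) ≠ 1 ∧ (aa * (g * aa ^ 2 * g⁻¹)) ^ 3 = 1 := by
  refine ⟨R 87, ?_⟩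
  have h : (R 87)⁻¹ = R 88 := inv_eq_of_mul_eq_one_right l23
  have h1 : R 1 = aa * (R 87 * aa ^ 2 * (R 87)⁻¹) := by
    rw [s_qaa, e_as, v_a, h]; simp only [mul_assoc]
  rw [← h1]
  exact ⟨n_qaa, o_qaa⟩

end Cfsg.Agent.H513.HNStr
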