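import Cfsg.Agent.H513.NilpHNDat
import Cfsg.Agent.H513.NilpArith
import Cfsg.Agent.H199.NSmTool
import Cfsg.Agent.HN.DoubleCover
import Cfsg.Agent.H687.EqD.ProdL

/-!
# Row HN of S2242: orders of nilpotent subgroups (helper513)
-/

set_option autoImplicit false
set_option maxRecDepth 100000
set_option linter.unusedSectionVars false

namespace Cfsg.Agent.H513.NilpHN

open Cfsg.Agent.HN.Pres Cfsg.Agent.HN.H0Basic
open Cfsg.Agent.HN.P1408 hiding ψ
open Cfsg.Agent.HN.XWords (W0 W0_sq)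
open Cfsg.Agent.HN.NormalH (ψ)
open Cfsg Cfsg.Agent
open Cfsg.Agent.KFacts.HN
open Cfsg.Agent.CpAutHNFive.TFive
open Cfsg.Agent.H972 Cfsg.Agent.H972.NSm Cfsg.Agent.H513.NilpTools
open Subgroup

universe u

theorem card_G : Nat.card G = 273030912000000 := KFacts.HN.Classes.card_HN

/-- the element of order 5 -/
theorem exists_z : ∃ z : G, (∀ r : ℕ, r.Prime → ¬ r ∣ 3686400 → ¬ r * r ∣ 273030912000000 →
    ¬ r ∣ Nat.card ↥(centralizer ({z} : Set G))) ∧
    ∀ B : Subgroup G, IsPGroup 5 ↥B → 5 ^ 4 ∣ Nat.card ↥B → ∃ g : G, g * z * g⁻¹ ∈ B := by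
  obtain ⟨y, hy, hρ, c, d, hc5, hd5, hcy, hdy, hcd, hci, hdi⟩ := exists_data
  have hex := ex_two hy hρ
  obtain ⟨N, hcr⟩ := hex.exists_cr
  have hZ := hcr.normalZ
  have h7 : ¬ 5 ^ 7 ∣ Nat.card G := by rw [card_G]; norm_num
  refine ⟨(y : G), ?_, ?_⟩
  · intro r hr hrC hr2
    refine hcr.not_dvd hr ?_ ?_ hex.s_mem_commutator
    · intro hd
      apply hr2
      rw [← card_G]
      exact hd.trans (card_subgroup_dvd_card _)
    · intro hd
      apply hrC
      rw [← card_PP]
      exact hd.trans (card_dvd_of_injective (toPP y) (toPP_inj y))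
  · have hcN := hcr.mem_of_inv (v := (⟨c, mem_centralizer_singleton_iff.2 hcy⟩ : ↥(centralizer ({(y : G)} : Set G))))
      (m := 5) (Subtype.ext hci) (by decide) (Subtype.ext hc5)
    have hdN := hcr.mem_of_inv (v := (⟨d, mem_centralizer_singleton_iff.2 hdy⟩ : ↥(centralizer ({(y : G)} : Set G))))
      (m := 5) (Subtype.ext hdi) (by decide) (Subtype.ext hd5)
    obtain ⟨h6, hbig⟩ := hcr.mem_of_big (fun hd => h7 (hd.trans (card_subgroup_dvd_card _))) (dvd_card hy hρ)
      (hex.irr hcr) hcN (Subtype.ext hc5) hdN (Subtype.ext hd5) (fun h => hcd (congrArg Subtype.val h))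
    intro B hB hBd
    refine exists_conj_mem_of_big Nat.prime_five h6 h7 ?_ hB hBd
    intro B hBH hBp hB4
    have h1 := hbig (B.subgroupOf (centralizer ({(y : G)} : Set G)))
      (hBp.comap_of_injective (centralizer ({(y : G)} : Set G)).subtype (centralizer ({(y : G)} : Set G)).subtype_injective)
      (by rw [Nat.card_congr (Subgroup.subgroupOfEquivOfLe hBH).toEquiv]; exact hB4)
    exact mem_subgroupOf.1 h1

/-- `C(ψ τ) = 2.HS.2` -/
theorem nle_H0 (hI : ∀ (H : Type) [Group H] [Finite H], IsSimpleGroup H → ¬ IsMulCommutative H →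
    Nat.card H < 273030912000000 → NSm.Small H) : NLE 26636 H0 := by
  have hx : gx ^ 2 ≠ 1 := by
    intro h
    have h1 := CpAutHNFive.HFacts.order_τ
    rw [show τ = gx ^ 2 from rfl, h, orderOf_one] at h1
    norm_num at h1
  have hcard := Cfsg.Agent.HN.H0Basic.card_H0
  have hQ := (Cfsg.Agent.HN.DoubleCover.nonempty_Q hcard hx).2
  have hQc := Cfsg.Agent.HN.DoubleCover.card_Q hcard hx
  have hnc : ¬ IsMulCommutative ↥Cfsg.Agent.HN.HS100.Q := by
    intro h
    have h1 := Cfsg.Agent.HN.DoubleCover.center_Q hcard hx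
    have h2 : center ↥Cfsg.Agent.HN.HS100.Q = ⊤ := by
      rw [eq_top_iff]
      intro g _
      exact mem_center_iff.2 fun k => h.is_comm.comm k g
    rw [h2] at h1
    have h3 := congrArg (fun K : Subgroup ↥Cfsg.Agent.HN.HS100.Q => Nat.card ↥K) h1
    change Nat.card ↥(⊤ : Subgroup ↥Cfsg.Agent.HN.HS100.Q) = Nat.card ↥(⊥ : Subgroup ↥Cfsg.Agent.HN.HS100.Q) at h3
    rw [Subgroup.card_top, Subgroup.card_bot, hQc] at h3
    norm_num at h3
  have hfin : Finite ↥Cfsg.Agent.HN.HS100.Q := Nat.finite_of_card_ne_zero (by rw [hQc]; norm_num)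
  have h1 : NLE 6659 ↥Cfsg.Agent.HN.HS100.Q :=
    (hI _ hQ hnc (by rw [hQc]; norm_num)).nle (by rw [hQc]; norm_num)
  have h2 : NLE 13318 ↥Cfsg.Agent.HN.HS100.K :=
    nle_of_surj Cfsg.Agent.HN.DoubleCover.φK (Cfsg.Agent.HN.DoubleCover.card_ker hcard hx) h1 (by norm_num)
  have h3 := h2.of_index
  rw [Cfsg.Agent.HN.HS100.K_index] at h3
  exact h3.mono (by norm_num)

/-- nilpotent subgroups of the centralizers of the involutions -/
theorem nle_inv (hI : ∀ (H : Type) [Group H] [Finite H], IsSimpleGroup H → ¬ IsMulCommutative H →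
    Nat.card H < 273030912000000 → NSm.Small H) {x : G} (hx : orderOf x = 2) :
    NLE 3686400 ↥(centralizer ({x} : Set G)) := by
  rcases KFacts.HN.Classes.inv_class hx with h | h
  · obtain ⟨g, hg⟩ := isConj_iff.1 h.symm
    have h1 : NLE 26636 ↥(ψ.range) := (nle_H0 hI).congr (MonoidHom.ofInjective emb.inj)
    have h2 : NLE 26636 ↥(centralizer ({ψ τ} : Set G)) := h1.of_le (fun u hu => by
      obtain ⟨v, hv⟩ := emb.cent u (mem_centralizer_singleton_iff.1 hu)
      exact ⟨v, hv⟩)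
    exact (h2.congr (SporRec.LyType.conjCentEquiv g hg)).mono (by norm_num)
  · obtain ⟨g, hg⟩ := isConj_iff.1 h.symm
    refine nle_of_card ?_
    rw [← Nat.card_congr (SporRec.LyType.conjCentEquiv g hg).toEquiv]
    exact card_PP.le

theorem card_inv {x : G} (hx : orderOf x = 2) : Nat.card ↥(centralizer ({x} : Set G)) = 3686400 ∨
    Nat.card ↥(centralizer ({x} : Set G)) = 177408000 := by
  rcases KFacts.HN.Classes.inv_class hx with h | h
  · obtain ⟨g, hg⟩ := isConj_iff.1 h.symm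
    right
    rw [← Nat.card_congr (SporRec.LyType.conjCentEquiv g hg).toEquiv]
    exact KFacts.HN.Classes.card_centralizer_τ
  · obtain ⟨g, hg⟩ := isConj_iff.1 h.symm
    left
    rw [← Nat.card_congr (SporRec.LyType.conjCentEquiv g hg).toEquiv]
    exact card_PP

/-- the arithmetic -/
theorem chkHN : allDiv [(3, 6), (5, 3), (7, 1), (11, 1), (19, 1)] 1 (fun m =>
    Nat.blt (m * m) 273030912000000 || exB 273030912000000 19 [(3, 6), (5, 3), (7, 1), (11, 1)] m) = true := by
  decide +kernel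

theorem small (hI : ∀ (H : Type) [Group H] [Finite H], IsSimpleGroup H → ¬ IsMulCommutative H →
    Nat.card H < 273030912000000 → NSm.Small H) : NSm.Small G := by
  have hsimp : IsSimpleGroup G := Cfsg.Agent.S1701.result.1
  have h5F : Fact (Nat.Prime 5) := ⟨Nat.prime_five⟩
  obtain ⟨z, hz, hbig⟩ := exists_z
  intro N hN
  by_cases h2 : 2 ∣ Nat.card ↥N
  · obtain ⟨x, hx, -, hle⟩ := exists_le_centralizer hN Nat.prime_two h2
    have h1 := (nle_inv hI hx).apply hN hle
    rw [card_G]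
    exact (Nat.pow_le_pow_left h1 2).trans_lt (by norm_num)
  have hd := card_subgroup_dvd_card N
  rw [card_G, show (273030912000000 : ℕ) = 2 ^ 14 * (5 ^ 6 * (3 ^ 6 * 7 * 11 * 19)) by norm_num] at hd
  have hd := dvd_drop Nat.prime_two h2 hd
  rw [card_G]
  by_cases h5 : 5 ^ 4 ∣ Nat.card ↥N
  · have key : ∀ r : ℕ, r.Prime → ¬ r ∣ 3686400 → ¬ r * r ∣ 273030912000000 → ¬ r ∣ Nat.card ↥N :=
      fun r hr hr1 hr2 => not_dvd_of_big Nat.prime_five hr hbig (hz r hr hr1 hr2) hN h5
    have h7 := key 7 (by norm_num) (by norm_num) (by norm_num)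
    have h11 := key 11 (by norm_num) (by norm_num) (by norm_num)
    have h19 := key 19 (by norm_num) (by norm_num) (by norm_num)
    have hd : Nat.card ↥N ∣ 7 ^ 1 * (11 ^ 1 * (19 ^ 1 * (5 ^ 6 * 3 ^ 6))) := hd.trans (dvd_of_eq (by norm_num))
    have hd := dvd_drop (by norm_num) h19 (dvd_drop (by norm_num) h11 (dvd_drop (by norm_num) h7 hd))
    exact (Nat.pow_le_pow_left (Nat.le_of_dvd (by norm_num) hd) 2).trans_lt (by norm_num)
  have hd := dvd_cap Nat.prime_five h5 hd
  -- the centralizers of the elements of order 19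
  have hcent : ∀ x : G, orderOf x = 19 → Nat.card ↥(centralizer ({x} : Set G)) ∣ 19 * (5 ^ 3 * (3 ^ 6 * 7 * 11)) := by
    intro x hx
    have e2 : ¬ 2 ∣ Nat.card ↥(centralizer ({x} : Set G)) :=
      odd_cent' hx fun t ht => by
        rcases card_inv ht with h | h
        · rw [h]; norm_num
        · rw [h]; norm_num
    have e5 : ¬ 5 ^ 4 ∣ Nat.card ↥(centralizer ({x} : Set G)) :=
      not_dvd_cent hbig hx (hz 19 (by norm_num) (by norm_num) (by norm_num))
    have h6 := card_subgroup_dvd_card (centralizer ({x} : Set G))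
    rw [card_G, show (273030912000000 : ℕ) = 2 ^ 14 * (5 ^ 6 * (3 ^ 6 * 7 * 11 * 19)) by norm_num] at h6
    exact (dvd_cap Nat.prime_five e5 (dvd_drop Nat.prime_two e2 h6)).trans (dvd_of_eq (by norm_num))
  have h3 := allDiv_spec (by norm_num) chkHN (d := Nat.card ↥N) (hd.trans (dvd_of_eq (by norm_num [prodL])))
  rw [one_mul, Bool.or_eq_true] at h3
  rcases h3 with h3 | h3
  · rw [pow_two]
    exact Eq.mp Nat.blt_eq h3
  · exact (false_of_exB (by norm_num) card_G (by norm_num) (by norm_num) (by norm_num) (fun x hx =>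
      (hcent x hx).trans (dvd_of_eq (by norm_num [prodL]))) hN h3).elim

/-- **row HN of S2242** -/
theorem small_HN {G : Type u} [Group G] [Finite G] (h : Cfsg.Spor.IsoHN G)
    (hI : ∀ (H : Type u) [Group H] [Finite H], IsSimpleGroup H → ¬ IsMulCommutative H → Nat.card H < Nat.card G →
      NSm.Small H) : NSm.Small G := by
  obtain ⟨e⟩ := h
  have hc : Nat.card G = 273030912000000 := by
    rw [Nat.card_congr e.toEquiv]
    exact card_G
  rw [hc] at hI
  exact (small fun H _ _ hs hnc hn => H199.NSmTool.small_lift hI H hs hnc hn).congr e.symm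

end Cfsg.Agent.H513.NilpHN
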