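import Cfsg.Agent.H513.HNH0
import Cfsg.Agent.H513.NilpHN

/-!
# Elements of order 7 and 11 of `HN` commuting with involutions (helper513)
-/

set_option autoImplicit false
set_option maxRecDepth 100000

namespace Cfsg.Agent.H513.HNTau

open Subgroup

section Gen

variable {X : Type*} [Group X]

/-- elements of prime order `p`, `p ^ 2 ∤ |X|` -/
theorem exists_conj_pow [Finite X] {x y : X} {p : ℕ} (hp : p.Prime) (hx : orderOf x = p) (hy : orderOf y = p)
    (hsq : ¬ p * p ∣ Nat.card X) : ∃ (g : X) (m : ℕ), 1 ≤ m ∧ m < p ∧ g * x * g⁻¹ = y ^ m := by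
  have : Fact p.Prime := ⟨hp⟩
  have key : ∀ z : X, orderOf z = p → ∃ P : Sylow p X, (P : Subgroup X) = zpowers z := by
    intro z hz
    have h1 : IsPGroup p ↥(zpowers z) := IsPGroup.of_card (n := 1) (by rw [Nat.card_zpowers, hz, pow_one])
    obtain ⟨P, hP⟩ := h1.exists_le_sylow
    refine ⟨P, (eq_of_le_of_card_ge hP ?_).symm⟩
    obtain ⟨k, hk⟩ := IsPGroup.iff_card.1 P.isPGroup'
    rw [Nat.card_zpowers, hz]
    have h2 : k ≤ 1 := by
      by_contra hlt
      apply hsq
      rw [← pow_two]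
      refine (pow_dvd_pow p (show 2 ≤ k by omega)).trans ?_
      rw [← hk]
      exact card_subgroup_dvd_card _
    rw [hk]
    calc p ^ k ≤ p ^ 1 := Nat.pow_le_pow_right hp.pos h2
      _ = p := pow_one p
  obtain ⟨P, hP⟩ := key x hx
  obtain ⟨Q, hQ⟩ := key y hy
  obtain ⟨g, hg⟩ := MulAction.exists_smul_eq X P Q
  have h1 : g * x * g⁻¹ ∈ zpowers y := by
    rw [← hQ, ← hg, Sylow.coe_subgroup_smul]
    exact ⟨x, by rw [hP]; exact mem_zpowers x, rfl⟩
  obtain ⟨m, hm, h2⟩ := CpAutHNFive.HFacts.mem_zpowers_lt hp.pos (by rw [← hy, pow_orderOf_eq_one]) h1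
  refine ⟨g, m, ?_, hm, h2⟩
  by_contra hlt
  have h0 : m = 0 := by omega
  rw [h0, pow_zero, conj_eq_one_iff] at h2
  rw [h2, orderOf_one] at hx
  exact hp.one_lt.ne hx

theorem card_cent_eq [Finite X] {x y : X} {p : ℕ} (hp : p.Prime) (hx : orderOf x = p) (hy : orderOf y = p)
    (hsq : ¬ p * p ∣ Nat.card X) : Nat.card ↥(centralizer ({x} : Set X)) = Nat.card ↥(centralizer ({y} : Set X)) := by
  obtain ⟨g, m, h1, h5, h⟩ := exists_conj_pow hp hx hy hsq
  rw [← HNH0.card_cent_conj g x, h, HNH0.cent_pow_eq hp hy h1 h5]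

end Gen

open Cfsg.Agent.HN.Pres Cfsg.Agent.HN.H0Basic
open Cfsg.Agent.HN.P1408 hiding ψ
open Cfsg.Agent.HN.XWords (W0 W0_sq)
open Cfsg.Agent.HN.NormalH (ψ)
open Cfsg Cfsg.Agent
open Cfsg.Agent.KFacts.HN
open Cfsg.Agent.CpAutHNFive.TFive
open Cfsg.Agent.H513.HNH0 Cfsg.Agent.H513.NilpHN

/-! ### `H0` -/

theorem card_seven' {y : H0} (hy : orderOf y = 7) : Nat.card ↥(centralizer ({y} : Set H0)) = 28 := by
  have := finite_H0
  rw [← card_seven]
  exact card_cent_eq (by norm_num) hy order_w7 (by rw [Cfsg.Agent.HN.H0Basic.card_H0]; norm_num)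

theorem comm_seven' {y : H0} (hy : orderOf y = 7) {a b : H0} (ha : a * y = y * a) (hb : b * y = y * b) :
    a * b = b * a ∧ a ^ 14 = 1 := by
  have := finite_H0
  obtain ⟨g, m, h1, h5, h⟩ := exists_conj_pow (by norm_num) hy order_w7 (by rw [Cfsg.Agent.HN.H0Basic.card_H0]; norm_num)
  have key : ∀ a : H0, a * y = y * a → (g * a * g⁻¹) * hw w7 = hw w7 * (g * a * g⁻¹) := by
    intro a ha
    have h2 : g * a * g⁻¹ ∈ centralizer ({hw w7 ^ m} : Set H0) := by
      rw [← h, mem_centralizer_singleton_iff]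
      calc g * a * g⁻¹ * (g * y * g⁻¹) = g * (a * y) * g⁻¹ := by group
        _ = g * y * g⁻¹ * (g * a * g⁻¹) := by rw [ha]; group
    rw [cent_pow_eq (by norm_num) order_w7 h1 h5] at h2
    exact mem_centralizer_singleton_iff.1 h2
  constructor
  · have h2 := comm_seven (key a ha) (key b hb)
    have h3 : g * (a * b) * g⁻¹ = g * (b * a) * g⁻¹ := by
      calc g * (a * b) * g⁻¹ = g * a * g⁻¹ * (g * b * g⁻¹) := by group
        _ = g * (b * a) * g⁻¹ := by rw [h2]; group
    exact mul_left_cancel (mul_right_cancel h3)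
  · have h2 := pow_seven (key a ha)
    rw [conj_pow, conj_eq_one_iff] at h2
    exact h2

theorem card_eleven' {y : H0} (hy : orderOf y = 11) : Nat.card ↥(centralizer ({y} : Set H0)) = 22 := by
  have := finite_H0
  rw [← card_eleven]
  exact card_cent_eq (by norm_num) hy order_w11 (by rw [Cfsg.Agent.HN.H0Basic.card_H0]; norm_num)

/-! ### transport -/

theorem conj_of_tau {x t : G} (ht : IsConj (ψ τ) t) (htx : t * x = x * t) :
    ∃ (c : G) (y : H0), c * t * c⁻¹ = ψ τ ∧ c * x * c⁻¹ = ψ y := by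
  obtain ⟨c, hc⟩ := isConj_iff.1 ht.symm
  have h1 : c * x * c⁻¹ * ψ τ = ψ τ * (c * x * c⁻¹) := by
    rw [← hc]
    calc c * x * c⁻¹ * (c * t * c⁻¹) = c * (x * t) * c⁻¹ := by group
      _ = c * (t * x) * c⁻¹ := by rw [htx]
      _ = _ := by group
  obtain ⟨y, hy⟩ := emb.cent _ h1
  exact ⟨c, y, hc, hy.symm⟩

theorem order_of_conj {x c : G} {y : H0} (h : c * x * c⁻¹ = ψ y) : orderOf y = orderOf x := by
  rw [← orderOf_injective ψ emb.inj, ← h]
  exact MulEquiv.orderOf_eq (MulAut.conj c) x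

theorem comm_of_conj {x v c : G} {y u : H0} (h : c * x * c⁻¹ = ψ y) (hv : c * v * c⁻¹ = ψ u) (hvx : v * x = x * v) :
    u * y = y * u := by
  apply emb.inj
  rw [map_mul, map_mul, ← h, ← hv]
  calc c * v * c⁻¹ * (c * x * c⁻¹) = c * (v * x) * c⁻¹ := by group
    _ = c * x * c⁻¹ * (c * v * c⁻¹) := by rw [hvx]; group

theorem exists_of_comm {t v c : G} (hc : c * t * c⁻¹ = ψ τ) (hvt : v * t = t * v) : ∃ u : H0, c * v * c⁻¹ = ψ u := by
  have h1 : c * v * c⁻¹ * ψ τ = ψ τ * (c * v * c⁻¹) := by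
    rw [← hc]
    calc c * v * c⁻¹ * (c * t * c⁻¹) = c * (v * t) * c⁻¹ := by group
      _ = c * (t * v) * c⁻¹ := by rw [hvt]
      _ = _ := by group
  obtain ⟨y, hy⟩ := emb.cent _ h1
  exact ⟨y, hy.symm⟩

theorem inf_eq (y : H0) : centralizer ({ψ y} : Set G) ⊓ centralizer ({ψ τ} : Set G) =
    (centralizer ({y} : Set H0)).map ψ := by
  ext v
  constructor
  · rintro ⟨h1, h2⟩
    obtain ⟨u, rfl⟩ := emb.cent v (mem_centralizer_singleton_iff.1 h2)
    refine ⟨u, mem_centralizer_singleton_iff.2 (emb.inj ?_), rfl⟩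
    rw [map_mul, map_mul]
    exact mem_centralizer_singleton_iff.1 h1
  · rintro ⟨u, hu, rfl⟩
    refine ⟨mem_centralizer_singleton_iff.2 ?_, mem_centralizer_singleton_iff.2 ?_⟩
    · rw [← map_mul, ← map_mul, mem_centralizer_singleton_iff.1 hu]
    · rw [← map_mul, ← map_mul, τ_comm]

theorem card_inf {x t c : G} {y : H0} (hc : c * t * c⁻¹ = ψ τ) (h : c * x * c⁻¹ = ψ y) :
    Nat.card ↥(centralizer ({x} : Set G) ⊓ centralizer ({t} : Set G) : Subgroup G) =
      Nat.card ↥(centralizer ({y} : Set H0)) := by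
  have h1 : (centralizer ({x} : Set G) ⊓ centralizer ({t} : Set G)).map (MulAut.conj c).toMonoidHom =
      (centralizer ({y} : Set H0)).map ψ := by
    rw [Subgroup.map_inf _ _ _ (MulAut.conj c).injective, CpAutHNFive.TauFive.map_centralizer,
      CpAutHNFive.TauFive.map_centralizer, hc, h, inf_eq]
  have h2 := congrArg (fun K : Subgroup G => Nat.card ↥K) h1
  change Nat.card ↥((centralizer ({x} : Set G) ⊓ centralizer ({t} : Set G)).map (MulAut.conj c).toMonoidHom) =
    Nat.card ↥((centralizer ({y} : Set H0)).map ψ) at h2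
  rw [card_map_of_injective (MulAut.conj c).injective, card_map_of_injective emb.inj] at h2
  exact h2

/-- involutions commuting with an element of prime order `r ∤ 3686400` -/
theorem conj_tau {x t : G} {r : ℕ} (hx : orderOf x = r) (hr : ¬ r ∣ 3686400) (ht : orderOf t = 2)
    (htx : t * x = x * t) : IsConj (ψ τ) t := by
  rcases KFacts.HN.Classes.inv_class ht with h | h
  · exact h.symm
  · exfalso
    obtain ⟨g, hg⟩ := isConj_iff.1 h
    apply hr
    have h1 := CentTools.dvd_cent hx htx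
    rw [← card_cent_conj g, hg] at h1
    exact h1.trans (dvd_of_eq card_PP)

end Cfsg.Agent.H513.HNTau
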