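import Cfsg.Agent.H513.HNZ
import Cfsg.Agent.CpAutHN.Pairs

/-!
# The Sylow 3-subgroups of `HN` are not abelian (helper513)
-/

set_option autoImplicit false
set_option maxRecDepth 100000

namespace Cfsg.Agent.H513.HNThree

open Subgroup Equiv
open Cfsg Cfsg.Agent
open Cfsg.Agent.CpAutHN.Alt (Φ Φ_inj)
open Cfsg.Agent.CpAutHNFive.TFive (G)

/-- `(0 1 2)` -/
def c1 : Perm (Fin 12) := swap 0 1 * swap 0 2
/-- `(3 4 5)` -/
def c2 : Perm (Fin 12) := swap 3 4 * swap 3 5

theorem three1 : c1.IsThreeCycle := Perm.isThreeCycle_swap_mul_swap_same (by decide) (by decide) (by decide)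
theorem three2 : c2.IsThreeCycle := Perm.isThreeCycle_swap_mul_swap_same (by decide) (by decide) (by decide)

theorem disj : Perm.Disjoint c1 c2 := by
  unfold Perm.Disjoint
  decide

theorem ctype : (c1 * c2).cycleType = {3, 3} := by
  rw [disj.cycleType_mul, three1.cycleType, three2.cycleType]
  rfl

theorem mem : c1 * c2 ∈ alternatingGroup (Fin 12) := mul_mem three1.mem_alternatingGroup three2.mem_alternatingGroup

theorem card_cent : Nat.card ↥(centralizer ({c1 * c2} : Set (Perm (Fin 12)))) = 12960 := by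
  rw [Equiv.Perm.nat_card_centralizer, ctype]
  decide

theorem sylow_three : ∃ Q : Subgroup G, IsPGroup 3 ↥Q ∧ ∃ a ∈ Q, ∃ b ∈ Q, a * b ≠ b * a := by
  have hs : IsSimpleGroup Cfsg.Spor.HN := HNSeven.simple
  have h3F : Fact (Nat.Prime 3) := ⟨Nat.prime_three⟩
  let u : ↥(alternatingGroup (Fin 12)) := ⟨c1 * c2, mem⟩
  have hu3 : u ^ 3 = 1 := by
    apply Subtype.ext
    change (c1 * c2) ^ 3 = 1
    rw [(disj.commute).mul_pow]
    have e1 : c1 ^ 3 = 1 := by rw [← three1.orderOf]; exact pow_orderOf_eq_one _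
    have e2 : c2 ^ 3 = 1 := by rw [← three2.orderOf]; exact pow_orderOf_eq_one _
    rw [e1, e2, one_mul]
  have hu1 : u ≠ 1 := by
    intro h
    have h1 : c1 * c2 = 1 := congrArg Subtype.val h
    have h2 := ctype
    rw [h1, Perm.cycleType_one] at h2
    exact absurd h2 (by decide)
  have huo : orderOf u = 3 := orderOf_eq_prime hu3 hu1
  have huP : IsPGroup 3 ↥(zpowers u) := IsPGroup.of_card (n := 1) (by rw [Nat.card_zpowers, huo, pow_one])
  obtain ⟨P, hP⟩ := huP.exists_le_sylow
  refine ⟨(P : Subgroup ↥(alternatingGroup (Fin 12))).map Φ, P.isPGroup'.map _, Φ u, ⟨u, hP (mem_zpowers u), rfl⟩, ?_⟩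
  by_contra hcon
  push Not at hcon
  have h1 : ∀ v ∈ (P : Subgroup ↥(alternatingGroup (Fin 12))), v * u = u * v := by
    intro v hv
    apply Φ_inj
    rw [map_mul, map_mul]
    exact (hcon _ ⟨v, hv, rfl⟩).symm
  have hcard : Nat.card ↥(alternatingGroup (Fin 12)) = 239500800 := by
    have h := nat_card_alternatingGroup (α := Fin 12)
    rw [Nat.card_fin] at h
    rw [h]
    decide
  have h2 : 3 ^ 5 ∣ Nat.card ↥(P : Subgroup ↥(alternatingGroup (Fin 12))) :=
    P.pow_dvd_card_of_pow_dvd_card (by rw [hcard]; norm_num)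
  have h3 : (P : Subgroup ↥(alternatingGroup (Fin 12))).map (alternatingGroup (Fin 12)).subtype ≤
      centralizer ({c1 * c2} : Set (Perm (Fin 12))) := by
    rintro _ ⟨v, hv, rfl⟩
    exact mem_centralizer_singleton_iff.2 (congrArg Subtype.val (h1 v hv))
  have h4 := card_dvd_of_le h3
  rw [card_map_of_injective (alternatingGroup (Fin 12)).subtype_injective, card_cent] at h4
  have h5 := h2.trans h4
  revert h5
  decide

end Cfsg.Agent.H513.HNThree
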