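import Mathlib
import Cfsg.Agent.H513.MetaAutB
import Cfsg.Agent.S0112
import Cfsg.Agent.S0662
import Cfsg.Agent.S3879

/-!
# Automorphisms of order `p` of metacyclic `p`-groups (S4079): the semidirect product
-/

set_option autoImplicit false

namespace Cfsg.Agent.H513.MetaAut

open Subgroup
open scoped commutatorElement

variable {L : Type*} [Group L]

/-- The semidirect product of `L` with `⟨a⟩`. -/
abbrev Gp (a : MulAut L) := SemidirectProduct L ↥(zpowers a) (zpowers a).subtype

theorem finite_Gp [Finite L] (a : MulAut L) : Finite (Gp a) :=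
  Finite.of_equiv _ SemidirectProduct.equivProd.symm

theorem card_sdp {p : ℕ} (a : MulAut L) (ha : orderOf a = p) (m : ℕ) (hm : Nat.card L = p ^ m) :
    Nat.card (Gp a) = p ^ (m + 1) := by
  rw [SemidirectProduct.card, hm, Nat.card_zpowers, ha, pow_succ]

theorem mem_cent (a : MulAut L) (g : Gp a) :
    g ∈ Subgroup.centralizer ({SemidirectProduct.inr (⟨a, mem_zpowers a⟩ : zpowers a)} : Set (Gp a)) ↔
      a g.left = g.left := by
  rw [Subgroup.mem_centralizer_singleton_iff]
  constructor
  · intro h
    have h1 := congrArg SemidirectProduct.left h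
    simpa [SemidirectProduct.mul_left] using h1.symm
  · intro h
    apply SemidirectProduct.ext
    · simp [h]
    · simp only [SemidirectProduct.mul_right, SemidirectProduct.right_inr]
      have : IsMulCommutative (zpowers a) := inferInstance
      exact this.is_comm.comm _ _

variable [Finite L] {p : ℕ} [hp : Fact p.Prime]

theorem forward (hp2 : p ≠ 2) (hL : IsPGroup p L) (hmc : Cfsg.IsMetacyclic L)
    (hnc : ∀ C : Subgroup L, IsCyclic C → C.index ≠ p)
    (a : MulAut L) (ha : orderOf a = p) (m : ℕ) (hm : Nat.card L = p ^ m)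
    (v : L) (hv : orderOf v = p) (hav : a v ≠ v) :
    (p = 3 ∧ Group.nilpotencyClass (SemidirectProduct L ↥(zpowers a) (zpowers a).subtype) = m) := by
  have hpp : p.Prime := hp.out
  have hL1 : Nat.card L ≠ 1 := by
    intro h
    have h1 : orderOf v ∣ 1 := by rw [← h]; exact orderOf_dvd_natCard v
    rw [hv, Nat.dvd_one] at h1
    exact hpp.one_lt.ne' h1
  obtain ⟨D⟩ := exists_data hp2 hL hmc hnc hL1
  have hap : a ^ p = 1 := by rw [← ha]; exact pow_orderOf_eq_one a
  have hvU : v ∈ D.U := by rw [D.memU, ← hv, pow_orderOf_eq_one]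
  obtain ⟨hp3, hfix⟩ := key a D hp2 hap v hvU hav
  refine ⟨hp3, ?_⟩
  obtain ⟨hf1, hf2⟩ := fix_U a D.U D.memU D.cardU D.commU hap v hvU hav
  set u := v⁻¹ * a v with hu
  have hau : a u = u := hf1 v hvU
  have huU : u ∈ D.U := by
    rw [hu]
    refine D.U.mul_mem (D.U.inv_mem hvU) ?_
    rw [D.memU, ← map_pow, (D.memU v).mp hvU, map_one]
  have hu1 : u ≠ 1 := by
    intro h
    rw [hu, inv_mul_eq_one] at h
    exact hav h.symm
  have huo : orderOf u = p := orderOf_eq_prime ((D.memU u).mp huU) hu1
  -- fixed points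
  have hfixall : ∀ g : L, a g = g ↔ g ∈ zpowers u := by
    intro g
    constructor
    · intro hg
      exact hfix g (hL.to_subgroup _) hg
    · intro hg
      obtain ⟨k, rfl⟩ := Subgroup.mem_zpowers_iff.mp hg
      rw [map_zpow, hau]
  -- the centralizer of `a`
  have hfin : Finite (Gp a) := finite_Gp a
  let β : Gp a := SemidirectProduct.inr (⟨a, mem_zpowers a⟩ : zpowers a)
  let A : Subgroup (Gp a) := Subgroup.centralizer ({β} : Set (Gp a))
  have hmemA : ∀ g : Gp a, g ∈ A ↔ a g.left = g.left := mem_cent a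
  have hAcard : Nat.card A = p ^ 2 := by
    let e : A ≃ (zpowers u) × (zpowers a) :=
      { toFun := fun g => (⟨g.1.left, (hfixall _).mp ((hmemA _).mp g.2)⟩, g.1.right)
        invFun := fun x => ⟨⟨x.1, x.2⟩, (hmemA _).mpr ((hfixall _).mpr x.1.2)⟩
        left_inv := fun g => rfl
        right_inv := fun x => rfl }
    rw [Nat.card_congr e, Nat.card_prod, Nat.card_zpowers, Nat.card_zpowers, huo, ha, pow_two]
  have hAcomm : IsMulCommutative A := IsPGroup.isMulCommutative_of_card_eq_prime_sq hAcard
  have hAC : Subgroup.centralizer (A : Set (Gp a)) = A := by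
    apply le_antisymm
    · intro g hg
      rw [Subgroup.mem_centralizer_singleton_iff]
      have hβ : β ∈ A := by
        rw [hmemA]; simp [β]
      exact ((Subgroup.mem_centralizer_iff.mp hg) β hβ).symm
    · intro g hg
      rw [Subgroup.mem_centralizer_iff]
      intro h hh
      exact congrArg Subtype.val (hAcomm.is_comm.comm ⟨h, hh⟩ ⟨g, hg⟩)
  have := S0112.result (X := Gp a) (m + 1) (card_sdp a ha m hm) A hAcard hAC
  simpa using this

omit hp [Finite L] in
/-- Characteristic subgroups of `L` are normal in the semidirect product. -/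
theorem normal_map_inl (a : MulAut L) (W : Subgroup L) (hW : ∀ σ : MulAut L, ∀ w ∈ W, σ w ∈ W) :
    (W.map (SemidirectProduct.inl : L →* Gp a)).Normal := by
  refine ⟨?_⟩
  rintro _ ⟨w, hw, rfl⟩ g
  have h1 : (g.left * (g.right : MulAut L) w * g.left⁻¹) ∈ W := by
    have h2 := hW (MulAut.conj g.left * (g.right : MulAut L)) w hw
    simpa [MulAut.mul_apply] using h2
  refine ⟨_, h1, ?_⟩
  apply SemidirectProduct.ext
  · simp [SemidirectProduct.mul_left, SemidirectProduct.inv_left]
  · simp [SemidirectProduct.mul_right]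

omit hp [Finite L] in
theorem index_map_inl (a : MulAut L) (ha : orderOf a = p) (m : ℕ) (hm : Nat.card L = p ^ m)
    (W : Subgroup L) :
    Nat.card W * (W.map (SemidirectProduct.inl : L →* Gp a)).index = p ^ (m + 1) := by
  have h1 := (W.map (SemidirectProduct.inl : L →* Gp a)).card_mul_index
  rw [card_sdp a ha m hm] at h1
  have h2 : Nat.card ↥(W.map (SemidirectProduct.inl : L →* Gp a)) = Nat.card W :=
    Nat.card_congr (Subgroup.equivMapOfInjective W _ SemidirectProduct.inl_injective).toEquiv.symm
  rw [h2] at h1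
  exact h1

theorem backward (hp2 : p ≠ 2) (hL : IsPGroup p L) (hmc : Cfsg.IsMetacyclic L)
    (hnc : ∀ C : Subgroup L, IsCyclic C → C.index ≠ p)
    (a : MulAut L) (ha : orderOf a = p) (m : ℕ) (hm : Nat.card L = p ^ m)
    (hcl : Group.nilpotencyClass (SemidirectProduct L ↥(zpowers a) (zpowers a).subtype) = m) :
    ∃ x : L, orderOf x = p ∧ a x ≠ x := by
  by_contra hcon
  push Not at hcon
  have hpp : p.Prime := hp.out
  have hL1 : Nat.card L ≠ 1 := by
    intro h
    have hs : Subsingleton L := (Nat.card_eq_one_iff_unique.mp h).1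
    have h1 : a = 1 := MulEquiv.ext fun x => Subsingleton.elim _ _
    rw [h1, orderOf_one] at ha
    exact hpp.one_lt.ne ha
  obtain ⟨D⟩ := exists_data hp2 hL hmc hnc hL1
  have hfin : Finite (Gp a) := finite_Gp a
  have hm4 : 4 ≤ m := by
    have h1 := D.K.card_subgroup_dvd_card
    rw [D.cardK, hm] at h1
    exact (Nat.pow_dvd_pow_iff_le_right hpp.one_lt).mp h1
  have hUfix : ∀ w ∈ D.U, a w = w := by
    intro w hw
    by_cases hw1 : w = 1
    · rw [hw1, map_one]
    · exact hcon w (orderOf_eq_prime ((D.memU w).mp hw) hw1)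
  have hGcard := card_sdp a ha m hm
  obtain ⟨huni, -⟩ := S0662.result (G := Gp a) (p := p) (m + 1) hGcard (by simpa using hcl) (by omega)
  -- normal subgroups of order `p ^ 2` of `G` inside `L`
  have huni2 : ∀ W : Subgroup L, (∀ σ : MulAut L, ∀ w ∈ W, σ w ∈ W) → ∀ i, Nat.card W = p ^ i → i + 2 ≤ m + 1 →
      W.map (SemidirectProduct.inl : L →* Gp a) = (⊤ : Subgroup (Gp a)).lowerCentralSeries (m - i) := by
    intro W hW i hi him
    have h1 := normal_map_inl a W hW
    have h2 := index_map_inl a ha m hm W
    rw [hi] at h2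
    have h3 : (W.map (SemidirectProduct.inl : L →* Gp a)).index = p ^ (m + 1 - i) := by
      have h4 : p ^ i * (W.map (SemidirectProduct.inl : L →* Gp a)).index = p ^ i * p ^ (m + 1 - i) := by
        rw [h2, ← pow_add]; congr 1; omega
      exact Nat.eq_of_mul_eq_mul_left (pow_pos hpp.pos i) h4
    have h4 := huni _ (m + 1 - i) (by omega) h3
    rw [h4]
    congr 1
    omega
  have hUchar : ∀ σ : MulAut L, ∀ w ∈ D.U, σ w ∈ D.U := by
    intro σ w hw
    rw [D.memU] at hw ⊢
    rw [← map_pow, hw, map_one]
  have hUlcs := huni2 D.U hUchar 2 D.cardU (by omega)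
  -- `U` is not central
  have hUnc : ∃ l : L, ∃ w ∈ D.U, l * w ≠ w * l := by
    by_contra hcon2
    push Not at hcon2
    have hnil : Group.IsNilpotent (Gp a) := (IsPGroup.of_card hGcard).isNilpotent
    have h1 : (⊤ : Subgroup (Gp a)).lowerCentralSeries (m - 2 + 1) = ⊥ := by
      apply Subgroup.lowerCentralSeries_succ_eq_bot
      rw [← hUlcs]
      rintro _ ⟨w, hw, rfl⟩
      rw [Subgroup.mem_center_iff]
      intro g
      have hgw : (g.right : MulAut L) w = w := by
        obtain ⟨k, hk⟩ := Subgroup.mem_zpowers_iff.mp g.right.2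
        rw [← hk]
        have h2 : ∀ k : ℕ, (a ^ k) w = w := by
          intro k
          induction k with
          | zero => rfl
          | succ k ih => rw [pow_succ', MulAut.mul_apply, ih, hUfix w hw]
        rcases Int.eq_nat_or_neg k with ⟨n, rfl | rfl⟩
        · rw [zpow_natCast, h2]
        · rw [zpow_neg, zpow_natCast]
          have h3 := h2 n
          calc (a ^ n)⁻¹ w = (a ^ n)⁻¹ ((a ^ n) w) := by rw [h3]
            _ = w := by simp
      apply SemidirectProduct.ext
      · simp only [SemidirectProduct.mul_left, SemidirectProduct.left_inl, SemidirectProduct.right_inl,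
          map_one, MulAut.one_apply]
        change g.left * (g.right : MulAut L) w = w * g.left
        rw [hgw]
        exact hcon2 _ w hw
      · simp
    have h2 := Subgroup.lowerCentralSeries_eq_bot_iff_nilpotencyClass_le.mp h1
    rw [show Group.nilpotencyClass (Gp a) = m from hcl] at h2
    omega
  -- the derived subgroup has order at most `p`
  have hLnil : IsPGroup p L := hL
  have hcomm : Nat.card ↥(commutator L) ∣ p := by
    obtain ⟨N, hN, hNcyc, hNq⟩ := hmc
    have hle : commutator L ≤ N := by
      let _ : CommGroup (L ⧸ N) := IsCyclic.commGroup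
      have h1 := Abelianization.commutator_subset_ker (QuotientGroup.mk' N)
      rwa [QuotientGroup.ker_mk'] at h1
    have hcyc : IsCyclic ↥(commutator L) :=
      isCyclic_of_injective (Subgroup.inclusion hle) (Subgroup.inclusion_injective _)
    obtain ⟨c, hc⟩ := hcyc.exists_ofOrder_eq_natCard
    obtain ⟨i, hi⟩ := (hL.to_subgroup (commutator L)).exists_card_eq
    rw [hi]
    by_contra hi2
    have hi2' : 2 ≤ i := by
      by_contra h
      apply hi2
      have : i ≤ 1 := by omega
      calc p ^ i ∣ p ^ 1 := pow_dvd_pow p this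
        _ = p := pow_one p
    have hcgen : ∀ x ∈ commutator L, x ∈ zpowers (c : L) := by
      intro x hx
      have h1 : zpowers c = ⊤ := by
        rw [← Subgroup.card_eq_iff_eq_top, Nat.card_zpowers, hc]
      have h2 : (⟨x, hx⟩ : commutator L) ∈ zpowers c := by rw [h1]; exact Subgroup.mem_top _
      obtain ⟨k, hk⟩ := Subgroup.mem_zpowers_iff.mp h2
      exact Subgroup.mem_zpowers_iff.mpr ⟨k, by simpa using congrArg Subtype.val hk⟩
    set d : L := (c : L) ^ (p ^ (i - 2)) with hd
    have hdo : orderOf d = p ^ 2 := by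
      rw [hd, orderOf_pow, Subgroup.orderOf_coe, hc, hi, Nat.gcd_eq_right (pow_dvd_pow p (by omega)),
        Nat.pow_div (by omega) hpp.pos]
      congr 1; omega
    have hW : ∀ σ : MulAut L, ∀ w ∈ zpowers d, σ w ∈ zpowers d := by
      intro σ w hw
      obtain ⟨k, rfl⟩ := Subgroup.mem_zpowers_iff.mp hw
      rw [map_zpow]
      refine Subgroup.zpow_mem _ ?_ k
      have h1 : σ c ∈ commutator L := by
        have h2 : (commutator L).Characteristic := inferInstance
        have h3 := h2.fixed σ
        have h4 : (c : L) ∈ (commutator L).comap σ.toMonoidHom := by rw [h3]; exact c.2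
        exact h4
      obtain ⟨r, hr⟩ := Subgroup.mem_zpowers_iff.mp (hcgen _ h1)
      rw [hd, map_pow, ← hr]
      refine Subgroup.mem_zpowers_iff.mpr ⟨r, ?_⟩
      rw [← zpow_natCast, ← zpow_natCast, ← zpow_mul, ← zpow_mul, mul_comm]
    have h1 := huni2 (zpowers d) hW 2 (by rw [Nat.card_zpowers, hdo]) (by omega)
    rw [← hUlcs] at h1
    have h2 : zpowers d = D.U := Subgroup.map_injective SemidirectProduct.inl_injective h1
    have h3 : d ∈ D.U := by rw [← h2]; exact mem_zpowers d
    rw [D.memU] at h3
    have h4 := orderOf_dvd_of_pow_eq_one h3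
    rw [hdo] at h4
    have h5 := Nat.le_of_dvd hpp.pos h4
    have h6 := hpp.one_lt
    nlinarith
  -- the centre
  have hcen := S3879.result hp2 hL hmc
  obtain ⟨z, hz⟩ := (hL.to_subgroup (Subgroup.center L)).exists_card_eq
  have hzm : m ≤ z + 2 := by
    have h1 := (Subgroup.center L).card_mul_index
    rw [hz, hcen, hm] at h1
    have h2 : p ^ m ∣ p ^ (z + 2) := by
      rw [← h1, pow_add]
      exact Nat.mul_dvd_mul_left _ (pow_dvd_pow_of_dvd hcomm 2)
    exact (Nat.pow_dvd_pow_iff_le_right hpp.one_lt).mp h2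
  have hzchar : ∀ σ : MulAut L, ∀ w ∈ Subgroup.center L, σ w ∈ Subgroup.center L := by
    intro σ w hw
    rw [Subgroup.mem_center_iff] at hw ⊢
    intro g
    have h1 := hw (σ.symm g)
    have h2 := congrArg σ h1
    rw [map_mul, map_mul, MulEquiv.apply_symm_apply] at h2
    exact h2
  obtain ⟨l, w, hw, hlw⟩ := hUnc
  apply hlw
  have hwc : w ∈ Subgroup.center L := by
    by_cases hzm' : z + 2 ≤ m + 1
    · have h1 := huni2 _ hzchar z hz hzm'
      have h2 : D.U.map (SemidirectProduct.inl : L →* Gp a) ≤
          (Subgroup.center L).map (SemidirectProduct.inl : L →* Gp a) := by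
        rw [hUlcs, h1]
        have h5 : m - z ≤ m - 2 := by omega
        exact Subgroup.lowerCentralSeries_antitone _ h5
      have h3 : (SemidirectProduct.inl w : Gp a) ∈
          (Subgroup.center L).map (SemidirectProduct.inl : L →* Gp a) := h2 ⟨w, hw, rfl⟩
      obtain ⟨w', hw', hww⟩ := h3
      rwa [← SemidirectProduct.inl_injective hww]
    · have h1 : Subgroup.center L = ⊤ := by
        apply Subgroup.eq_top_of_card_eq
        rw [hz, hm]
        have h2 : p ^ z ∣ p ^ m := by rw [← hz, ← hm]; exact Subgroup.card_subgroup_dvd_card _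
        have h3 := (Nat.pow_dvd_pow_iff_le_right hpp.one_lt).mp h2
        congr 1; omega
      rw [h1]; exact Subgroup.mem_top _
  exact Subgroup.mem_center_iff.mp hwc l

end Cfsg.Agent.H513.MetaAut
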