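import Cfsg.Agent.H513.NilpExt

/-!
# Rows HN, Ly of S2242: large `p`-subgroups of the centralizer of the centre of an extraspecial group (helper513)

* `mem_of_extra` : `Q` normal of order `p ^ 5`, `[Q, Q] ≤ ⟨z⟩`, `Z(Q) ≤ ⟨z⟩`, `z` central in `H`, `p ^ 7 ∤ |H|`; then the
  `p`-subgroups of `H` of order at least `p ^ 4` contain `z`;
* `exists_conj_mem_of_extra` : the version for a group containing `C(f)`.
-/

set_option autoImplicit false
set_option linter.unusedSectionVars false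

namespace Cfsg.Agent.H513.NilpTools

open Subgroup
open Cfsg.Agent.H972 Cfsg.Agent.H972.NSm

universe u

theorem mem_of_extra {H : Type u} [Group H] [Finite H] {p : ℕ} (hpp : p.Prime) {z : H} (hzc : ∀ g : H, g * z = z * g)
    (hoz : orderOf z = p) {Q : Subgroup H} (hQn : Q.Normal) (hQcard : Nat.card ↥Q = p ^ 5) (hzQ : z ∈ Q)
    (hQc : ∀ a ∈ Q, ∀ b ∈ Q, (b * a)⁻¹ * (a * b) ∈ zpowers z)
    (hcen : ∀ a ∈ Q, (∀ k ∈ Q, a * k = k * a) → a ∈ zpowers z) (h7 : ¬ p ^ 7 ∣ Nat.card H) {B : Subgroup H}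
    (hB : IsPGroup p ↥B) (hB4 : p ^ 4 ∣ Nat.card ↥B) : z ∈ B := by
  classical
  have : Fact p.Prime := ⟨hpp⟩
  have hp1 := hpp.one_lt
  have hp0 : 0 < p := hpp.pos
  have hcardZ : Nat.card ↥(zpowers z) = p := by rw [Nat.card_zpowers, hoz]
  have hzc' : ∀ {c : H}, c ∈ zpowers z → ∀ g : H, g * c = c * g := by
    intro c hc g
    obtain ⟨k, rfl⟩ := mem_zpowers_iff.1 hc
    exact ((show Commute g z from hzc g).zpow_right k).eq
  have hZ : (zpowers z).Normal := by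
    refine ⟨fun x hx g => ?_⟩
    rw [hzc' hx g, mul_inv_cancel_right]
    exact hx
  have hcp : ∀ {c : H}, c ∈ zpowers z → c ^ p = 1 := by
    intro c hc
    obtain ⟨k, rfl⟩ := mem_zpowers_iff.1 hc
    rw [← zpow_natCast, ← zpow_mul, mul_comm, zpow_mul, zpow_natCast, ← hoz, pow_orderOf_eq_one, one_zpow]
  have z_mem_of : ∀ {B : Subgroup H} {c : H}, c ∈ zpowers z → c ≠ 1 → c ∈ B → z ∈ B := by
    intro B c hc hc1 hcB
    have h1 : zpowers c = zpowers z := by
      refine eq_of_le_of_card_ge (zpowers_le.2 hc) ?_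
      rw [hcardZ, Nat.card_zpowers, orderOf_eq_prime (hcp hc) hc1]
    have h2 : z ∈ zpowers c := by rw [h1]; exact mem_zpowers z
    exact (zpowers_le.2 hcB) h2
  by_contra hzB
  have hQp : IsPGroup p ↥Q := IsPGroup.of_card hQcard
  have hZQ : zpowers z ≤ Q := zpowers_le.2 hzQ
  -- `Q` is not commutative
  obtain ⟨c, d, hcQ, hdQ, hcd⟩ : ∃ c d : H, c ∈ Q ∧ d ∈ Q ∧ c * d ≠ d * c := by
    by_contra hcon
    push Not at hcon
    have h1 : Q ≤ zpowers z := fun a ha => hcen a ha fun k hk => hcon a k ha hk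
    have h2 := Nat.le_of_dvd Nat.card_pos (card_dvd_of_le h1)
    rw [hQcard, hcardZ] at h2
    have h3 : p ^ 1 < p ^ 5 := Nat.pow_lt_pow_right hp1 (by norm_num)
    rw [pow_one] at h3
    omega
  -- `|B ⊓ Q| ≥ p ^ 3`
  set A0 := B ⊓ Q with hA0
  have hA0p : IsPGroup p ↥A0 := hB.to_le inf_le_left
  have hA03 : p ^ 3 ∣ Nat.card ↥A0 := by
    have h1 := card_sup_mul_card_inf B Q
    have h2 : IsPGroup p ↥(B ⊔ Q) := hB.to_sup_of_normal_right hQp
    obtain ⟨j, hj⟩ := IsPGroup.iff_card.1 h2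
    obtain ⟨i, hi⟩ := IsPGroup.iff_card.1 hA0p
    obtain ⟨b, hb⟩ := IsPGroup.iff_card.1 hB
    rw [← hA0, hj, hi, hb, hQcard, ← pow_add, ← pow_add] at h1
    have h3 : j + i = b + 5 := Nat.pow_right_injective hpp.two_le h1
    rw [hb] at hB4
    have h4 : 4 ≤ b := (Nat.pow_dvd_pow_iff_le_right hp1).1 hB4
    have h5 : j ≤ 6 := by
      by_contra h6
      apply h7
      have h8 := card_subgroup_dvd_card (B ⊔ Q)
      rw [hj] at h8
      exact (pow_dvd_pow p (by omega)).trans h8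
    rw [hi]
    exact pow_dvd_pow p (by omega)
  -- `A0` is abelian
  have hA0c : ∀ a ∈ A0, ∀ b ∈ A0, a * b = b * a := by
    intro a ha b hb
    have h1 := hQc a ha.2 b hb.2
    have h2 : (b * a)⁻¹ * (a * b) ∈ B := mul_mem (inv_mem (mul_mem hb.1 ha.1)) (mul_mem ha.1 hb.1)
    by_contra hne
    apply hzB
    refine z_mem_of h1 ?_ h2
    intro h3
    apply hne
    have h4 := inv_mul_eq_one.1 h3
    exact h4.symm
  have hinf : A0 ⊓ zpowers z = ⊥ := by
    rw [eq_bot_iff]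
    rintro x ⟨hx, hxz⟩
    rw [mem_bot]
    by_contra hx1
    exact hzB (z_mem_of hxz hx1 hx.1)
  set A1 := A0 ⊔ zpowers z with hA1'
  have hA1card : Nat.card ↥A1 = Nat.card ↥A0 * p := by
    have h1 := card_sup_mul_card_inf A0 (zpowers z)
    rw [hinf, Subgroup.card_bot, mul_one, hcardZ] at h1
    exact h1
  have hA1Q : A1 ≤ Q := sup_le inf_le_right hZQ
  have hA1c : ∀ a ∈ A1, ∀ b ∈ A1, a * b = b * a := by
    intro a ha b hb
    obtain ⟨a0, ha0, za, hza, rfl⟩ := mem_sup_of_normal_right.1 ha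
    obtain ⟨b0, hb0, zb, hzb, rfl⟩ := mem_sup_of_normal_right.1 hb
    have h1 := hA0c a0 ha0 b0 hb0
    calc a0 * za * (b0 * zb) = a0 * (za * b0) * zb := by simp only [mul_assoc]
      _ = a0 * b0 * (za * zb) := by rw [← hzc' hza b0]; simp only [mul_assoc]
      _ = b0 * a0 * (zb * za) := by rw [h1, hzc' hzb za]
      _ = b0 * (zb * a0) * za := by rw [← hzc' hzb a0]; simp only [mul_assoc]
      _ = b0 * zb * (a0 * za) := by simp only [mul_assoc]
  obtain ⟨g, hgQ, hgA1⟩ : ∃ g ∈ Q, g ∉ A1 := by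
    by_contra hcon
    push Not at hcon
    exact hcd (hA1c c (hcon c hcQ) d (hcon d hdQ))
  -- `⟨A1, g⟩ = Q`
  have hM : A1 ⊔ zpowers g = Q := by
    have hle : A1 ⊔ zpowers g ≤ Q := sup_le hA1Q (zpowers_le.2 hgQ)
    refine eq_of_le_of_card_ge hle ?_
    have hMp : IsPGroup p ↥(A1 ⊔ zpowers g) := hQp.to_le hle
    obtain ⟨m, hm⟩ := IsPGroup.iff_card.1 hMp
    obtain ⟨k, hk⟩ := IsPGroup.iff_card.1 (hQp.to_le hA1Q)
    obtain ⟨i, hi⟩ := IsPGroup.iff_card.1 hA0p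
    have h1 : 3 ≤ i := by
      rw [hi] at hA03
      exact (Nat.pow_dvd_pow_iff_le_right hp1).1 hA03
    have h2 : k = i + 1 := by
      rw [hA1card, hi, ← pow_succ] at hk
      exact (Nat.pow_right_injective hpp.two_le hk).symm
    have h3 : k < m := by
      by_contra h4
      have h5 : Nat.card ↥(A1 ⊔ zpowers g) ≤ Nat.card ↥A1 := by
        rw [hm, hk]
        exact Nat.pow_le_pow_right hp0 (by omega)
      have h6 := eq_of_le_of_card_ge (le_sup_left : A1 ≤ A1 ⊔ zpowers g) h5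
      apply hgA1
      rw [h6]
      exact mem_sup_right (mem_zpowers g)
    rw [hm, hQcard]
    exact Nat.pow_le_pow_right hp0 (by omega)
  -- a nontrivial element of `A0` commuting with `g`
  obtain ⟨a, haA0, ha1, hag⟩ : ∃ a ∈ A0, a ≠ 1 ∧ a * g = g * a := by
    let f : ↥A0 → ↥(zpowers z) := fun a => ⟨((g : H) * a)⁻¹ * (a * g), hQc a a.2.2 g hgQ⟩
    have hlt : Nat.card ↥(zpowers z) < Nat.card ↥A0 := by
      rw [hcardZ]
      have h1 := Nat.le_of_dvd Nat.card_pos hA03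
      have h2 : p < p ^ 3 := by
        calc p = p ^ 1 := (pow_one p).symm
          _ < p ^ 3 := Nat.pow_lt_pow_right hp1 (by norm_num)
      omega
    have hninj : ¬ Function.Injective f := fun hinj => by
      have := Nat.card_le_card_of_injective f hinj
      omega
    rw [Function.Injective] at hninj
    push Not at hninj
    obtain ⟨a, b, hab, hne⟩ := hninj
    have h1 : ((g : H) * a)⁻¹ * (a * g) = (g * (b : H))⁻¹ * (b * g) := congrArg Subtype.val hab
    set c0 := ((g : H) * a)⁻¹ * (a * g) with hc0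
    have hcz : c0 ∈ zpowers z := hQc a a.2.2 g hgQ
    have h2 : (a : H) * g = g * a * c0 := by rw [hc0]; group
    have h3 : (b : H) * g = g * b * c0 := by rw [h1]; group
    refine ⟨(b : H)⁻¹ * a, mul_mem (inv_mem b.2) a.2, ?_, ?_⟩
    · intro h4
      exact hne (Subtype.ext (inv_mul_eq_one.1 h4).symm)
    · rw [mul_assoc, h2]
      have h5 : (b : H)⁻¹ * g = g * c0⁻¹ * (b : H)⁻¹ := by
        rw [inv_mul_eq_iff_eq_mul]
        calc g = (b : H) * g * (b : H)⁻¹ * ((b : H) * g⁻¹ * (b : H)⁻¹ * g) := by group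
          _ = g := by group
          _ = (g * (b : H) * c0) * c0⁻¹ * (b : H)⁻¹ := by group
          _ = (b : H) * g * c0⁻¹ * (b : H)⁻¹ := by rw [← h3]
          _ = (b : H) * (g * c0⁻¹ * (b : H)⁻¹) := by simp only [mul_assoc]
      calc (b : H)⁻¹ * (g * a * c0) = ((b : H)⁻¹ * g) * a * c0 := by simp only [mul_assoc]
        _ = g * c0⁻¹ * (b : H)⁻¹ * a * c0 := by rw [h5]
        _ = g * (c0⁻¹ * ((b : H)⁻¹ * a)) * c0 := by simp only [mul_assoc]
        _ = g * ((b : H)⁻¹ * a * c0⁻¹) * c0 := by rw [← hzc' (inv_mem hcz) ((b : H)⁻¹ * a)]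
        _ = g * ((b : H)⁻¹ * a) := by group
  -- it is central in `Q`
  have haQ : ∀ x ∈ Q, a * x = x * a := by
    have h1 : Q ≤ centralizer ({a} : Set H) := by
      rw [← hM, sup_le_iff, zpowers_le]
      refine ⟨fun x hx => mem_centralizer_singleton_iff.2 ?_, mem_centralizer_singleton_iff.2 hag.symm⟩
      exact hA1c x hx a (le_sup_left (a := A0) haA0)
    intro x hx
    exact (mem_centralizer_singleton_iff.1 (h1 hx)).symm
  exact hzB (z_mem_of (hcen a haA0.2 haQ) ha1 haA0.1)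

/-- **large `p`-subgroups of a group containing `C(f)`** -/
theorem exists_conj_mem_of_extra {G : Type u} [Group G] [Finite G] {p : ℕ} (hp : p.Prime) {f : G} {E : Subgroup G}
    (hof : orderOf f = p) (hE : Nat.card ↥E = p ^ 5) (hfE : f ∈ E) (hcent : ∀ e ∈ E, e * f = f * e)
    (hnorm : ∀ g : G, g * f = f * g → ∀ e ∈ E, g * e * g⁻¹ ∈ E)
    (hcomm : ∀ a ∈ E, ∀ b ∈ E, a * b * a⁻¹ * b⁻¹ ∈ zpowers f)
    (hcen : ∀ a ∈ E, (∀ k ∈ E, a * k = k * a) → a ∈ zpowers f)
    (h6 : p ^ 6 ∣ Nat.card ↥(centralizer ({f} : Set G))) (h7 : ¬ p ^ 7 ∣ Nat.card G) {B : Subgroup G}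
    (hB : IsPGroup p ↥B) (hB4 : p ^ 4 ∣ Nat.card ↥B) : ∃ g : G, g * f * g⁻¹ ∈ B := by
  refine exists_conj_mem_of_big hp h6 h7 ?_ hB hB4
  intro B hBH hBp hBd
  set H := centralizer ({f} : Set G) with hH
  have hfH : f ∈ H := mem_centralizer_singleton_iff.2 rfl
  have hEH : E ≤ H := fun e he => mem_centralizer_singleton_iff.2 (hcent e he)
  have hz : ∀ {a : G} (ha : a ∈ H), a ∈ zpowers f → (⟨a, ha⟩ : ↥H) ∈ zpowers (⟨f, hfH⟩ : ↥H) := by
    intro a ha h1
    obtain ⟨k, hk⟩ := mem_zpowers_iff.1 h1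
    exact mem_zpowers_iff.2 ⟨k, Subtype.ext hk⟩
  have h1 := mem_of_extra (H := ↥H) hp (z := ⟨f, hfH⟩) (fun g => Subtype.ext (mem_centralizer_singleton_iff.1 g.2))
    (by rw [Subgroup.orderOf_mk]; exact hof) (Q := E.subgroupOf H)
    ⟨fun e he g => mem_subgroupOf.2 (hnorm g (mem_centralizer_singleton_iff.1 g.2) e (mem_subgroupOf.1 he))⟩
    (by rw [Nat.card_congr (Subgroup.subgroupOfEquivOfLe hEH).toEquiv]; exact hE) (mem_subgroupOf.2 hfE)
    (fun a ha b hb => by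
      have h2 := hcomm _ (inv_mem (mem_subgroupOf.1 ha)) _ (inv_mem (mem_subgroupOf.1 hb))
      refine hz _ ?_
      have h3 : (((b * a)⁻¹ * (a * b) : ↥H) : G) = (a : G)⁻¹ * (b : G)⁻¹ * (a : G)⁻¹⁻¹ * (b : G)⁻¹⁻¹ := by
        simp only [Subgroup.coe_mul, Subgroup.coe_inv, mul_inv_rev, inv_inv, mul_assoc]
      rw [← h3] at h2
      exact h2)
    (fun a ha hc => hz a.2 (hcen a (mem_subgroupOf.1 ha) fun k hk =>
      congrArg Subtype.val (hc ⟨k, hEH hk⟩ (mem_subgroupOf.2 hk))))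
    (fun hd => h7 (hd.trans (card_subgroup_dvd_card _))) (B := B.subgroupOf H)
    (hBp.comap_of_injective H.subtype H.subtype_injective)
    (by rw [Nat.card_congr (Subgroup.subgroupOfEquivOfLe hBH).toEquiv]; exact hBd)
  exact mem_subgroupOf.1 h1

end Cfsg.Agent.H513.NilpTools
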