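import Cfsg.Agent.H513.NilpExt
import Cfsg.Agent.CpAutHNFive.Main

/-!
# Row HN of S2242, abstract part (helper513)

* `pow_four_dvd` : an elementary abelian normal subgroup on which an extraspecial group `2 ^ {1+4}` acts with its centre
  inverting has order divisible by `p ^ 4`;
* `Ex s z T` : the situation in the centralizer of an element `z` of type II of `HN`;
* `Ex.exists_cr` : the structure `Cr`; `Ex.irr` : the irreducibility.
-/

set_option autoImplicit false
set_option linter.unusedSectionVars false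

namespace Cfsg.Agent.H513.NilpTools

open Subgroup
open Cfsg.Agent.H972 Cfsg.Agent.H972.NSm

universe u

section Four

variable {Q : Type u} [Group Q] [Finite Q]

theorem inv_iff {W : Subgroup Q} {s d w : Q} (hs : ∀ w ∈ W, s * w * s⁻¹ = w⁻¹) (hw : w ∈ W) :
    d * w * d⁻¹ = w⁻¹ ↔ (d * s) * w = w * (d * s) := by
  have h1 : (d * s) * w * (d * s)⁻¹ = (d * w * d⁻¹)⁻¹ := by
    calc (d * s) * w * (d * s)⁻¹ = d * (s * w * s⁻¹) * d⁻¹ := by group
      _ = d * w⁻¹ * d⁻¹ := by rw [hs w hw]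
      _ = _ := by group
  rw [← mul_inv_eq_iff_eq_mul, h1, inv_eq_iff_eq_inv]

theorem pow_four_dvd {p : ℕ} (hp : p.Prime) (hp2 : p ≠ 2) {W : Subgroup Q} [hWn : W.Normal]
    (hc : ∀ a ∈ W, ∀ b ∈ W, a * b = b * a) (hexp : ∀ w ∈ W, w ^ p = 1) (hW1 : W ≠ ⊥) {s d e i j : Q} (hss : s * s = 1)
    (hs : ∀ w ∈ W, s * w * s⁻¹ = w⁻¹) (hdd : d * d = 1) (hds : d * s = s * d) (hes : e * s = s * e)
    (hed : e * d = d * e * s) (hid : i * d = d * i) (hjd : j * d = d * j) (hij : i * j = j * i * s) :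
    p ^ 4 ∣ Nat.card ↥W := by
  classical
  have : Fact p.Prime := ⟨hp⟩
  have hpo : Odd p := hp.odd_of_ne_two hp2
  have hWp : IsPGroup p ↥W := fun a => ⟨1, Subtype.ext (by rw [pow_one]; exact hexp a a.2)⟩
  set P := W ⊓ centralizer ({d} : Set Q) with hP
  set M := W ⊓ centralizer ({d * s} : Set Q) with hM
  -- `|W| = |P| |M|`
  let f : ↥W →* ↥W := MonoidHom.mk' (fun w => ⟨(w : Q) * (d * w * d⁻¹), mul_mem w.2 (hWn.conj_mem w w.2 d)⟩) (by
    intro a b
    apply Subtype.ext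
    change (a : Q) * b * (d * (a * b) * d⁻¹) = a * (d * a * d⁻¹) * (b * (d * b * d⁻¹))
    have h1 : (b : Q) * (d * a * d⁻¹) = (d * a * d⁻¹) * b := hc _ b.2 _ (hWn.conj_mem _ a.2 d)
    calc (a : Q) * b * (d * (a * b) * d⁻¹) = a * (b * (d * a * d⁻¹)) * (d * b * d⁻¹) := by group
      _ = a * ((d * a * d⁻¹) * b) * (d * b * d⁻¹) := by rw [h1]
      _ = _ := by group)
  have hfv : ∀ w : ↥W, ((f w : ↥W) : Q) = (w : Q) * (d * w * d⁻¹) := fun w => rfl
  have hker : f.ker = M.subgroupOf W := by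
    ext w
    rw [MonoidHom.mem_ker, mem_subgroupOf]
    constructor
    · intro h
      have h1 : (w : Q) * (d * w * d⁻¹) = 1 := congrArg Subtype.val h
      refine ⟨w.2, mem_centralizer_singleton_iff.2 ?_⟩
      exact ((inv_iff hs w.2).1 (inv_eq_of_mul_eq_one_right h1).symm).symm
    · intro h
      apply Subtype.ext
      rw [hfv, (inv_iff (d := d) hs w.2).2 (mem_centralizer_singleton_iff.1 h.2).symm, mul_inv_cancel]
      rfl
  have hrange : f.range = P.subgroupOf W := by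
    apply le_antisymm
    · rintro _ ⟨w, rfl⟩
      rw [mem_subgroupOf]
      refine ⟨(f w).2, mem_centralizer_singleton_iff.2 ?_⟩
      rw [hfv]
      have h1 : (w : Q) * (d * w * d⁻¹) = (d * w * d⁻¹) * w := hc _ w.2 _ (hWn.conj_mem _ w.2 d)
      have hd' : d⁻¹ = d := inv_eq_of_mul_eq_one_right hdd
      rw [hd'] at h1 ⊢
      calc (w : Q) * (d * w * d) * d = (w : Q) * d * w * (d * d) := by group
        _ = (w : Q) * d * w := by rw [hdd, mul_one]
        _ = (d * d) * w * d * w := by rw [hdd, one_mul]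
        _ = d * ((d * w * d) * w) := by group
        _ = d * (w * (d * w * d)) := by rw [h1]
    · intro w hw
      rw [mem_subgroupOf] at hw
      have h1 : d * (w : Q) * d⁻¹ = w := by
        rw [← mem_centralizer_singleton_iff.1 hw.2, mul_inv_cancel_right]
      obtain ⟨k, hk⟩ := hpo
      refine ⟨w ^ (k + 1), ?_⟩
      apply Subtype.ext
      rw [hfv]
      have h2 : d * ((w ^ (k + 1) : ↥W) : Q) * d⁻¹ = (w : Q) ^ (k + 1) := by
        rw [Subgroup.coe_pow, ← conj_pow, h1]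
      rw [h2, Subgroup.coe_pow, ← pow_add]
      have h3 : k + 1 + (k + 1) = p + 1 := by omega
      rw [h3, pow_succ, hexp _ w.2, one_mul]
  have hcard : Nat.card ↥W = Nat.card ↥P * Nat.card ↥M := by
    have h1 := Subgroup.card_mul_index f.ker
    rw [Subgroup.index_ker, hker, hrange, Nat.card_congr (Subgroup.subgroupOfEquivOfLe (inf_le_left : P ≤ W)).toEquiv,
      Nat.card_congr (Subgroup.subgroupOfEquivOfLe (inf_le_left : M ≤ W)).toEquiv] at h1
    rw [← h1, mul_comm]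
  -- `|P| = |M|`
  have hPM : P.map (MulAut.conj e).toMonoidHom ≤ M := by
    rintro _ ⟨w, hw, rfl⟩
    refine ⟨hWn.conj_mem w hw.1 e, mem_centralizer_singleton_iff.2 ?_⟩
    change e * w * e⁻¹ * (d * s) = d * s * (e * w * e⁻¹)
    have h1 : w * d = d * w := mem_centralizer_singleton_iff.1 hw.2
    have h2 : d * s = e * d * e⁻¹ := by
      rw [hed, mul_assoc d e s, hes]
      group
    rw [h2]
    calc e * w * e⁻¹ * (e * d * e⁻¹) = e * (w * d) * e⁻¹ := by group
      _ = e * (d * w) * e⁻¹ := by rw [h1]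
      _ = _ := by group
  have hMP : M.map (MulAut.conj e).toMonoidHom ≤ P := by
    rintro _ ⟨w, hw, rfl⟩
    refine ⟨hWn.conj_mem w hw.1 e, mem_centralizer_singleton_iff.2 ?_⟩
    change e * w * e⁻¹ * d = d * (e * w * e⁻¹)
    have h1 : w * (d * s) = d * s * w := mem_centralizer_singleton_iff.1 hw.2
    have h2 : d = e * (d * s) * e⁻¹ := by
      have h3 : e * (d * s) = d * e := by
        rw [← mul_assoc, hed, mul_assoc, hss, mul_one]
      rw [h3]
      group
    rw [h2]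
    calc e * w * e⁻¹ * (e * (d * s) * e⁻¹) = e * (w * (d * s)) * e⁻¹ := by group
      _ = e * (d * s * w) * e⁻¹ := by rw [h1]
      _ = _ := by group
  have hPM' : Nat.card ↥P = Nat.card ↥M := by
    have h1 := Nat.le_of_dvd Nat.card_pos (card_dvd_of_le hPM)
    have h2 := Nat.le_of_dvd Nat.card_pos (card_dvd_of_le hMP)
    rw [card_map_of_injective (MulAut.conj e).injective] at h1 h2
    exact le_antisymm h1 h2
  rw [← hPM'] at hcard
  have hPp : IsPGroup p ↥P := hWp.to_le inf_le_left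
  obtain ⟨k, hk⟩ := IsPGroup.iff_card.1 hPp
  rw [hcard, hk, ← pow_add]
  refine pow_dvd_pow p ?_
  by_contra hlt
  have hk1 : k = 0 ∨ k = 1 := by omega
  rcases hk1 with rfl | rfl
  · rw [pow_zero] at hk
    rw [hk, mul_one] at hcard
    exact hW1 (Subgroup.card_eq_one.1 hcard)
  · rw [pow_one] at hk
    -- the action of `C(d)`
    set C := centralizer ({d} : Set Q) with hC
    let P' : Subgroup ↥C := W.subgroupOf C
    have hP'n : P'.Normal := inferInstance
    have hP'card : Nat.card ↥P' = p := by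
      have h1 : Nat.card ↥(W.subgroupOf C) = Nat.card ↥P := by
        rw [hP, ← Subgroup.inf_subgroupOf_right]
        exact Nat.card_congr (Subgroup.subgroupOfEquivOfLe inf_le_right).toEquiv
      rw [h1, hk]
    have hcyc : IsCyclic ↥P' := isCyclic_of_prime_card hP'card
    let i' : ↥C := ⟨i, mem_centralizer_singleton_iff.2 hid⟩
    let j' : ↥C := ⟨j, mem_centralizer_singleton_iff.2 hjd⟩
    let s' : ↥C := ⟨s, mem_centralizer_singleton_iff.2 hds.symm⟩
    have h1 : i' * j' = j' * i' * s' := Subtype.ext hij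
    let ψ : ↥C →* (ZMod (Nat.card ↥P'))ˣ :=
      (IsCyclic.mulAutMulEquiv ↥P').toMonoidHom.comp (MulAut.conjNormal : ↥C →* MulAut ↥P')
    have h2 : ψ s' = 1 := by
      have h3 := congrArg ψ h1
      rw [map_mul, map_mul, map_mul, mul_comm (ψ i') (ψ j')] at h3
      exact (mul_eq_left.1 h3.symm)
    have h3 : (MulAut.conjNormal s' : MulAut ↥P') = 1 := by
      apply (IsCyclic.mulAutMulEquiv ↥P').injective
      rw [map_one]
      exact h2
    obtain ⟨w, hw⟩ : ∃ w : ↥P', w ≠ 1 := by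
      by_contra hcon
      push Not at hcon
      have h4 : Nat.card ↥P' = 1 := Nat.card_eq_one_iff_unique.2 ⟨⟨fun a b => by rw [hcon a, hcon b]⟩, ⟨1⟩⟩
      rw [hP'card] at h4
      exact hp.one_lt.ne' h4
    have h4 : ((MulAut.conjNormal s' : MulAut ↥P') w : ↥C) = w := by
      rw [h3]; rfl
    rw [MulAut.conjNormal_apply] at h4
    have h5 : s * ((w : ↥C) : Q) * s⁻¹ = (w : ↥C) := congrArg Subtype.val h4
    have hwW : ((w : ↥C) : Q) ∈ W := mem_subgroupOf.1 w.2
    rw [hs _ hwW] at h5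
    apply hw
    apply Subtype.ext
    apply Subtype.ext
    refine ThFive.eq_one_of_sq_odd hpo ?_ (hexp _ hwW)
    nth_rewrite 1 [← h5]
    exact inv_mul_cancel _

end Four

section Ex

variable {H : Type u} [Group H] [Finite H]

theorem Cr.mem_of_inv {s z : H} {p : ℕ} {N : Subgroup H} (h : Cr s z p N) {v : H} (hv : s * v * s⁻¹ = v⁻¹) {m : ℕ}
    (hm : Odd m) (h1 : v ^ m = 1) : v ∈ N := by
  have hn := h.normal
  refine ThFive.odd_pow_mem hm ?_ h1
  have h2 : v ∈ N ⊔ centralizer ({s} : Set H) := by rw [h.sup]; exact mem_top v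
  obtain ⟨n, hn', c, hc, rfl⟩ := mem_sup_of_normal_left.1 h2
  have h3 : c * s = s * c := mem_centralizer_singleton_iff.1 hc
  have h4 : ((n * c) ^ 2)⁻¹ = (s * n * s⁻¹) * n⁻¹ := by
    calc ((n * c) ^ 2)⁻¹ = (n * c)⁻¹ * (n * c)⁻¹ := by rw [pow_two, mul_inv_rev]
      _ = s * (n * c) * s⁻¹ * (n * c)⁻¹ := by rw [hv]
      _ = s * n * (c * s⁻¹) * c⁻¹ * n⁻¹ := by group
      _ = s * n * s⁻¹ * n⁻¹ := by
        have h5 : c * s⁻¹ = s⁻¹ * c := by
          calc c * s⁻¹ = s⁻¹ * (s * c) * s⁻¹ := by group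
            _ = s⁻¹ * c := by rw [← h3]; group
        rw [h5]
        group
  have h5 : ((n * c) ^ 2)⁻¹ ∈ N := by
    rw [h4]
    exact mul_mem (hn.conj_mem n hn' s) (inv_mem hn')
  exact inv_mem_iff.1 h5

/-- the situation in the centralizer of an element of type II of `HN` -/
structure Ex (s z : H) (T : Subgroup H) : Prop where
  os : orderOf s = 2
  cen : z ∈ center H
  oz : orderOf z = 5
  T2 : IsPGroup 2 ↥T
  all : ∀ (u : H) (k : ℕ), u ^ 2 ^ k = 1 → u * s = s * u → u ∈ T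
  ts : ∀ t ∈ T, t * s = s * t
  comm : ∀ a ∈ T, ∀ b ∈ T, a * b = b * a ∨ a * b = b * a * s
  cent : ∀ c ∈ T, (∀ t ∈ T, c * t = t * c) → c = 1 ∨ c = s
  nc : ∀ t ∈ T, orderOf t = 2 → t ≠ s → ∃ a ∈ T, ∃ b ∈ T, a * t = t * a ∧ b * t = t * b ∧ a * b ≠ b * a
  inv : ∃ d ∈ T, orderOf d = 2 ∧ d ≠ s
  odd : ∀ K : Subgroup ↥(centralizer ({s} : Set H)), K.Normal → Odd (Nat.card ↥K) → Nat.card ↥K ∣ 5

namespace Ex

variable {s z : H} {T : Subgroup H} (h : Ex s z T)
include h

theorem ss : s * s = 1 := by rw [← pow_two, ← h.os, pow_orderOf_eq_one]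

theorem s1 : s ≠ 1 := by
  intro e
  have h1 := h.os
  rw [e, orderOf_one] at h1
  norm_num at h1

theorem z_comm (g : H) : g * z = z * g := mem_center_iff.1 h.cen g

theorem exists_cr : ∃ N, Cr s z 5 N := by
  have : Fact (Nat.Prime 2) := ⟨Nat.prime_two⟩
  obtain ⟨N0, hN0, hodd0, hsup0⟩ := CpAutHNFive.exists_odd_sup_of_iso h.os
    (CpAutHNFive.iso_of_extra h.os T h.all h.T2 h.comm h.nc)
  have hZ : (zpowers z).Normal := by
    refine ⟨fun x hx g => ?_⟩
    rw [mem_center_iff.1 ((zpowers_le.2 h.cen) hx) g, mul_inv_cancel_right]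
    exact hx
  have hoddN : Odd (Nat.card ↥(N0 ⊔ zpowers z)) := by
    have h1 : Nat.card ↥N0 * N0.relIndex (N0 ⊔ zpowers z) = Nat.card ↥(N0 ⊔ zpowers z) := by
      rw [← relIndex_bot_left, ← relIndex_bot_left]
      exact relIndex_mul_relIndex ⊥ N0 _ bot_le le_sup_left
    rw [← h1]
    refine hodd0.mul ?_
    rw [sup_comm, relIndex_sup_right]
    refine Odd.of_dvd_nat (by decide : Odd 5) ?_
    rw [← h.oz, ← Nat.card_zpowers]
    exact relIndex_dvd_card _ _
  set N := N0 ⊔ zpowers z with hN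
  have hNn : N.Normal := inferInstance
  have hzC : z ∈ centralizer ({s} : Set H) := mem_centralizer_singleton_iff.2 (h.z_comm s).symm
  refine ⟨N, { prime := Nat.prime_five, ne_two := by norm_num, ss := h.ss, s1 := h.s1, cen := h.cen, oz := h.oz,
               normal := hNn, oddN := hoddN, zN := mem_sup_right (mem_zpowers z), sup := ?_, inf := ?_ }⟩
  · rw [eq_top_iff, ← hsup0]
    exact sup_le_sup_right le_sup_left _
  · have h1 : (N.subgroupOf (centralizer ({s} : Set H))).Normal := inferInstance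
    have h2 : Odd (Nat.card ↥(N.subgroupOf (centralizer ({s} : Set H)))) := by
      refine Odd.of_dvd_nat hoddN ?_
      have e := (N.subgroupOf (centralizer ({s} : Set H))).equivMapOfInjective (centralizer ({s} : Set H)).subtype
        (centralizer ({s} : Set H)).subtype_injective
      rw [Nat.card_congr e.toEquiv, subgroupOf_map_subtype]
      exact card_dvd_of_le inf_le_left
    have h3 := h.odd _ h1 h2
    have h4 : zpowers (⟨z, hzC⟩ : ↥(centralizer ({s} : Set H))) ≤ N.subgroupOf (centralizer ({s} : Set H)) :=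
      zpowers_le.2 (mem_subgroupOf.2 (mem_sup_right (mem_zpowers z)))
    have h5 : zpowers (⟨z, hzC⟩ : ↥(centralizer ({s} : Set H))) = N.subgroupOf (centralizer ({s} : Set H)) := by
      refine eq_of_le_of_card_ge h4 ?_
      rw [Nat.card_zpowers, Subgroup.orderOf_mk, h.oz]
      exact Nat.le_of_dvd (by norm_num) h3
    rintro n ⟨hn, hnC⟩
    have h6 : (⟨n, hnC⟩ : ↥(centralizer ({s} : Set H))) ∈ zpowers (⟨z, hzC⟩ : ↥(centralizer ({s} : Set H))) := by
      rw [h5]
      exact mem_subgroupOf.2 hn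
    obtain ⟨k, hk⟩ := mem_zpowers_iff.1 h6
    exact mem_zpowers_iff.2 ⟨k, congrArg Subtype.val hk⟩

/-- two elements with commutator `s` -/
theorem exists_comm {t : H} (ht : t ∈ T) (ht2 : orderOf t = 2) (hts : t ≠ s) :
    ∃ a ∈ T, ∃ b ∈ T, a * t = t * a ∧ b * t = t * b ∧ a * b = b * a * s := by
  obtain ⟨a, ha, b, hb, h1, h2, h3⟩ := h.nc t ht ht2 hts
  exact ⟨a, ha, b, hb, h1, h2, (h.comm a ha b hb).resolve_left h3⟩

theorem s_mem_commutator : s ∈ commutator H := by
  obtain ⟨d, hd, hd2, hds⟩ := h.inv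
  obtain ⟨a, ha, b, hb, -, -, hab⟩ := h.exists_comm hd hd2 hds
  have h1 := Subgroup.commutator_mem_commutator (G := H) (H₁ := ⊤) (H₂ := ⊤) (g₁ := a⁻¹) (g₂ := b⁻¹)
    (mem_top _) (mem_top _)
  have h2 : a⁻¹ * b⁻¹ * a⁻¹⁻¹ * b⁻¹⁻¹ = s := by
    rw [inv_inv, inv_inv]
    calc a⁻¹ * b⁻¹ * a * b = (b * a)⁻¹ * (a * b) := by group
      _ = (b * a)⁻¹ * (b * a * s) := by rw [hab]
      _ = s := by group
  rw [← h2, _root_.commutator_def]
  exact h1

theorem irr {N : Subgroup H} (hcr : Cr s z 5 N) [hZ : (zpowers z).Normal] :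
    ∀ W : Subgroup (H ⧸ zpowers z), W.Normal → W ≤ N.map (QuotientGroup.mk' (zpowers z)) → (∀ w ∈ W, w ^ 5 = 1) →
      W ≠ ⊥ → 5 ^ 4 ∣ Nat.card ↥W := by
  intro W hWn hWN hW5 hW1
  obtain ⟨d, hd, hd2, hds⟩ := h.inv
  obtain ⟨a, ha, b, hb, had, hbd, hab⟩ := h.exists_comm hd hd2 hds
  obtain ⟨e, he, hed⟩ : ∃ e ∈ T, e * d ≠ d * e := by
    by_contra hcon
    push Not at hcon
    rcases h.cent d hd (fun t ht => (hcon t ht).symm) with h1 | h1
    · rw [h1, orderOf_one] at hd2
      norm_num at hd2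
    · exact hds h1
  have hed' := (h.comm e he d hd).resolve_left hed
  have hdd : d * d = 1 := by rw [← pow_two, ← hd2, pow_orderOf_eq_one]
  obtain ⟨hinv, hcomm⟩ := hcr.quot
  set π := QuotientGroup.mk' (zpowers z) with hπ
  refine pow_four_dvd Nat.prime_five (by norm_num) (W := W) (fun a ha b hb => hcomm a (hWN ha) b (hWN hb)) hW5 hW1
    (s := π s) (d := π d) (e := π e) (i := π a) (j := π b) ?_ (fun w hw => hinv w (hWN hw)) ?_ ?_ ?_ ?_ ?_ ?_ ?_
  · rw [← map_mul, h.ss, map_one]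
  · rw [← map_mul, hdd, map_one]
  · rw [← map_mul, ← map_mul, h.ts d hd]
  · rw [← map_mul, ← map_mul, h.ts e he]
  · rw [← map_mul, ← map_mul, ← map_mul, hed']
  · rw [← map_mul, ← map_mul, had]
  · rw [← map_mul, ← map_mul, hbd]
  · rw [← map_mul, ← map_mul, ← map_mul, hab]

end Ex

end Ex

end Cfsg.Agent.H513.NilpTools
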