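import Cfsg.Agent.H513.NilpHNEx

/-!
# Row HN of S2242: an element of type II with an extraspecial group (helper513)
-/

set_option autoImplicit false
set_option maxRecDepth 100000
set_option linter.unusedSectionVars false

namespace Cfsg.Agent.H513.NilpHN

open Cfsg.Agent.HN.Pres Cfsg.Agent.HN.H0Basic
open Cfsg.Agent.HN.P1408 hiding ψ
open Cfsg.Agent.HN.XWords (W0 W0_sq)
open Cfsg.Agent.HN.NormalH (ψ)
open Cfsg Cfsg.Agent
open Cfsg.Agent.KFacts.HN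
open Cfsg.Agent.CpAutTh.RankOne (UInv)
open Cfsg.Agent.CpAutHNFive Cfsg.Agent.CpAutHNFive.LFive Cfsg.Agent.CpAutHNFive.PFive
open Cfsg.Agent.CpAutHNFive.TFive Cfsg.Agent.CpAutHNFive.HTab Cfsg.Agent.CpAutHNFive.HFacts
open Cfsg.Agent.CpAutHNFive.TauFive Cfsg.Agent.BpSpor.HNFiveA
open Subgroup

/-- `aτ` -/
def ws : List ℕ := [2, 2, 2, 0, 0]
/-- an element of order 5 -/
def wcc : List ℕ := [3, 0, 3, 4, 3, 0, 2, 1, 2, 1, 2, 4, 1, 1, 3, 0, 2, 1, 2, 0, 3, 3, 0, 4, 3, 0, 3, 0, 3, 1, 2, 4, 2, 1,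
  2, 2, 2, 2, 0, 0, 3, 0, 3, 4, 3, 0, 2, 1, 2, 1, 2, 4, 1, 2, 2, 1, 3, 0, 3, 1, 2, 0, 0, 4, 3, 0, 3, 0, 3, 1, 2, 4, 2, 1,
  2, 2, 2, 2, 0, 0]
/-- an element of order 5 -/
def wdd : List ℕ := [3, 0, 3, 4, 3, 0, 2, 1, 2, 1, 2, 4, 1, 1, 2, 0, 2, 2, 0, 4, 3, 0, 3, 0, 3, 1, 2, 4, 2, 1, 2, 2, 2, 2,
  0, 0, 3, 0, 3, 4, 3, 0, 2, 1, 2, 1, 2, 4, 1, 3, 3, 1, 3, 0, 0, 4, 3, 0, 3, 0, 3, 1, 2, 4, 2, 1, 2, 2, 2, 2, 0, 0]

theorem cc_five : hw wcc ^ 5 = 1 := pow_one_of (by decide +kernel)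
theorem dd_five : hw wdd ^ 5 = 1 := pow_one_of (by decide +kernel)
theorem cc_comm : hw wcc * hw w1 = hw w1 * hw wcc := comm_of (by decide +kernel)
theorem dd_comm : hw wdd * hw w1 = hw w1 * hw wdd := comm_of (by decide +kernel)
theorem cc_inv : hw ws * hw wcc * hw ws * hw wcc = 1 := by
  rw [← hw_append, ← hw_append, ← hw_append, ← hw_nil]
  exact hw_eq (by decide +kernel)
theorem dd_inv : hw ws * hw wdd * hw ws * hw wdd = 1 := by
  rw [← hw_append, ← hw_append, ← hw_append, ← hw_nil]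
  exact hw_eq (by decide +kernel)
theorem s_two : hw ws * hw ws = 1 := by
  rw [← hw_append, ← hw_nil]
  exact hw_eq (by decide +kernel)
theorem cc_dd : hw wcc * hw wdd = hw wdd * hw wcc * hw w1 ^ 4 := by
  rw [← hw_rp, ← hw_append, ← hw_append, ← hw_append]
  exact hw_eq (by decide +kernel)

theorem not_comm : hw wcc * hw wdd ≠ hw wdd * hw wcc := by
  intro h
  rw [cc_dd] at h
  have h1 : hw w1 ^ 4 = 1 := mul_eq_left.1 h
  have h2 := w1_five
  rw [pow_succ, h1, one_mul] at h2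
  exact w1_ne h2

theorem ψ_ws : ψ (hw ws) = W0 := by
  rw [hW]
  rfl

/-- **an element of type II** -/
theorem exists_data : ∃ y : PP, orderOf y = 5 ∧ ρ y = φA LFive.c5 * φB (LFive.c5 ^ 3) ∧ ∃ c d : G, c ^ 5 = 1 ∧ d ^ 5 = 1 ∧
    c * y = y * c ∧ d * y = y * d ∧ c * d ≠ d * c ∧ W0 * c * W0⁻¹ = c⁻¹ ∧ W0 * d * W0⁻¹ = d⁻¹ := by
  let x : PP := ⟨ψ (hw w1), w1_PP⟩
  have hox : orderOf (ψ (hw w1)) = 5 := by rw [orderOf_injective _ emb.inj, order_w1]
  have hx : orderOf x = 5 := by rw [← Subgroup.orderOf_coe]; exact hox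
  obtain ⟨g, m, hm1, hm5, h⟩ := conj_std hx
  let y : PP := g * x ^ m * g⁻¹
  have hy5 : orderOf y = 5 := by
    have h1 : orderOf (x ^ m) = 5 := by
      rw [orderOf_pow, hx]
      interval_cases m <;> rfl
    rw [← h1]
    exact MulEquiv.orderOf_eq (MulAut.conj g) _
  have hy : (g : G) * ψ (hw w1) ^ m * (g : G)⁻¹ = (y : G) := rfl
  obtain ⟨e⟩ := cequiv_pow hox hm1 hm5 hy
  have hii : ρ y = φA LFive.c5 * φB (LFive.c5 ^ 3) := by
    rcases h with h | h | h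
    · exfalso
      have h1 := (CpAutTh.RankOne.uInv_of_unique (order_sx y) (unique_one h)).1
      apply not_uInv
      intro a b ha hb hab
      apply e.injective
      apply h1
      · rw [MulEquiv.orderOf_eq, ha]
      · rw [MulEquiv.orderOf_eq, hb]
      · rw [← map_mul, hab, map_mul]
    · exfalso
      have h2 := card_three (x := y) h
      rw [card_pair] at h2
      have h3 : (centralizer ({ψ (hw w1)} : Set G) ⊓ centralizer ({W0} : Set G)).map (MulAut.conj (g : G)).toMonoidHom =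
          centralizer ({(y : G)} : Set G) ⊓ centralizer ({W0} : Set G) := by
        have hgW : (g : G) * W0 * (g : G)⁻¹ = W0 := by rw [mem_PP.1 g.2, mul_inv_cancel_right]
        rw [Subgroup.map_inf _ _ _ (MulAut.conj (g : G)).injective, ← centralizer_pow hox hm1 hm5, map_centralizer,
          map_centralizer, hgW, hy]
      rw [← h3] at h2
      rw [← Nat.card_congr ((centralizer ({ψ (hw w1)} : Set G) ⊓ centralizer ({W0} : Set G)).equivMapOfInjective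
        (MulAut.conj (g : G)).toMonoidHom (MulAut.conj (g : G)).injective).toEquiv] at h2
      have h10 := eight_dvd.trans h2
      norm_num at h10
    · exact h
  have hgW : (g : G) * W0 = W0 * (g : G) := mem_PP.1 g.2
  -- conjugation
  have key5 : ∀ w : List ℕ, hw w ^ 5 = 1 → ((g : G) * ψ (hw w) * (g : G)⁻¹) ^ 5 = 1 := by
    intro w hw5
    rw [conj_pow, ← map_pow, hw5, map_one, mul_one, mul_inv_cancel]
  have keyc : ∀ w : List ℕ, hw w * hw w1 = hw w1 * hw w →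
      ((g : G) * ψ (hw w) * (g : G)⁻¹) * (y : G) = (y : G) * ((g : G) * ψ (hw w) * (g : G)⁻¹) := by
    intro w hwc
    have h1 : ψ (hw w) * ψ (hw w1) ^ m = ψ (hw w1) ^ m * ψ (hw w) := by
      have h2 : ψ (hw w) * ψ (hw w1) = ψ (hw w1) * ψ (hw w) := by rw [← map_mul, hwc, map_mul]
      exact ((show Commute _ _ from h2).pow_right m).eq
    rw [← hy]
    calc (g : G) * ψ (hw w) * (g : G)⁻¹ * ((g : G) * ψ (hw w1) ^ m * (g : G)⁻¹) =
        (g : G) * (ψ (hw w) * ψ (hw w1) ^ m) * (g : G)⁻¹ := by group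
      _ = (g : G) * (ψ (hw w1) ^ m * ψ (hw w)) * (g : G)⁻¹ := by rw [h1]
      _ = _ := by group
  have keyi : ∀ w : List ℕ, hw ws * hw w * hw ws * hw w = 1 →
      W0 * ((g : G) * ψ (hw w) * (g : G)⁻¹) * W0⁻¹ = ((g : G) * ψ (hw w) * (g : G)⁻¹)⁻¹ := by
    intro w hwi
    have hWi : W0⁻¹ = W0 := inv_eq_of_mul_eq_one_right W0_sq
    have hgWi : (g : G)⁻¹ * W0 = W0 * (g : G)⁻¹ := by
      rw [inv_mul_eq_iff_eq_mul, ← mul_assoc, hgW, mul_inv_cancel_right]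
    have h1 : W0 * ψ (hw w) * W0 = (ψ (hw w))⁻¹ := by
      rw [← ψ_ws, ← map_mul, ← map_mul, ← map_inv]
      congr 1
      exact mul_eq_one_iff_eq_inv.1 hwi
    rw [hWi]
    calc W0 * ((g : G) * ψ (hw w) * (g : G)⁻¹) * W0 = (W0 * (g : G)) * ψ (hw w) * ((g : G)⁻¹ * W0) := by group
      _ = (g : G) * (W0 * ψ (hw w) * W0) * (g : G)⁻¹ := by rw [← hgW, hgWi]; group
      _ = _ := by rw [h1]; group
  refine ⟨y, hy5, hii, (g : G) * ψ (hw wcc) * (g : G)⁻¹, (g : G) * ψ (hw wdd) * (g : G)⁻¹, key5 _ cc_five, key5 _ dd_five,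
    keyc _ cc_comm, keyc _ dd_comm, ?_, keyi _ cc_inv, keyi _ dd_inv⟩
  intro h1
  apply not_comm
  apply emb.inj
  rw [map_mul, map_mul]
  have h2 : (g : G) * (ψ (hw wcc) * ψ (hw wdd)) * (g : G)⁻¹ = (g : G) * (ψ (hw wdd) * ψ (hw wcc)) * (g : G)⁻¹ := by
    calc (g : G) * (ψ (hw wcc) * ψ (hw wdd)) * (g : G)⁻¹ =
        (g : G) * ψ (hw wcc) * (g : G)⁻¹ * ((g : G) * ψ (hw wdd) * (g : G)⁻¹) := by group
      _ = (g : G) * ψ (hw wdd) * (g : G)⁻¹ * ((g : G) * ψ (hw wcc) * (g : G)⁻¹) := h1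
      _ = _ := by group
  exact mul_left_cancel (mul_right_cancel h2)

end Cfsg.Agent.H513.NilpHN
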