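import Cfsg.Agent.H513.NilpHNAbs
import Cfsg.Agent.BpSpor.HNFiveA

/-!
# Row HN of S2242: the centralizer of an element of type II (helper513)

* `ex_two` : the structure `Ex` for `C(x)`, `x` of type II;
* `exists_data` : an element of type II with two noncommuting elements of order 5 of `C(x)` inverted by `W0`.
-/

set_option autoImplicit false
set_option maxRecDepth 100000
set_option linter.unusedSectionVars false

namespace Cfsg.Agent.H513.NilpHN

section Inv

open Subgroup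

universe u

/-- an involution `≠ z` -/
theorem exists_inv_ne {G : Type u} [Group G] [Finite G] {T : Subgroup G} {z : G} (hz : z * z = 1)
    (hzc : ∀ t ∈ T, t * z = z * t) (hcomm : ∀ a ∈ T, ∀ b ∈ T, a * b = b * a ∨ a * b = b * a * z)
    (hsq : ∀ a ∈ T, a * a = 1 ∨ a * a = z) (hcard : 8 < Nat.card ↥T) : ∃ d ∈ T, orderOf d = 2 ∧ d ≠ z := by
  have h2F : Fact (Nat.Prime 2) := ⟨Nat.prime_two⟩
  obtain ⟨a, ha, ha1, haz⟩ : ∃ a ∈ T, a ≠ 1 ∧ a ≠ z := by
    by_contra hcon
    push Not at hcon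
    have h1 : T ≤ zpowers z := by
      intro t ht
      by_cases h : t = 1
      · rw [h]; exact one_mem _
      · rw [hcon t ht h]; exact mem_zpowers z
    have h2 := Nat.le_of_dvd Nat.card_pos (card_dvd_of_le h1)
    rw [Nat.card_zpowers] at h2
    have h3 : orderOf z ≤ 2 := orderOf_le_of_pow_eq_one (by norm_num) (by rw [pow_two]; exact hz)
    omega
  rcases hsq a ha with h | h
  · exact ⟨a, ha, orderOf_eq_prime (by rw [pow_two]; exact h) ha1, haz⟩
  · have h1 := CpAutHNFive.card_le_two_mul (K := T) (z := z) (x := a) hz hzc (fun t ht => hcomm a ha t ht)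
    obtain ⟨b, hb, hba⟩ : ∃ b ∈ T ⊓ centralizer ({a} : Set G), b ∉ zpowers a := by
      by_contra hcon
      push Not at hcon
      have h2 := Nat.le_of_dvd Nat.card_pos (card_dvd_of_le (show T ⊓ centralizer ({a} : Set G) ≤ zpowers a from hcon))
      rw [Nat.card_zpowers] at h2
      have h3 : orderOf a ≤ 4 := orderOf_le_of_pow_eq_one (by norm_num) (by
        rw [show (4 : ℕ) = 2 * 2 from rfl, pow_mul, pow_two a, h, pow_two, hz])
      omega
    have hab : b * a = a * b := mem_centralizer_singleton_iff.1 hb.2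
    have hza : z ∈ zpowers a := by
      rw [← h]
      exact mul_mem (mem_zpowers a) (mem_zpowers a)
    rcases hsq b hb.1 with h4 | h4
    · refine ⟨b, hb.1, orderOf_eq_prime (by rw [pow_two]; exact h4) ?_, ?_⟩
      · intro h5
        exact hba (h5 ▸ one_mem _)
      · intro h5
        exact hba (h5 ▸ hza)
    · refine ⟨a * b, mul_mem ha hb.1, orderOf_eq_prime ?_ ?_, ?_⟩
      · rw [pow_two]
        calc a * b * (a * b) = a * (b * a) * b := by group
          _ = (a * a) * (b * b) := by rw [hab]; group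
          _ = 1 := by rw [h, h4, hz]
      · intro h5
        apply hba
        rw [← inv_eq_of_mul_eq_one_right h5]
        exact inv_mem (mem_zpowers a)
      · intro h5
        apply hba
        have h6 : b = a⁻¹ * z := by rw [← h5]; group
        rw [h6]
        exact mul_mem (inv_mem (mem_zpowers a)) hza

end Inv

section Two

open Cfsg.Agent.HN Cfsg.Agent.HN.Pres Cfsg.Agent.HN.P1408 Cfsg.Agent.HN.H0Basic Cfsg.Agent.HN.XMat
open Cfsg.Agent.HN.XStruct Cfsg.Agent.HN.XWords Cfsg.Agent.HN.XQuot Cfsg.Agent.HN.XInst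
open Cfsg.Agent
open Cfsg.Agent.KFacts.HN
open Cfsg.Agent.CpAutHN.PPFacts (isPGroup_ker acts_of_ρ app_eq_of_comm mem_ker_iff sgn0_cases)
open Cfsg.Agent.CpAutHNFive Cfsg.Agent.CpAutHNFive.LFive Cfsg.Agent.CpAutHNFive.PFive Cfsg.Agent.CpAutHNFive.TFive
open Cfsg.Agent.SporadicA.PermTab (band_eq_true allB allB_iff)
open Cfsg.Agent.H513.NilpTools
open Subgroup

/-- the word of `φA (c5 ^ i) φB (c5 ^ j)` -/
def wij (i j : ℕ) : List ℕ := CpAutHNFive.HTab.rp i vA ++ CpAutHNFive.HTab.rp j vB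

theorem e_rp (n : ℕ) (w : List ℕ) : e (CpAutHNFive.HTab.rp n w) = e w ^ n := by
  induction n with
  | zero => rw [pow_zero]; exact e_nil
  | succ n ih =>
    have h : CpAutHNFive.HTab.rp (n + 1) w = w ++ CpAutHNFive.HTab.rp n w := rfl
    rw [h, e_append, ih, pow_succ']

theorem e_wij (i j : ℕ) : φA (c5 ^ i) * φB (c5 ^ j) = e (wij i j) := by
  rw [wij, e_append, e_rp, e_rp, map_pow, map_pow, φA_c5, φB_c5]
  rfl

/-- the elements of `5 × 5` fixing the masks -/
theorem chk : allB (fun i => allB (fun j => !(fixC.all fun m => Nat.beq (app (mw (wij i j)) m) m) ||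
    Nat.beq j (3 * i % 5)) 5) 5 = true := by decide +kernel

theorem eq_of_fix {i j : ℕ} (hi : i < 5) (hj : j < 5) (h : ∀ m ∈ fixC, app (mw (wij i j)) m = m) : j = 3 * i % 5 := by
  have h1 := (allB_iff _ _).1 ((allB_iff _ _).1 chk i hi) j hj
  have h2 : (fixC.all fun m => Nat.beq (app (mw (wij i j)) m) m) = true := by
    rw [List.all_eq_true]
    intro m hm
    rw [h m hm, Nat.beq_refl]
  rw [h2, Bool.not_true, Bool.false_or] at h1
  exact Nat.eq_of_beq_eq_true h1

theorem pow_mod {a : A5} (h : a ^ 5 = 1) (i : ℕ) : a ^ i = a ^ (i % 5) := by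
  conv_lhs => rw [← Nat.div_add_mod i 5, pow_add, pow_mul, h, one_pow, one_mul]

/-- elements of `C(W0) ∩ C(x)` commuting with the elements of `R` commuting with `x` -/
theorem ρ_mem {x u : PP} (hx5 : x ^ 5 = 1) (hx : ρ x = φA c5 * φB (c5 ^ 3)) (hu : u * x = x * u)
    (hc : ∀ m ∈ fixC, (u : Cfsg.Spor.HN) * r Q m = r Q m * u) : ρ u ∈ zpowers (ρ x) := by
  have h1 : ρ u * (φA c5 * φB (c5 ^ 3)) = φA c5 * φB (c5 ^ 3) * ρ u := by rw [← hx, ← map_mul, hu, map_mul]
  obtain ⟨i, j, hij⟩ := exists_pow (mem_LL_of_comm h1) (Or.inr rfl) h1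
  rw [pow_mod c5_pow i, pow_mod c5_pow j] at hij
  have hi : i % 5 < 5 := Nat.mod_lt _ (by norm_num)
  have hj : j % 5 < 5 := Nat.mod_lt _ (by norm_num)
  set i' := i % 5
  set j' := j % 5
  have h2 : j' = 3 * i' % 5 := by
    refine eq_of_fix hi hj fun m hm => ?_
    have hm1 := (mem_fixC.1 hm).1
    refine app_eq_of_comm (x := u) (v := ⟨r Q m, r_mem_PP m⟩) (hij.trans (e_wij i' j')) hm1 (c := false)
      (mul_one _).symm ?_
    exact Subtype.ext (hc m hm).symm
  rw [mem_zpowers_iff]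
  refine ⟨(i' : ℤ), ?_⟩
  have h3 : c5 ^ (3 * i' % 5) = c5 ^ (3 * i') := (pow_mod c5_pow _).symm
  rw [zpow_natCast, hx, pow_AB, ← pow_mul, hij, h2, h3]

/-- **the centralizer of an element of type II** -/
theorem ex_two {x : PP} (hx : orderOf x = 5) (h : ρ x = φA c5 * φB (c5 ^ 3)) :
    Ex (sx x) (⟨(x : G), mem_centralizer_singleton_iff.2 rfl⟩ : ↥(centralizer ({(x : G)} : Set G)))
      (RS.subgroupOf (centralizer ({(x : G)} : Set G))) := by
  have h5 : x ^ 5 = 1 := by rw [← hx, pow_orderOf_eq_one]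
  have hxc : ∀ c : G, c ∈ RS → c * W0 = W0 * c := fun c hc => mem_PP.1 (RS_le_PP hc)
  have hxW : (x : G) * W0 = W0 * x := mem_PP.1 x.2
  have hz2 : W0 * W0 = 1 := W0_sq
  have hall : ∀ (u : ↥(centralizer ({(x : G)} : Set G))) (k : ℕ), u ^ 2 ^ k = 1 → u * sx x = sx x * u →
      u ∈ RS.subgroupOf (centralizer ({(x : G)} : Set G)) := by
    intro u k hk hu
    obtain ⟨v, hvu, hvx⟩ := comm_elt hu
    have h1 : v ^ 2 ^ k = 1 := by
      apply Subtype.ext
      change (v : G) ^ 2 ^ k = 1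
      rw [hvu]
      exact congrArg Subtype.val hk
    have h2 := ρ_two h hvx h1
    rw [mem_subgroupOf, ← hvu]
    exact ⟨v, h2, rfl⟩
  have hT2 : IsPGroup 2 ↥(RS.subgroupOf (centralizer ({(x : G)} : Set G))) := by
    intro u
    obtain ⟨k, hk⟩ := RS_isPGroup ⟨((u : ↥(centralizer ({(x : G)} : Set G))) : G), mem_subgroupOf.1 u.2⟩
    refine ⟨k, Subtype.ext (Subtype.ext ?_)⟩
    have h0 := congrArg Subtype.val hk
    exact h0
  have hcent : ∀ c ∈ RS ⊓ centralizer ({(x : G)} : Set G),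
      (∀ t ∈ RS ⊓ centralizer ({(x : G)} : Set G), c * t = t * c) → c = 1 ∨ c = W0 := by
    intro c hc hcT
    refine large.cent c hc.1 fun y hy => ?_
    refine comm_of_norm (R := RS) (z := W0) (x := (x : G)) order_W0 hxc hxW (congrArg Subtype.val h5)
      (fun r hr => conj_RS x.2 hr) large.comm hc.1 (mem_centralizer_singleton_iff.1 hc.2) ?_ hy
    intro d hd hdx
    exact hcT d ⟨hd, mem_centralizer_singleton_iff.2 hdx⟩
  refine ⟨order_sx x, ?_, ?_, hT2, hall, ?_, ?_, ?_, ?_, ?_, ?_⟩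
  · exact mem_center_iff.2 fun g => Subtype.ext (mem_centralizer_singleton_iff.1 g.2)
  · rw [Subgroup.orderOf_mk, Subgroup.orderOf_coe]
    exact hx
  · intro t ht
    exact Subtype.ext (hxc _ (mem_subgroupOf.1 ht))
  · intro a ha b hb
    rcases large.comm a (mem_subgroupOf.1 ha) b (mem_subgroupOf.1 hb) with h1 | h1
    · exact Or.inl (Subtype.ext h1)
    · exact Or.inr (Subtype.ext h1)
  · intro c hc hcT
    rcases hcent (c : G) ⟨mem_subgroupOf.1 hc, c.2⟩ (fun t ht =>
      congrArg Subtype.val (hcT ⟨t, ht.2⟩ (mem_subgroupOf.2 ht.1))) with h1 | h1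
    · exact Or.inl (Subtype.ext h1)
    · exact Or.inr (Subtype.ext h1)
  · intro s hs hs2 hsz
    obtain ⟨a, ha, b, hb, h1, h2, h3⟩ := CpAutHNFive.exists_not_comm (G := G)
      (T := RS ⊓ centralizer ({(x : G)} : Set G)) (z := W0) (s := (s : G)) hz2 (fun t ht => hxc t ht.1)
      (fun a ha b hb => large.comm a ha.1 b hb.1) hcent (card_two h5 h)
      ⟨mem_subgroupOf.1 hs, s.2⟩ (sq_of_order hs2).2 (fun h => hsz (Subtype.ext h))
    refine ⟨⟨a, ha.2⟩, mem_subgroupOf.2 ha.1, ⟨b, hb.2⟩, mem_subgroupOf.2 hb.1, Subtype.ext h1, Subtype.ext h2, ?_⟩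
    intro h4
    exact h3 (congrArg Subtype.val h4)
  · obtain ⟨d, hd, hd2, hdz⟩ := exists_inv_ne (T := RS ⊓ centralizer ({(x : G)} : Set G)) (z := W0)
      hz2 (fun t ht => hxc t ht.1)
      (fun a ha b hb => large.comm a ha.1 b hb.1) (fun a ha => large.sq a ha.1) (card_two h5 h)
    refine ⟨⟨d, hd.2⟩, mem_subgroupOf.2 hd.1, by rw [Subgroup.orderOf_mk]; exact hd2, fun h => hdz ?_⟩
    exact congrArg Subtype.val h
  · intro K hKn hKo
    -- the elements of `K` commute with `R ∩ C(x)`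
    have hKR : ∀ u ∈ K, ∀ m ∈ fixC, (toPP x u : G) * r Q m = r Q m * (toPP x u : G) := by
      intro u hu m hm
      have hm1 := (mem_fixC.1 hm).1
      have hmx := comm_of_fix h5 h hm
      let t : ↥(centralizer ({sx x} : Set ↥(centralizer ({(x : G)} : Set G)))) :=
        ⟨⟨r Q m, mem_centralizer_singleton_iff.2 hmx⟩, mem_centralizer_singleton_iff.2
          (Subtype.ext (hxc _ (r_mem_RS hm1)))⟩
      have h1 : u * t * u⁻¹ * t⁻¹ ∈ K := by
        have h2 := mul_mem hu (hKn.conj_mem _ (inv_mem hu) t)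
        have h3 : u * (t * u⁻¹ * t⁻¹) = u * t * u⁻¹ * t⁻¹ := by group
        rwa [h3] at h2
      have h2 : (((u * t * u⁻¹ * t⁻¹ : ↥(centralizer ({sx x} : Set ↥(centralizer ({(x : G)} : Set G))))) :
          ↥(centralizer ({(x : G)} : Set G))) : G) ∈ RS := by
        have h3 : (toPP x u : G) * r Q m * (toPP x u : G)⁻¹ ∈ RS := conj_RS (toPP x u).2 (r_mem_RS hm1)
        exact mul_mem h3 (inv_mem (r_mem_RS hm1))
      have h3 : (u * t * u⁻¹ * t⁻¹) = 1 := by
        obtain ⟨k, hk⟩ := RS_isPGroup ⟨_, h2⟩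
        have hk' : (u * t * u⁻¹ * t⁻¹) ^ 2 ^ k = 1 := by
          apply Subtype.ext
          apply Subtype.ext
          have h0 := congrArg Subtype.val hk
          exact h0
        have h4 : (u * t * u⁻¹ * t⁻¹) ^ Nat.card ↥K = 1 :=
          congrArg Subtype.val (pow_card_eq_one' (x := (⟨_, h1⟩ : ↥K)))
        have h6 := pow_gcd_eq_one.2 ⟨hk', h4⟩
        have h7 : Nat.gcd (2 ^ k) (Nat.card ↥K) = 1 := Nat.Coprime.pow_left k (Nat.coprime_two_left.2 hKo)
        rwa [h7, pow_one] at h6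
      have h4 : u * t = t * u := by
        calc u * t = (u * t * u⁻¹ * t⁻¹) * (t * u) := by group
          _ = t * u := by rw [h3, one_mul]
      exact congrArg (fun v : ↥(centralizer ({sx x} : Set ↥(centralizer ({(x : G)} : Set G)))) =>
        ((v : ↥(centralizer ({(x : G)} : Set G))) : G)) h4
    let f : ↥K →* Lq := (fC x).comp K.subtype
    have hfinj : Function.Injective f := by
      rw [injective_iff_map_eq_one]
      intro u hu
      have h1 : (u : ↥(centralizer ({sx x} : Set ↥(centralizer ({(x : G)} : Set G))))) ∈ (fC x).ker := hu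
      obtain ⟨k, hk⟩ := ker_two x ⟨_, h1⟩
      have hk' : (u : ↥(centralizer ({sx x} : Set ↥(centralizer ({(x : G)} : Set G))))) ^ 2 ^ k = 1 :=
        congrArg Subtype.val hk
      have hk2 : u ^ 2 ^ k = 1 := Subtype.ext hk'
      have h4 : u ^ Nat.card ↥K = 1 := pow_card_eq_one'
      have h6 := pow_gcd_eq_one.2 ⟨hk2, h4⟩
      have h7 : Nat.gcd (2 ^ k) (Nat.card ↥K) = 1 := Nat.Coprime.pow_left k (Nat.coprime_two_left.2 hKo)
      rwa [h7, pow_one] at h6
    have hfr : f.range ≤ zpowers (ρ x) := by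
      rintro _ ⟨u, rfl⟩
      exact ρ_mem h5 h (toPP_comm x u) (hKR u u.2)
    have h1 : Nat.card ↥f.range ∣ 5 := by
      have h2 := card_dvd_of_le hfr
      rw [Nat.card_zpowers] at h2
      refine h2.trans (orderOf_dvd_of_pow_eq_one ?_)
      rw [← map_pow, h5, map_one]
    rwa [← Nat.card_congr (MonoidHom.ofInjective hfinj).toEquiv] at h1

/-- `25 ∣ |C(x) ∩ C(W0)|` -/
theorem dvd_card {x : PP} (hx : orderOf x = 5) (h : ρ x = φA c5 * φB (c5 ^ 3)) :
    5 ^ 2 ∣ Nat.card ↥(centralizer ({sx x} : Set ↥(centralizer ({(x : G)} : Set G)))) := by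
  have h1 : Nat.card ↥(fC x).range ∣ Nat.card ↥(centralizer ({sx x} : Set ↥(centralizer ({(x : G)} : Set G)))) :=
    Subgroup.card_range_dvd (fC x)
  refine Dvd.dvd.trans ?_ h1
  have hAB := comm_AB c5 c5
  have hA : φA c5 ∈ (fC x).range := by
    rw [mem_range hx, h, mul_assoc, ← comm_AB]
  have hB : φB c5 ∈ (fC x).range := by
    rw [mem_range hx, h, ← mul_assoc, ← hAB, mul_assoc, mul_assoc, ← map_mul, ← map_mul, ← pow_succ', ← pow_succ]
  have hoA : orderOf (φA c5) = 5 := by rw [orderOf_injective _ φA_inj, c5_order]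
  have hoB : orderOf (φB c5) = 5 := by rw [orderOf_injective _ φB_inj, c5_order]
  have h2 := HFacts.mul_order_dvd (C := ↥(fC x).range) (a := ⟨φA c5, hA⟩) (b := ⟨φB c5, hB⟩) (Subtype.ext hAB)
    (HFacts.inf_eq_bot_of_prime Nat.prime_five (by rw [Subgroup.orderOf_mk, hoA]) (by
      intro h3
      obtain ⟨k, hk⟩ := mem_zpowers_iff.1 h3
      have h4 : φB c5 ^ k = φA c5 := congrArg Subtype.val hk
      rw [← map_zpow] at h4
      have h5 := φ2_inj (a := 1) (b := c5 ^ k) (a' := c5) (b' := 1) (by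
        rw [map_one, map_one, one_mul, mul_one]; exact h4)
      exact c5_ne h5.1.symm))
  rw [Subgroup.orderOf_mk, Subgroup.orderOf_mk, hoA, hoB] at h2
  rwa [pow_two]

end Two

end Cfsg.Agent.H513.NilpHN
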