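import Cfsg.Agent.H972.NSm
import Cfsg.Agent.H956.CDelgado
import Cfsg.Agent.ThFive.Abs
import Cfsg.Agent.H94.Sp.Base

/-!
# Orders of nilpotent subgroups, rows HN, Ly, Th of S2242: tools (helper513)

* `sylow_arith_two` : Sylow arithmetic for a Sylow subgroup of prime order of a simple group, with `e ≥ 2`;
* `allDiv` : a decidable check for all divisors of a factored number;
* `Cr s z p N` : `H = N C_H(s)`, `N` normal of odd order, `N ∩ C_H(s) = ⟨z⟩` central of order `p`;
* `Cr.not_dvd` : a prime `r` with `r ^ 2 ∤ |H|`, `r ∤ |C_H(s)|` does not divide `|H|` if `s` is in the commutator subgroup.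
-/

set_option autoImplicit false
set_option linter.unusedSectionVars false

namespace Cfsg.Agent.H513.NilpTools

open Subgroup
open Cfsg.Agent.H972 Cfsg.Agent.H972.NSm

universe u

/-! ### Sylow arithmetic -/

section Arith

variable {G : Type u} [Group G] [Finite G]

theorem sylow_arith_two [IsSimpleGroup G] {x : G} {s : ℕ} (hs : s.Prime) (hx : orderOf x = s)
    (hsq : ¬ s * s ∣ Nat.card G) (hne : Nat.card G ≠ s) :
    ∃ e, e ∣ s - 1 ∧ 2 ≤ e ∧ Nat.card ↥(centralizer ({x} : Set G)) * e ∣ Nat.card G ∧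
      Nat.card G / (Nat.card ↥(centralizer ({x} : Set G)) * e) % s = 1 % s := by
  classical
  have : Fact s.Prime := ⟨hs⟩
  have hcz : Nat.card ↥(zpowers x) = s := by rw [Nat.card_zpowers, hx]
  have hidx : ¬ s ∣ (zpowers x).index := by
    intro h
    apply hsq
    rw [← Subgroup.card_mul_index (zpowers x), hcz]
    exact Nat.mul_dvd_mul_left s h
  have hP : IsPGroup s ↥(zpowers x) := IsPGroup.of_card (n := 1) (by rw [hcz, pow_one])
  let P : Sylow s G := hP.toSylow hidx
  have hPx : (P : Subgroup G) = zpowers x := rfl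
  let N := normalizer (zpowers x : Set G)
  let C := centralizer ({x} : Set G)
  have key : ∀ g : G, g * x = x * g → ∀ k : ℤ, g * x ^ k * g⁻¹ = x ^ k := fun g hg k => by
    rw [((show Commute g x from hg).zpow_right k).eq, mul_inv_cancel_right]
  have hCN : C ≤ N := by
    intro g hg
    have hgc := mem_centralizer_singleton_iff.1 hg
    change g ∈ normalizer (zpowers x : Set G)
    rw [Subgroup.mem_normalizer_iff]
    intro h
    constructor
    · intro hh
      obtain ⟨k, rfl⟩ := mem_zpowers_iff.1 hh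
      rw [key g hgc]
      exact hh
    · intro hh
      obtain ⟨k, hk⟩ := mem_zpowers_iff.1 hh
      have h1 : h = x ^ k := by
        rw [← key g hgc k] at hk
        have h2 : g * x ^ k * g⁻¹ = g * h * g⁻¹ := hk
        exact (mul_left_cancel (mul_right_cancel h2)).symm
      rw [h1]
      exact zpow_mem (mem_zpowers x) k
  have hNn : ((zpowers x).subgroupOf N).Normal := Subgroup.normal_in_normalizer (H := zpowers x)
  let Z := (zpowers x).subgroupOf N
  let φ : ↥N →* MulAut ↥Z := MulAut.conjNormal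
  have hZc : Nat.card ↥Z = s := by
    rw [Nat.card_congr (Subgroup.subgroupOfEquivOfLe (Subgroup.le_normalizer)).toEquiv, hcz]
  have hker : φ.ker = C.subgroupOf N := by
    ext g
    rw [MonoidHom.mem_ker, mem_subgroupOf, mem_centralizer_singleton_iff]
    constructor
    · intro h
      have h1 : ((φ g ⟨⟨x, Subgroup.le_normalizer (mem_zpowers x)⟩, mem_zpowers x⟩ : ↥Z) : ↥N) =
          (⟨x, Subgroup.le_normalizer (mem_zpowers x)⟩ : ↥N) := by rw [h]; rfl
      have h2 : (g : G) * x * (g : G)⁻¹ = x := congrArg Subtype.val h1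
      calc (g : G) * x = g * x * (g : G)⁻¹ * g := by group
        _ = x * g := by rw [h2]
    · intro h
      apply MulEquiv.ext
      rintro ⟨⟨y, hyN⟩, hy⟩
      apply Subtype.ext
      apply Subtype.ext
      have hy' : y ∈ zpowers x := hy
      obtain ⟨k, rfl⟩ := mem_zpowers_iff.1 hy'
      change (g : G) * x ^ k * (g : G)⁻¹ = x ^ k
      exact key _ h k
  have hcyc : IsCyclic ↥Z := isCyclic_of_prime_card hZc
  have hrange : Nat.card ↥φ.range ∣ s - 1 := by
    have h4 : Nat.card ↥φ.range ∣ Nat.card (MulAut ↥Z) := Subgroup.card_subgroup_dvd_card _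
    rwa [IsCyclic.card_mulAut, hZc, Nat.totient_prime hs] at h4
  have hNcard : Nat.card ↥N = Nat.card ↥C * Nat.card ↥φ.range := by
    rw [← Nat.card_congr (Subgroup.subgroupOfEquivOfLe hCN).toEquiv, ← hker]
    have h1 := Subgroup.card_mul_index φ.ker
    rw [Subgroup.index_ker] at h1
    exact h1.symm
  have htwo : 2 ≤ Nat.card ↥φ.range := by
    by_contra hlt
    have h1 : Nat.card ↥φ.range = 1 := by
      have := Nat.card_pos (α := ↥φ.range)
      omega
    have h2 : N ≤ C := by
      rw [h1, mul_one] at hNcard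
      have h3 := Subgroup.eq_of_le_of_card_ge hCN (by rw [hNcard])
      exact h3.ge
    have h3 : normalizer ((P : Subgroup G) : Set G) ≤ centralizer ((P : Subgroup G) : Set G) := by
      intro g hg
      have hg' : g ∈ C := h2 hg
      rw [mem_centralizer_iff]
      intro y hy
      obtain ⟨k, rfl⟩ := mem_zpowers_iff.1 (show y ∈ zpowers x from hy)
      exact ((show Commute g x from mem_centralizer_singleton_iff.1 hg').zpow_right k).eq.symm
    have h4 := MonoidHom.ker_transferSylow_isComplement' P h3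
    rcases (inferInstance : (MonoidHom.transferSylow P h3).ker.Normal).eq_bot_or_eq_top with h5 | h5
    · rw [h5] at h4
      have h6 : (P : Subgroup G) = ⊤ := Subgroup.isComplement'_bot_left.1 h4
      apply hne
      rw [← Subgroup.card_top (G := G), ← h6, hPx, hcz]
    · rw [h5] at h4
      have h6 : (P : Subgroup G) = ⊥ := Subgroup.isComplement'_top_left.1 h4
      rw [hPx] at h6
      rw [h6, Subgroup.card_bot] at hcz
      exact hs.one_lt.ne hcz
  refine ⟨Nat.card ↥φ.range, hrange, htwo, ?_, ?_⟩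
  · rw [← hNcard]
    exact Subgroup.card_subgroup_dvd_card N
  · rw [← hNcard]
    have h1 : Nat.card (Sylow s G) ≡ 1 [MOD s] := card_sylow_modEq_one s G
    have h2 : Nat.card (Sylow s G) = N.index := by
      rw [Sylow.card_eq_index_normalizer P]
      rfl
    rw [h2] at h1
    have h3 : Nat.card G / Nat.card ↥N = N.index := by
      rw [← Subgroup.card_mul_index N]
      exact Nat.mul_div_cancel_left _ Nat.card_pos
    rw [h3]
    exact h1

/-- an element of the group commuting with no involution has a centralizer of odd order -/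
theorem odd_cent {x : G} (h : ∀ t : G, orderOf t = 2 → t * x ≠ x * t) :
    ¬ 2 ∣ Nat.card ↥(centralizer ({x} : Set G)) := by
  intro hd
  have : Fact (Nat.Prime 2) := ⟨Nat.prime_two⟩
  obtain ⟨t, ht⟩ := exists_prime_orderOf_dvd_card' 2 hd
  exact h (t : G) (by rw [Subgroup.orderOf_coe, ht]) (mem_centralizer_singleton_iff.1 t.2)

/-- elements of order `r` prime to the orders of the centralizers of the involutions -/
theorem odd_cent' {x : G} {r : ℕ} (hx : orderOf x = r)
    (h : ∀ t : G, orderOf t = 2 → ¬ r ∣ Nat.card ↥(centralizer ({t} : Set G))) :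
    ¬ 2 ∣ Nat.card ↥(centralizer ({x} : Set G)) := by
  refine odd_cent fun t ht htx => h t ht ?_
  have h1 := orderOf_dvd_natCard (⟨x, mem_centralizer_singleton_iff.2 htx.symm⟩ : ↥(centralizer ({t} : Set G)))
  rwa [Subgroup.orderOf_mk, hx] at h1

end Arith

/-! ### Divisors -/

/-- `f k` for all `k ≤ n` -/
def allLe : ℕ → (ℕ → Bool) → Bool
  | 0, f => f 0
  | n + 1, f => f (n + 1) && allLe n f

theorem allLe_iff {n : ℕ} {f : ℕ → Bool} (h : allLe n f = true) : ∀ k ≤ n, f k = true := by
  induction n with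
  | zero =>
    intro k hk
    rw [Nat.le_zero.1 hk]
    exact h
  | succ n ih =>
    intro k hk
    have h' : (f (n + 1) && allLe n f) = true := h
    rw [Bool.and_eq_true] at h'
    rcases Nat.lt_or_ge n k with h1 | h1
    · have : k = n + 1 := by omega
      rw [this]
      exact h'.1
    · exact ih h'.2 k h1

/-- check `f` at all products `c * ∏ p ^ i`, `i ≤ a` -/
def allDiv : List (ℕ × ℕ) → ℕ → (ℕ → Bool) → Bool
  | [], c, f => f c
  | (p, a) :: L, c, f => allLe a fun i => allDiv L (c * p ^ i) f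

/-- the product -/
def prodL : List (ℕ × ℕ) → ℕ
  | [] => 1
  | (p, a) :: L => p ^ a * prodL L

theorem allDiv_spec {L : List (ℕ × ℕ)} (hL : ∀ q ∈ L, q.1.Prime) {c : ℕ} {f : ℕ → Bool}
    (h : allDiv L c f = true) {d : ℕ} (hd : d ∣ prodL L) : f (c * d) = true := by
  induction L generalizing c d with
  | nil =>
    have hd' : d ∣ 1 := hd
    rw [Nat.dvd_one.1 hd', mul_one]
    exact h
  | cons q L ih =>
    obtain ⟨p, a⟩ := q
    have hd' : d ∣ p ^ a * prodL L := hd
    obtain ⟨y, w, hy, hw, rfl⟩ := (Nat.dvd_mul).1 hd'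
    obtain ⟨i, hi, rfl⟩ := (Nat.dvd_prime_pow (hL (p, a) List.mem_cons_self)).1 hy
    have h' : allLe a (fun i => allDiv L (c * p ^ i) f) = true := h
    have h1 := allLe_iff h' i hi
    rw [← mul_assoc]
    exact ih (fun q hq => hL q (List.mem_cons_of_mem _ hq)) h1 hw

/-- the admissible orders of centralizers -/
def admB (N r c : ℕ) : Bool :=
  !(allLe (r - 1) fun e => !(Nat.ble 2 e && (Nat.beq ((r - 1) % e) 0 && (Nat.beq (N % (c * e)) 0 &&
    Nat.beq (N / (c * e) % r) 1))))

theorem admB_of {N r c e : ℕ} (hr : r.Prime) (he : e ∣ r - 1) (h2 : 2 ≤ e) (hd : c * e ∣ N)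
    (h : N / (c * e) % r = 1 % r) : admB N r c = true := by
  have hr1 : 0 < r - 1 := by have := hr.two_le; omega
  have hle := Nat.le_of_dvd hr1 he
  unfold admB
  rw [Bool.not_eq_true']
  by_contra hcon
  have h1 := allLe_iff (Bool.eq_true_of_not_eq_false hcon) e hle
  have e1 : Nat.ble 2 e = true := Nat.ble_eq_true_of_le h2
  have e2 : Nat.beq ((r - 1) % e) 0 = true := by rw [Nat.mod_eq_zero_of_dvd he]; rfl
  have e3 : Nat.beq (N % (c * e)) 0 = true := by rw [Nat.mod_eq_zero_of_dvd hd]; rfl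
  have e4 : Nat.beq (N / (c * e) % r) 1 = true := by
    rw [h, Nat.mod_eq_of_lt hr.one_lt]
    rfl
  rw [e1, e2, e3, e4] at h1
  exact absurd h1 (by decide)

/-- the order of the centralizer of an element of prime order `r`, `r ^ 2 ∤ |G|` -/
theorem adm_cent {G : Type u} [Group G] [Finite G] [IsSimpleGroup G] {x : G} {r n : ℕ} (hr : r.Prime)
    (hx : orderOf x = r) (hn : Nat.card G = n) (hsq : ¬ r * r ∣ n) (hne : n ≠ r) (L : List (ℕ × ℕ))
    (hd : Nat.card ↥(centralizer ({x} : Set G)) ∣ r * prodL L) :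
    ∃ m, Nat.card ↥(centralizer ({x} : Set G)) = r * m ∧ m ∣ prodL L ∧ admB n r (r * m) = true := by
  obtain ⟨e, he, h2, h3, h4⟩ := sylow_arith_two hr hx (by rw [hn]; exact hsq) (by rw [hn]; exact hne)
  have h5 : r ∣ Nat.card ↥(centralizer ({x} : Set G)) := by
    have h6 := orderOf_dvd_natCard (⟨x, mem_centralizer_singleton_iff.2 rfl⟩ : ↥(centralizer ({x} : Set G)))
    rwa [Subgroup.orderOf_mk, hx] at h6
  obtain ⟨m, hm⟩ := h5
  refine ⟨m, hm, ?_, ?_⟩
  · rw [hm] at hd
    exact Nat.dvd_of_mul_dvd_mul_left hr.pos hd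
  · rw [hm, hn] at h3 h4
    exact admB_of hr he h2 h3 h4

/-- remove a prime power from a divisibility -/
theorem dvd_drop {c r a m : ℕ} (hr : r.Prime) (h : ¬ r ∣ c) (hd : c ∣ r ^ a * m) : c ∣ m :=
  (((Nat.Prime.coprime_iff_not_dvd hr).2 h).symm.pow_right a).dvd_of_dvd_mul_left hd

/-! ### The structure `N C_H(s)` -/

section Cr

variable {H : Type u} [Group H] [Finite H]

/-- `H = N C_H(s)`, `N` normal of odd order, `N ∩ C_H(s) = ⟨z⟩` central of order `p` -/
structure Cr (s z : H) (p : ℕ) (N : Subgroup H) : Prop where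
  prime : p.Prime
  ne_two : p ≠ 2
  ss : s * s = 1
  s1 : s ≠ 1
  cen : z ∈ center H
  oz : orderOf z = p
  normal : N.Normal
  oddN : Odd (Nat.card ↥N)
  zN : z ∈ N
  sup : N ⊔ centralizer ({s} : Set H) = ⊤
  inf : N ⊓ centralizer ({s} : Set H) ≤ zpowers z

theorem Cr.of_core {s z : H} {p : ℕ} {N : Subgroup H} (h : ThFive.Core s z p N) : Cr s z p N where
  prime := h.prime
  ne_two := h.ne_two
  ss := h.toSit.ss
  s1 := h.toSit.s_ne
  cen := h.cen
  oz := h.oz
  normal := h.normal
  oddN := h.oddN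
  zN := h.zN
  sup := h.sup
  inf := h.inf

namespace Cr

variable {s z : H} {p : ℕ} {N : Subgroup H} (h : Cr s z p N)
include h

theorem podd : Odd p := h.prime.odd_of_ne_two h.ne_two

theorem z_comm (g : H) : g * z = z * g := mem_center_iff.1 h.cen g

theorem zc_comm {c : H} (hc : c ∈ zpowers z) (g : H) : g * c = c * g :=
  mem_center_iff.1 ((zpowers_le.2 h.cen) hc) g

theorem c_pow {c : H} (hc : c ∈ zpowers z) : c ^ p = 1 := by
  obtain ⟨k, rfl⟩ := mem_zpowers_iff.1 hc
  rw [← zpow_natCast, ← zpow_mul, mul_comm, zpow_mul, zpow_natCast, ← h.oz, pow_orderOf_eq_one, one_zpow]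

theorem normalZ : (zpowers z).Normal := by
  refine ⟨fun x hx g => ?_⟩
  rw [h.zc_comm hx g, mul_inv_cancel_right]
  exact hx

theorem order_s : orderOf s = 2 := orderOf_eq_prime (by rw [pow_two]; exact h.ss) h.s1

theorem zC : z ∈ centralizer ({s} : Set H) := mem_centralizer_singleton_iff.2 (h.z_comm s).symm

theorem inf_eq : N ⊓ centralizer ({s} : Set H) = zpowers z :=
  le_antisymm h.inf (zpowers_le.2 ⟨h.zN, h.zC⟩)

theorem cardZ : Nat.card ↥(zpowers z) = p := by rw [Nat.card_zpowers, h.oz]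

theorem p_dvd_N : p ∣ Nat.card ↥N := by
  rw [← h.cardZ]
  exact card_dvd_of_le (zpowers_le.2 h.zN)

theorem p_dvd_C : p ∣ Nat.card ↥(centralizer ({s} : Set H)) := by
  rw [← h.cardZ]
  exact card_dvd_of_le (zpowers_le.2 h.zC)

theorem two_dvd_C : 2 ∣ Nat.card ↥(centralizer ({s} : Set H)) := by
  rw [← h.order_s, ← Nat.card_zpowers]
  exact card_dvd_of_le (zpowers_le.2 (mem_centralizer_singleton_iff.2 rfl))

theorem index_N : N.index = N.relIndex (centralizer ({s} : Set H)) := by
  have hn := h.normal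
  rw [← relIndex_top_right, ← h.sup, sup_comm, relIndex_sup_right]

/-- `|H| p = |N| |C|` -/
theorem card_mul : Nat.card H * p = Nat.card ↥N * Nat.card ↥(centralizer ({s} : Set H)) := by
  have h1 := Subgroup.card_mul_index N
  have h2 := Subgroup.card_mul_index (N.subgroupOf (centralizer ({s} : Set H)))
  have h3 : Nat.card ↥(N.subgroupOf (centralizer ({s} : Set H))) = p := by
    rw [← Subgroup.inf_subgroupOf_right, h.inf_eq, ← h.cardZ]
    exact Nat.card_congr (Subgroup.subgroupOfEquivOfLe (zpowers_le.2 h.zC)).toEquiv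
  have h4 : (N.subgroupOf (centralizer ({s} : Set H))).index = N.index := h.index_N.symm
  rw [h3, h4] at h2
  rw [← h1, ← h2]
  ring

theorem pow_card {n : H} (hn : n ∈ N) : n ^ Nat.card ↥N = 1 :=
  congrArg Subtype.val (pow_card_eq_one' (x := (⟨n, hn⟩ : ↥N)))

/-- the quotient: `s` inverts `N / ⟨z⟩` -/
theorem quot [hZ : (zpowers z).Normal] :
    (∀ w ∈ N.map (QuotientGroup.mk' (zpowers z)), (QuotientGroup.mk' (zpowers z) s) * w *
      (QuotientGroup.mk' (zpowers z) s)⁻¹ = w⁻¹) ∧
    ∀ a ∈ N.map (QuotientGroup.mk' (zpowers z)), ∀ b ∈ N.map (QuotientGroup.mk' (zpowers z)), a * b = b * a := by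
  have hn := h.normal
  have hNn : (N.map (QuotientGroup.mk' (zpowers z))).Normal :=
    hn.map _ (QuotientGroup.mk'_surjective _)
  refine BpSpor.inv_of_free (by rw [← map_mul, h.ss, map_one]) ?_
  rw [eq_bot_iff]
  rintro _ ⟨⟨n, hn', rfl⟩, hc⟩
  have h1 : QuotientGroup.mk' (zpowers z) n * QuotientGroup.mk' (zpowers z) s =
      QuotientGroup.mk' (zpowers z) s * QuotientGroup.mk' (zpowers z) n := mem_centralizer_singleton_iff.1 hc
  rw [← map_mul, ← map_mul] at h1
  have h2 : (n * s)⁻¹ * (s * n) ∈ zpowers z := QuotientGroup.eq.1 h1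
  set c := (n * s)⁻¹ * (s * n) with hcdef
  have h3 : s * n = n * s * c := by rw [hcdef]; group
  have h4 : s * n = n * c * s := by
    rw [h3, mul_assoc, h.zc_comm h2 s, ← mul_assoc]
  have h5 : c * c = 1 := by
    have h6 : n * c * c = n := by
      have h7 : s * (s * n) = n := by rw [← mul_assoc, h.ss, one_mul]
      have h8 : s * (s * n) = n * (c * c) := by
        calc s * (s * n) = s * (n * c * s) := by rw [h4]
          _ = (s * n) * c * s := by simp only [mul_assoc]
          _ = n * c * s * c * s := by rw [h4]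
          _ = n * c * (s * c) * s := by simp only [mul_assoc]
          _ = n * c * (c * s) * s := by rw [h.zc_comm h2 s]
          _ = n * (c * c) * (s * s) := by simp only [mul_assoc]
          _ = n * (c * c) := by rw [h.ss, mul_one]
      rw [mul_assoc, ← h8, h7]
    rw [mul_assoc] at h6
    exact mul_eq_left.1 h6
  have h6 : c = 1 := ThFive.eq_one_of_sq_odd h.podd h5 (h.c_pow h2)
  rw [h6, mul_one] at h4
  have h7 : n ∈ zpowers z := h.inf ⟨hn', mem_centralizer_singleton_iff.2 h4.symm⟩
  rw [mem_bot]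
  exact (QuotientGroup.eq_one_iff n).2 h7

/-- elements of order prime to `|C|` are in `N` -/
theorem mem_N {y : H} {r : ℕ} (hy : y ^ r = 1) (hr : r.Coprime (Nat.card ↥(centralizer ({s} : Set H)))) : y ∈ N := by
  have hn := h.normal
  have h1 : N.index ∣ Nat.card ↥(centralizer ({s} : Set H)) := by
    rw [h.index_N]
    exact relIndex_dvd_card _ _
  have h2 : (QuotientGroup.mk' N y) ^ r = 1 := by rw [← map_pow, hy, map_one]
  have h3 : (QuotientGroup.mk' N y) ^ N.index = 1 := pow_card_eq_one' (x := QuotientGroup.mk' N y)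
  have h4 : (QuotientGroup.mk' N y) ^ Nat.gcd r N.index = 1 := pow_gcd_eq_one.2 ⟨h2, h3⟩
  rw [hr.coprime_dvd_right h1, pow_one] at h4
  exact (QuotientGroup.eq_one_iff y).1 h4

/-- **a prime not dividing `|C|`, not squared in `|H|`** -/
theorem not_dvd {r : ℕ} (hr : r.Prime) (hsq : ¬ r * r ∣ Nat.card H)
    (hC : ¬ r ∣ Nat.card ↥(centralizer ({s} : Set H))) (hs : s ∈ commutator H) : ¬ r ∣ Nat.card H := by
  intro hd
  have : Fact r.Prime := ⟨hr⟩
  have hZ := h.normalZ
  have hr2 : r ≠ 2 := fun e => hC (e ▸ h.two_dvd_C)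
  have hrp : r ≠ p := fun e => hC (e ▸ h.p_dvd_C)
  obtain ⟨y, hy⟩ := exists_prime_orderOf_dvd_card' r hd
  have hyr : y ^ r = 1 := by rw [← hy, pow_orderOf_eq_one]
  have hyN : y ∈ N := h.mem_N hyr ((Nat.Prime.coprime_iff_not_dvd hr).2 hC)
  have hyZ : y ∉ zpowers z := by
    intro h1
    have h2 := h.c_pow h1
    have h3 := orderOf_dvd_of_pow_eq_one h2
    rw [hy] at h3
    exact hrp ((Nat.prime_dvd_prime_iff_eq hr h.prime).1 h3)
  obtain ⟨hinv, hcomm⟩ := h.quot
  set π := QuotientGroup.mk' (zpowers z) with hπ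
  have hn := h.normal
  have hNb : (N.map π).Normal := hn.map _ (QuotientGroup.mk'_surjective _)
  set T := ThFive.tors (N.map π) hcomm r with hT
  have hTn : T.Normal := ThFive.tors_normal hNb
  have hyT : π y ∈ T := ⟨⟨y, hyN, rfl⟩, by rw [← map_pow, hyr, map_one]⟩
  have hy1 : π y ≠ 1 := fun h1 => hyZ ((QuotientGroup.eq_one_iff y).1 h1)
  have hPT : IsPGroup r ↥T := fun a => ⟨1, Subtype.ext (by rw [pow_one]; exact a.2.2)⟩
  -- `|T| = r`
  have hcard : Nat.card ↥T = r := by
    obtain ⟨k, hk⟩ := IsPGroup.iff_card.1 hPT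
    have h1 : Nat.card ↥T ∣ Nat.card H :=
      (card_subgroup_dvd_card T).trans (card_quotient_dvd_card _)
    rw [hk] at h1 ⊢
    rcases Nat.lt_or_ge k 2 with h2 | h2
    · interval_cases k
      · exfalso
        rw [pow_zero] at hk
        have h3 := Subgroup.card_eq_one.1 hk
        rw [h3, mem_bot] at hyT
        exact hy1 hyT
      · rw [pow_one]
    · exfalso
      apply hsq
      rw [← pow_two]
      exact (pow_dvd_pow r h2).trans h1
  have hcyc : IsCyclic ↥T := isCyclic_of_prime_card hcard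
  let ψ : (H ⧸ zpowers z) →* (ZMod (Nat.card ↥T))ˣ :=
    (IsCyclic.mulAutMulEquiv ↥T).toMonoidHom.comp (MulAut.conjNormal : (H ⧸ zpowers z) →* MulAut ↥T)
  have h1 : π s ∈ commutator (H ⧸ zpowers z) := by
    have h2 : (commutator H).map π = commutator (H ⧸ zpowers z) := by
      rw [commutator_def, map_commutator, ← MonoidHom.range_eq_map,
        MonoidHom.range_eq_top.2 (QuotientGroup.mk'_surjective _), commutator_def]
    rw [← h2]
    exact ⟨s, hs, rfl⟩
  have h2 : ψ (π s) = 1 := Abelianization.commutator_subset_ker ψ h1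
  have h3 : (MulAut.conjNormal (π s) : MulAut ↥T) = 1 := by
    apply (IsCyclic.mulAutMulEquiv ↥T).injective
    rw [map_one]
    exact h2
  have h4 : ((MulAut.conjNormal (π s) : MulAut ↥T) ⟨π y, hyT⟩ : H ⧸ zpowers z) = π y := by
    rw [h3]; rfl
  rw [MulAut.conjNormal_apply, hinv _ ⟨y, hyN, rfl⟩] at h4
  apply hy1
  refine ThFive.eq_one_of_sq_odd (hr.odd_of_ne_two hr2) ?_ (by rw [← map_pow, hyr, map_one])
  nth_rewrite 1 [← h4]
  exact inv_mul_cancel _

end Cr

end Cr

end Cfsg.Agent.H513.NilpTools
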